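import Cfsg.Prelude.Def_Classical
/-! Counting zeros of the split quadratic forms. -/
set_option autoImplicit false
set_option linter.unusedSimpArgs false
set_option linter.style.haveILetI false
set_option linter.unusedSectionVars false
namespace Cfsg.Agent.Lead
open Matrix

variable {F : Type*} [Field F] [Fintype F]

/-- Trading a fibre of a non-zero linear form for the base field. -/
noncomputable def fiberEquiv {ι : Type*} [Fintype ι] [DecidableEq ι] (x : ι → F) {i : ι} (hi : x i ≠ 0) (c : F) :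
    (ι → F) ≃ F × {y : ι → F // x ⬝ᵥ y = c} where
  toFun y := (x ⬝ᵥ y, ⟨y + ((c - x ⬝ᵥ y) / x i) • Pi.single i 1, by
    rw [dotProduct_add, dotProduct_smul, dotProduct_single]
    simp; field_simp; ring⟩)
  invFun p := p.2.1 + ((p.1 - c) / x i) • Pi.single i 1
  left_inv y := by
    simp only
    ext k
    simp; field_simp; ring
  right_inv p := by
    obtain ⟨t, y, hy⟩ := p
    simp only [Prod.mk.injEq, Subtype.mk.injEq]
    have h1 : x ⬝ᵥ (y + ((t - c) / x i) • (Pi.single i 1 : ι → F)) = t := by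
      rw [dotProduct_add, dotProduct_smul, dotProduct_single, hy]
      simp; field_simp; ring
    refine ⟨h1, ?_⟩
    rw [h1]
    ext k
    simp; field_simp; ring

/-- The number of solutions of a nonzero linear equation. -/
lemma card_fiber_mul {ι : Type*} [Fintype ι] [DecidableEq ι] (x : ι → F) (hx : x ≠ 0) (c : F) :
    Fintype.card F * Nat.card {y : ι → F // x ⬝ᵥ y = c} = Fintype.card F ^ Fintype.card ι := by
  classical
  obtain ⟨i, hi⟩ : ∃ i, x i ≠ 0 := by
    by_contra h
    push Not at h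
    exact hx (funext h)
  have h := Nat.card_congr (fiberEquiv x hi c)
  rw [Nat.card_prod, Nat.card_eq_fintype_card (α := F)] at h
  rw [← h, Nat.card_eq_fintype_card, Fintype.card_fun]

/-- Solutions of `x ⬝ y = c` summed over all `x`. -/
lemma card_dot_eq_sum (m : ℕ) (c : F) :
    Nat.card {v : Fin m ⊕ Fin m → F // Cfsg.quadFormPlus m F v = c} =
      ∑ x : Fin m → F, Nat.card {y : Fin m → F // x ⬝ᵥ y = c} := by
  classical
  let e : {v : Fin m ⊕ Fin m → F // Cfsg.quadFormPlus m F v = c} ≃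
      Σ x : Fin m → F, {y : Fin m → F // x ⬝ᵥ y = c} :=
    { toFun := fun v => ⟨fun i => v.1 (Sum.inl i), fun i => v.1 (Sum.inr i), v.2⟩
      invFun := fun p => ⟨Sum.elim p.1 p.2.1, p.2.2⟩
      left_inv := fun v => by
        apply Subtype.ext
        funext k
        rcases k with k | k <;> rfl
      right_inv := fun p => rfl }
  rw [Nat.card_congr e, Nat.card_sigma]

/-- `N(c) + q^{m-1}` for the hyperbolic form. -/
theorem card_plus_zero (m : ℕ) (hm : 1 ≤ m) :
    Nat.card {v : Fin m ⊕ Fin m → F // Cfsg.quadFormPlus m F v = 0} + Fintype.card F ^ (m - 1)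
      = Fintype.card F ^ (2 * m - 1) + Fintype.card F ^ m := by
  classical
  rw [card_dot_eq_sum]
  set q := Fintype.card F with hq
  have hq0 : 0 < q := Fintype.card_pos
  have hne : ∀ x : Fin m → F, x ≠ 0 → Nat.card {y : Fin m → F // x ⬝ᵥ y = 0} = q ^ (m - 1) := by
    intro x hx
    have := card_fiber_mul x hx 0
    rw [Fintype.card_fin] at this
    have hm' : q ^ m = q * q ^ (m - 1) := by
      rw [← pow_succ']; congr 1; omega
    rw [hm'] at this
    exact Nat.eq_of_mul_eq_mul_left hq0 this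
  have h0 : Nat.card {y : Fin m → F // (0 : Fin m → F) ⬝ᵥ y = 0} = q ^ m := by
    have : {y : Fin m → F // (0 : Fin m → F) ⬝ᵥ y = 0} ≃ (Fin m → F) :=
      Equiv.subtypeUnivEquiv (fun y => by simp)
    rw [Nat.card_congr this, Nat.card_eq_fintype_card, Fintype.card_fun, Fintype.card_fin]
  have hsplit := Finset.add_sum_erase (Finset.univ : Finset (Fin m → F))
    (fun x => Nat.card {y : Fin m → F // x ⬝ᵥ y = 0}) (Finset.mem_univ 0)
  rw [← hsplit, h0]
  have : ∑ x ∈ Finset.univ.erase (0 : Fin m → F), Nat.card {y : Fin m → F // x ⬝ᵥ y = 0}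
      = (q ^ m - 1) * q ^ (m - 1) := by
    rw [Finset.sum_congr rfl (fun x hx => hne x (Finset.ne_of_mem_erase hx)), Finset.sum_const,
      Finset.card_erase_of_mem (Finset.mem_univ _), Finset.card_univ, Fintype.card_fun,
      Fintype.card_fin, smul_eq_mul]
  rw [this]
  have h1 : 1 ≤ q ^ m := Nat.one_le_pow _ _ hq0
  obtain ⟨k, hk⟩ : ∃ k, q ^ m = k + 1 := ⟨q ^ m - 1, by omega⟩
  have h2 : q ^ (2 * m - 1) = q ^ m * q ^ (m - 1) := by
    rw [← pow_add]; congr 1; omega
  rw [h2, hk]
  simp only [Nat.add_sub_cancel]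
  ring

/-- `N(c) + q^{m-1}` for the hyperbolic form, `c ≠ 0`. -/
theorem card_plus_ne (m : ℕ) (hm : 1 ≤ m) (c : F) (hc : c ≠ 0) :
    Nat.card {v : Fin m ⊕ Fin m → F // Cfsg.quadFormPlus m F v = c} + Fintype.card F ^ (m - 1)
      = Fintype.card F ^ (2 * m - 1) := by
  classical
  rw [card_dot_eq_sum]
  set q := Fintype.card F with hq
  have hq0 : 0 < q := Fintype.card_pos
  have hne : ∀ x : Fin m → F, x ≠ 0 → Nat.card {y : Fin m → F // x ⬝ᵥ y = c} = q ^ (m - 1) := by
    intro x hx
    have := card_fiber_mul x hx c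
    rw [Fintype.card_fin] at this
    have hm' : q ^ m = q * q ^ (m - 1) := by
      rw [← pow_succ']; congr 1; omega
    rw [hm'] at this
    exact Nat.eq_of_mul_eq_mul_left hq0 this
  have h0 : Nat.card {y : Fin m → F // (0 : Fin m → F) ⬝ᵥ y = c} = 0 := by
    have : IsEmpty {y : Fin m → F // (0 : Fin m → F) ⬝ᵥ y = c} :=
      ⟨fun y => hc (by rw [← y.2]; simp)⟩
    exact Nat.card_of_isEmpty
  have hsplit := Finset.add_sum_erase (Finset.univ : Finset (Fin m → F))
    (fun x => Nat.card {y : Fin m → F // x ⬝ᵥ y = c}) (Finset.mem_univ 0)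
  rw [← hsplit, h0]
  have : ∑ x ∈ Finset.univ.erase (0 : Fin m → F), Nat.card {y : Fin m → F // x ⬝ᵥ y = c}
      = (q ^ m - 1) * q ^ (m - 1) := by
    rw [Finset.sum_congr rfl (fun x hx => hne x (Finset.ne_of_mem_erase hx)), Finset.sum_const,
      Finset.card_erase_of_mem (Finset.mem_univ _), Finset.card_univ, Fintype.card_fun,
      Fintype.card_fin, smul_eq_mul]
  rw [this]
  have h1 : 1 ≤ q ^ m := Nat.one_le_pow _ _ hq0
  obtain ⟨k, hk⟩ : ∃ k, q ^ m = k + 1 := ⟨q ^ m - 1, by omega⟩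
  have h2 : q ^ (2 * m - 1) = q ^ m * q ^ (m - 1) := by
    rw [← pow_add]; congr 1; omega
  rw [h2, hk]
  simp only [Nat.add_sub_cancel]
  ring

/-- Values of the hyperbolic form in rank `0`. -/
lemma card_plus_rank_zero_zero :
    Nat.card {v : Fin 0 ⊕ Fin 0 → F // Cfsg.quadFormPlus 0 F v = 0} = 1 := by
  have : Unique {v : Fin 0 ⊕ Fin 0 → F // Cfsg.quadFormPlus 0 F v = 0} :=
    { default := ⟨fun k => by rcases k with k | k <;> exact k.elim0, by simp [Cfsg.quadFormPlus]⟩
      uniq := fun v => by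
        apply Subtype.ext
        funext k
        rcases k with k | k <;> exact k.elim0 }
  exact Nat.card_unique

lemma card_plus_rank_zero_ne (c : F) (h : c ≠ 0) :
    Nat.card {v : Fin 0 ⊕ Fin 0 → F // Cfsg.quadFormPlus 0 F v = c} = 0 := by
  have : IsEmpty {v : Fin 0 ⊕ Fin 0 → F // Cfsg.quadFormPlus 0 F v = c} :=
    ⟨fun v => h (by rw [← v.2]; simp [Cfsg.quadFormPlus])⟩
  exact Nat.card_of_isEmpty

/-- Zeros of the hyperbolic form. -/
theorem card_plus_zeros {q : ℕ} (hF : Fintype.card F = q) (m : ℕ) (hm : 1 ≤ m) :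
    Nat.card {v : Fin m ⊕ Fin m → F // Cfsg.quadFormPlus m F v = 0}
      = q ^ (2 * m - 1) + q ^ m - q ^ (m - 1) := by
  have := card_plus_zero (F := F) m hm
  rw [hF] at this
  omega

/-- Zeros of `x₀² + Σ xᵢyᵢ`. -/
theorem card_odd_zeros {q : ℕ} (hF : Fintype.card F = q) (m : ℕ) :
    Nat.card {v : Unit ⊕ (Fin m ⊕ Fin m) → F // Cfsg.quadFormOdd m F v = 0} = q ^ (2 * m) := by
  classical
  let e : {v : Unit ⊕ (Fin m ⊕ Fin m) → F // Cfsg.quadFormOdd m F v = 0} ≃
      Σ x : F, {w : Fin m ⊕ Fin m → F // Cfsg.quadFormPlus m F w = - x ^ 2} :=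
    { toFun := fun v => ⟨v.1 (Sum.inl ()), fun k => v.1 (Sum.inr k), by
        have := v.2
        simp only [Cfsg.quadFormOdd] at this
        simp only [Cfsg.quadFormPlus]
        linear_combination this⟩
      invFun := fun p => ⟨Sum.elim (fun _ => p.1) p.2.1, by
        have := p.2.2
        simp only [Cfsg.quadFormPlus] at this
        simp only [Cfsg.quadFormOdd, Sum.elim_inl, Sum.elim_inr]
        linear_combination this⟩
      left_inv := fun v => by
        apply Subtype.ext
        funext k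
        rcases k with k | k
        · rfl
        · rfl
      right_inv := fun p => rfl }
  rw [Nat.card_congr e, Nat.card_sigma]
  have hsplit := Finset.add_sum_erase (Finset.univ : Finset F)
    (fun x => Nat.card {w : Fin m ⊕ Fin m → F // Cfsg.quadFormPlus m F w = - x ^ 2}) (Finset.mem_univ 0)
  rw [← hsplit]
  rcases Nat.eq_zero_or_pos m with rfl | hm
  · have h0 : ∀ x ∈ Finset.univ.erase (0 : F),
        Nat.card {w : Fin 0 ⊕ Fin 0 → F // Cfsg.quadFormPlus 0 F w = - x ^ 2} = 0 := by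
      intro x hx
      apply card_plus_rank_zero_ne
      simpa using Finset.ne_of_mem_erase hx
    rw [Finset.sum_eq_zero h0]
    simp only [neg_zero, ne_eq, OfNat.ofNat_ne_zero, not_false_eq_true, zero_pow, add_zero, mul_zero, pow_zero]
    exact card_plus_rank_zero_zero
  · have h0 : ∀ x ∈ Finset.univ.erase (0 : F),
        Nat.card {w : Fin m ⊕ Fin m → F // Cfsg.quadFormPlus m F w = - x ^ 2}
          = q ^ (2 * m - 1) - q ^ (m - 1) := by
      intro x hx
      have hx' : x ≠ 0 := Finset.ne_of_mem_erase hx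
      have := card_plus_ne (F := F) m hm (- x ^ 2) (by simpa using hx')
      rw [hF] at this
      omega
    rw [Finset.sum_congr rfl h0, Finset.sum_const, Finset.card_erase_of_mem (Finset.mem_univ _),
      Finset.card_univ, hF, smul_eq_mul]
    have h1 := card_plus_zero (F := F) m hm
    rw [hF] at h1
    have hq0 : 0 < q := hF ▸ Fintype.card_pos
    simp only [neg_zero, ne_eq, OfNat.ofNat_ne_zero, not_false_eq_true, zero_pow]
    have hq1 : 1 ≤ q := hq0
    obtain ⟨r, rfl⟩ : ∃ r, q = r + 1 := ⟨q - 1, by omega⟩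
    simp only [Nat.add_sub_cancel]
    have h2 : (r + 1) ^ (2 * m) = (r + 1) * (r + 1) ^ (2 * m - 1) := by
      rw [← pow_succ']; congr 1; omega
    have h3 : (r + 1) ^ (2 * m - 1) = (r + 1) ^ m * (r + 1) ^ (m - 1) := by
      rw [← pow_add]; congr 1; omega
    have h4 : (r + 1) ^ m = (r + 1) * (r + 1) ^ (m - 1) := by
      rw [← pow_succ']; congr 1; omega
    set A := (r + 1) ^ (m - 1) with hA
    have hA0 : 0 < A := pow_pos (Nat.succ_pos r) _
    set N := Nat.card {w : Fin m ⊕ Fin m → F // Cfsg.quadFormPlus m F w = 0} with hN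
    rw [h2, h3, h4] at *
    -- `N + A = (r+1) * A * A + (r+1) * A`
    have hle : A ≤ (r + 1) * A * A := by nlinarith
    obtain ⟨B, hB⟩ : ∃ B, (r + 1) * A * A = A + B := ⟨(r + 1) * A * A - A, by omega⟩
    rw [hB] at h1 ⊢
    simp only [Nat.add_sub_cancel_left]
    have hN' : N = B + (r + 1) * A := by omega
    rw [hN']
    have : (r + 1) * (A + B) = B * (r + 1) + (r + 1) * A := by ring
    rw [this]
    ring

/-- Zeros of `Σ xᵢyᵢ + B(z₁,z₂)`, `B` anisotropic. -/
theorem card_minus_zeros {q : ℕ} (hF : Fintype.card F = q) (m : ℕ) (hm : 1 ≤ m) (a b : F)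
    (hab : ∀ z₁ z₂ : F, z₁ ^ 2 + a * z₁ * z₂ + b * z₂ ^ 2 = 0 → z₁ = 0 ∧ z₂ = 0) :
    Nat.card {v : (Fin (m - 1) ⊕ Fin (m - 1)) ⊕ Fin 2 → F // Cfsg.quadFormMinus (m - 1) F a b v = 0}
      = q ^ (2 * m - 1) + q ^ (m - 1) - q ^ m := by
  classical
  obtain ⟨n, rfl⟩ : ∃ n, m = n + 1 := ⟨m - 1, by omega⟩
  change Nat.card {v : (Fin n ⊕ Fin n) ⊕ Fin 2 → F // Cfsg.quadFormMinus n F a b v = 0}
    = q ^ (2 * (n + 1) - 1) + q ^ n - q ^ (n + 1)
  let P : F × F → F := fun z => - (z.1 ^ 2 + a * z.1 * z.2 + b * z.2 ^ 2)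
  let e : {v : (Fin n ⊕ Fin n) ⊕ Fin 2 → F // Cfsg.quadFormMinus n F a b v = 0} ≃
      Σ z : F × F, {w : Fin n ⊕ Fin n → F // Cfsg.quadFormPlus n F w = P z} :=
    { toFun := fun v => ⟨(v.1 (Sum.inr 0), v.1 (Sum.inr 1)), fun k => v.1 (Sum.inl k), by
        have := v.2
        simp only [Cfsg.quadFormMinus] at this
        simp only [Cfsg.quadFormPlus, P]
        linear_combination this⟩
      invFun := fun p => ⟨Sum.elim p.2.1 ![p.1.1, p.1.2], by
        have := p.2.2
        simp only [Cfsg.quadFormPlus, P] at this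
        simp only [Cfsg.quadFormMinus, Sum.elim_inl, Sum.elim_inr]
        simp only [Matrix.cons_val_zero, Matrix.cons_val_one]
        linear_combination this⟩
      left_inv := fun v => by
        apply Subtype.ext
        funext k
        rcases k with k | k
        · rfl
        · fin_cases k <;> rfl
      right_inv := fun p => rfl }
  rw [Nat.card_congr e, Nat.card_sigma]
  have hsplit := Finset.add_sum_erase (Finset.univ : Finset (F × F))
    (fun z => Nat.card {w : Fin n ⊕ Fin n → F // Cfsg.quadFormPlus n F w = P z}) (Finset.mem_univ 0)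
  rw [← hsplit]
  have hP0 : P 0 = 0 := by simp [P]
  have hPne : ∀ z ∈ Finset.univ.erase (0 : F × F), P z ≠ 0 := by
    intro z hz h
    have hz' := Finset.ne_of_mem_erase hz
    apply hz'
    have := hab z.1 z.2 (neg_eq_zero.1 h)
    exact Prod.ext this.1 this.2
  have hcard : (Finset.univ.erase (0 : F × F)).card = q ^ 2 - 1 := by
    rw [Finset.card_erase_of_mem (Finset.mem_univ _), Finset.card_univ, Fintype.card_prod, hF, pow_two]
  have hq0 : 0 < q := hF ▸ Fintype.card_pos
  rcases Nat.eq_zero_or_pos n with rfl | hn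
  · have h0 : ∀ z ∈ Finset.univ.erase (0 : F × F),
        Nat.card {w : Fin 0 ⊕ Fin 0 → F // Cfsg.quadFormPlus 0 F w = P z} = 0 := by
      intro z hz
      exact card_plus_rank_zero_ne _ (hPne z hz)
    rw [Finset.sum_eq_zero h0, hP0, card_plus_rank_zero_zero]
    simp
  · have h0 : ∀ z ∈ Finset.univ.erase (0 : F × F),
        Nat.card {w : Fin n ⊕ Fin n → F // Cfsg.quadFormPlus n F w = P z}
          = q ^ (2 * n - 1) - q ^ (n - 1) := by
      intro z hz
      have := card_plus_ne (F := F) n hn (P z) (hPne z hz)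
      rw [hF] at this
      omega
    rw [Finset.sum_congr rfl h0, Finset.sum_const, hcard, smul_eq_mul, hP0]
    have h1 := card_plus_zero (F := F) n hn
    rw [hF] at h1
    set N := Nat.card {w : Fin n ⊕ Fin n → F // Cfsg.quadFormPlus n F w = 0} with hN
    obtain ⟨r, rfl⟩ : ∃ r, q = r + 1 := ⟨q - 1, by omega⟩
    have h3 : (r + 1) ^ (2 * n - 1) = (r + 1) ^ n * (r + 1) ^ (n - 1) := by
      rw [← pow_add]; congr 1; omega
    have h4 : (r + 1) ^ n = (r + 1) * (r + 1) ^ (n - 1) := by
      rw [← pow_succ']; congr 1; omega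
    have h5 : (r + 1) ^ (2 * (n + 1) - 1) = (r + 1) ^ 2 * ((r + 1) ^ n * (r + 1) ^ (n - 1)) := by
      rw [← pow_add, ← pow_add]; congr 1; omega
    have h6 : (r + 1) ^ (n + 1) = (r + 1) ^ 2 * (r + 1) ^ (n - 1) := by
      rw [← pow_add]; congr 1; omega
    set A := (r + 1) ^ (n - 1) with hA
    have hA0 : 0 < A := pow_pos (Nat.succ_pos r) _
    rw [h3, h4] at h1
    rw [h3, h4, h5, h6, h4]
    have hle : A ≤ (r + 1) * A * A := by nlinarith
    obtain ⟨B, hB⟩ : ∃ B, (r + 1) * A * A = A + B := ⟨(r + 1) * A * A - A, by omega⟩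
    rw [hB] at h1 ⊢
    have hN' : N = B + (r + 1) * A := by omega
    rw [hN']
    simp only [Nat.add_sub_cancel_left]
    have h7 : (r + 1) ^ 2 = (r ^ 2 + 2 * r) + 1 := by ring
    rw [h7]
    simp only [Nat.add_sub_cancel]
    symm
    apply Nat.sub_eq_of_eq_add
    ring

end Cfsg.Agent.Lead
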