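import Cfsg.Agent.Lib.Lead.OrthoFrames
import Cfsg.Agent.Lib.Lead.OrthoBinary
import Cfsg.Agent.Lib.Lead.QuadCount
/-! The orders of the orthogonal groups. -/
set_option autoImplicit false
set_option linter.unusedSimpArgs false
set_option linter.style.haveILetI false
set_option linter.unusedSectionVars false
set_option linter.unusedVariables false
namespace Cfsg.Agent.Lead.Ortho
open Matrix

variable {F : Type*} [Field F] [Fintype F]

/-- Reindexing the product over frames. -/
lemma prod_frames (z : ℕ → ℕ) (q m d : ℕ) :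
    ∏ j ∈ Finset.range m, ((z (m - j) - 1) * q ^ (2 * (m - j - 1) + d)) =
      ∏ n ∈ Finset.range m, ((z (n + 1) - 1) * q ^ (2 * n + d)) := by
  rw [← Finset.prod_range_reflect (fun n => (z (n + 1) - 1) * q ^ (2 * n + d))]
  refine Finset.prod_congr rfl (fun j hj => ?_)
  have hj' := Finset.mem_range.1 hj
  have e1 : m - j = m - 1 - j + 1 := by omega
  have e2 : m - j - 1 = m - 1 - j := by omega
  rw [e2, e1]

lemma cntS_top {V : Type*} [AddCommGroup V] [Module F V] (Q : V → F) (c : F) :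
    cntS Q ⊤ c = Nat.card {v : V // Q v = c} :=
  Nat.card_congr (Equiv.subtypeEquivRight (fun x => by simp))

/-! ### The plus type -/

/-- The polar form of `quadFormPlus`. -/
def polarPlus (m : ℕ) (F : Type*) [Field F] (u v : Fin m ⊕ Fin m → F) : F :=
  ∑ i, (u (.inl i) * v (.inr i) + v (.inl i) * u (.inr i))

lemma qfPlus (m : ℕ) : QF (Cfsg.quadFormPlus m F) (polarPlus m F) where
  add x y := by
    simp only [Cfsg.quadFormPlus, polarPlus, Pi.add_apply, ← Finset.sum_add_distrib]
    exact Finset.sum_congr rfl fun i _ => by ring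
  smul a x := by
    simp only [Cfsg.quadFormPlus, Pi.smul_apply, smul_eq_mul, Finset.mul_sum]
    exact Finset.sum_congr rfl fun i _ => by ring
  add_left x y z := by
    simp only [polarPlus, Pi.add_apply, ← Finset.sum_add_distrib]
    exact Finset.sum_congr rfl fun i _ => by ring
  smul_left a x z := by
    simp only [polarPlus, Pi.smul_apply, smul_eq_mul, Finset.mul_sum]
    exact Finset.sum_congr rfl fun i _ => by ring
  symm x y := by
    simp only [polarPlus]
    exact Finset.sum_congr rfl fun i _ => by ring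

lemma ndPlus (m : ℕ) : ND (polarPlus m F) (⊤ : Submodule F (Fin m ⊕ Fin m → F)) := by
  classical
  intro x _ hx
  obtain ⟨k, hk⟩ : ∃ k, x k ≠ 0 := by
    by_contra hcon
    push Not at hcon
    exact hx (funext hcon)
  rcases k with i | i
  · refine ⟨Pi.single (.inr i) 1, trivial, ?_⟩
    simpa [polarPlus, Pi.single_apply] using hk
  · refine ⟨Pi.single (.inl i) 1, trivial, ?_⟩
    simpa [polarPlus, Pi.single_apply] using hk

/-- Singular vectors, plus type. -/
def zPlus (q : ℕ) : ℕ → ℕ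
  | 0 => 1
  | n + 1 => q ^ (2 * n + 1) + q ^ (n + 1) - q ^ n

lemma zPlus_sub (q : ℕ) (hq : 1 ≤ q) (n : ℕ) :
    zPlus q (n + 1) - 1 = (q ^ (n + 1) - 1) * (q ^ n + 1) := by
  have hx : 1 ≤ q ^ n := Nat.one_le_pow _ _ hq
  obtain ⟨y, hy⟩ : ∃ y, q ^ (n + 1) = y + 1 := ⟨q ^ (n + 1) - 1, by
    have : 1 ≤ q ^ (n + 1) := Nat.one_le_pow _ _ hq
    omega⟩
  have h1 : q ^ (2 * n + 1) = q ^ (n + 1) * q ^ n := by
    rw [← pow_add]; congr 1; ring
  simp only [zPlus]
  rw [h1, hy]
  simp only [Nat.add_sub_cancel]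
  set x := q ^ n
  have : (y + 1) * x + (y + 1) - x - 1 = y * x + y := by
    have e : (y + 1) * x + (y + 1) = y * x + y + x + 1 := by ring
    rw [e]
    omega
  rw [this]
  ring

lemma zPlus_rec (q : ℕ) (hq : 1 ≤ q) (n : ℕ) :
    zPlus q (n + 1) = q * zPlus q n + (q - 1) * q ^ (2 * n + 0) := by
  obtain ⟨r, rfl⟩ : ∃ r, q = r + 1 := ⟨q - 1, by omega⟩
  simp only [Nat.add_sub_cancel, add_zero]
  cases n with
  | zero =>
    simp only [zPlus]
    norm_num
  | succ n =>
    simp only [zPlus]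
    have hx : 1 ≤ (r + 1) ^ n := Nat.one_le_pow _ _ (by omega)
    have e1 : (r + 1) ^ (2 * (n + 1) + 1) = (r + 1) ^ 3 * ((r + 1) ^ n * (r + 1) ^ n) := by
      rw [← pow_add, ← pow_add]; congr 1; ring
    have e2 : (r + 1) ^ (n + 1 + 1) = (r + 1) ^ 2 * (r + 1) ^ n := by
      rw [← pow_add]; congr 1; ring
    have e3 : (r + 1) ^ (n + 1) = (r + 1) * (r + 1) ^ n := by
      rw [pow_succ]; ring
    have e4 : (r + 1) ^ (2 * n + 1) = (r + 1) * ((r + 1) ^ n * (r + 1) ^ n) := by
      rw [← pow_add, ← pow_succ']; congr 1; ring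
    have e5 : (r + 1) ^ (2 * (n + 1)) = (r + 1) ^ 2 * ((r + 1) ^ n * (r + 1) ^ n) := by
      rw [← pow_add, ← pow_add]; congr 1; ring
    rw [e1, e2, e3, e4, e5]
    set x := (r + 1) ^ n
    have hle1 : (r + 1) * x ≤ (r + 1) ^ 3 * (x * x) + (r + 1) ^ 2 * x := by
      have : (r + 1) * x ≤ (r + 1) ^ 2 * x := by nlinarith [Nat.zero_le (r * x), Nat.zero_le (r * r * x)]
      omega
    have hle2 : x ≤ (r + 1) * (x * x) + (r + 1) * x := by
      have : x ≤ (r + 1) * x := Nat.le_mul_of_pos_left _ (Nat.succ_pos r)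
      omega
    zify [hle1, hle2]
    ring

theorem card_GO_plus {q : ℕ} (hF : Fintype.card F = q) (m : ℕ) (hm : 1 ≤ m) :
    Nat.card (Cfsg.isometryGroup F (Cfsg.quadFormPlus m F)) =
      2 * q ^ (m * (m - 1)) * (q ^ m - 1) * ∏ i ∈ Finset.range (m - 1), (q ^ (2 * (i + 1)) - 1) := by
  classical
  have hq1 : 1 ≤ q := hF ▸ Fintype.card_pos
  have h := qfPlus (F := F) m
  have hnd := ndPlus (F := F) m
  let e : (Fin m ⊕ Fin m) ⊕ Empty ≃ Fin m ⊕ Fin m := Equiv.sumEmpty _ _
  let R : (Empty → F) → F := fun _ => 0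
  have hform : ∀ v : Fin m ⊕ Fin m → F, Cfsg.quadFormPlus m F v =
      ∑ i, v (e (.inl (.inl i))) * v (e (.inl (.inr i))) + R (fun j => v (e (.inr j))) := by
    intro v
    simp [Cfsg.quadFormPlus, R, e]
  have hres : ∀ t : FR (Cfsg.quadFormPlus m F) (polarPlus m F) m, Nat.card (Resid h R t.1) = 1 := by
    intro t
    have : Unique (Resid h R t.1) :=
      { default := ⟨fun j => j.elim, fun j => j.elim, fun c => by simp [R, h.Q_zero]⟩
        uniq := fun w => by
          apply Subtype.ext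
          funext j
          exact j.elim }
    exact Nat.card_unique
  rw [card_iso_const e hform h hnd 1 hres, mul_one]
  have hV : Nat.card (Fin m ⊕ Fin m → F) = Fintype.card F ^ (2 * m + 0) := by
    rw [Nat.card_eq_fintype_card, Fintype.card_fun, Fintype.card_sum, Fintype.card_fin]
    congr 1
    ring
  have hz : cntS (Cfsg.quadFormPlus m F) ⊤ 0 = zPlus (Fintype.card F) m := by
    rw [cntS_top]
    obtain ⟨n, rfl⟩ : ∃ n, m = n + 1 := ⟨m - 1, by omega⟩
    rw [card_plus_zeros rfl (n + 1) hm]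
    simp only [zPlus]
    congr 2
  have hrec : ∀ n, zPlus (Fintype.card F) (n + 1) =
      Fintype.card F * zPlus (Fintype.card F) n + (Fintype.card F - 1) * Fintype.card F ^ (2 * n + 0) :=
    zPlus_rec _ Fintype.card_pos
  rw [card_FR h hV hz hrec hnd m le_rfl, prod_frames, hF]
  obtain ⟨M, rfl⟩ : ∃ M, m = M + 1 := ⟨m - 1, by omega⟩
  simp only [Nat.add_sub_cancel, add_zero]
  clear hm hV hz hres hform h hnd
  induction M with
  | zero =>
    simp [zPlus]
    rw [show q + q - 1 - 1 = 2 * (q - 1) by omega]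
  | succ M ih =>
    rw [Finset.prod_range_succ, ih, zPlus_sub q hq1, Finset.prod_range_succ]
    obtain ⟨a, ha⟩ : ∃ a, q ^ (M + 1) = a + 1 := ⟨q ^ (M + 1) - 1, by
      have : 1 ≤ q ^ (M + 1) := Nat.one_le_pow _ _ hq1
      omega⟩
    have e1 : q ^ (2 * (M + 1)) - 1 = a * (a + 2) := by
      rw [show 2 * (M + 1) = (M + 1) + (M + 1) by ring, pow_add, ha]
      have : (a + 1) * (a + 1) = a * (a + 2) + 1 := by ring
      rw [this]
      omega
    have e2 : q ^ (M + 1) - 1 = a := by omega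
    have e3 : q ^ (M + 1) + 1 = a + 2 := by omega
    rw [e1]
    simp only [e2]
    have e4 : q ^ (2 * (M + 1)) = q ^ (M + 1) * q ^ (M + 1) := by
      rw [← pow_add]; congr 1; ring
    have e5 : q ^ ((M + 1 + 1) * (M + 1)) = q ^ ((M + 1) * M) * q ^ (2 * (M + 1)) := by
      rw [← pow_add]; congr 1; ring
    rw [e5, e3]
    ring

/-! ### The odd case -/

/-- The polar form of `quadFormOdd`. -/
def polarOdd (m : ℕ) (F : Type*) [Field F] (u v : Unit ⊕ (Fin m ⊕ Fin m) → F) : F :=
  2 * u (.inl ()) * v (.inl ()) + ∑ i, (u (.inr (.inl i)) * v (.inr (.inr i)) + v (.inr (.inl i)) * u (.inr (.inr i)))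

lemma qfOdd (m : ℕ) : QF (Cfsg.quadFormOdd m F) (polarOdd m F) where
  add x y := by
    simp only [Cfsg.quadFormOdd, polarOdd, Pi.add_apply]
    have : ∑ i : Fin m, (x (.inr (.inl i)) + y (.inr (.inl i))) * (x (.inr (.inr i)) + y (.inr (.inr i))) =
        ∑ i : Fin m, x (.inr (.inl i)) * x (.inr (.inr i)) + ∑ i : Fin m, y (.inr (.inl i)) * y (.inr (.inr i)) +
          ∑ i : Fin m, (x (.inr (.inl i)) * y (.inr (.inr i)) + y (.inr (.inl i)) * x (.inr (.inr i))) := by
      rw [← Finset.sum_add_distrib, ← Finset.sum_add_distrib]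
      exact Finset.sum_congr rfl fun i _ => by ring
    rw [this]
    ring
  smul a x := by
    simp only [Cfsg.quadFormOdd, Pi.smul_apply, smul_eq_mul, mul_add, Finset.mul_sum]
    congr 1
    · ring
    · exact Finset.sum_congr rfl fun i _ => by ring
  add_left x y z := by
    simp only [polarOdd, Pi.add_apply]
    have : ∑ i : Fin m, ((x (.inr (.inl i)) + y (.inr (.inl i))) * z (.inr (.inr i)) +
        z (.inr (.inl i)) * (x (.inr (.inr i)) + y (.inr (.inr i)))) =
        ∑ i : Fin m, (x (.inr (.inl i)) * z (.inr (.inr i)) + z (.inr (.inl i)) * x (.inr (.inr i))) +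
        ∑ i : Fin m, (y (.inr (.inl i)) * z (.inr (.inr i)) + z (.inr (.inl i)) * y (.inr (.inr i))) := by
      rw [← Finset.sum_add_distrib]
      exact Finset.sum_congr rfl fun i _ => by ring
    rw [this]
    ring
  smul_left a x z := by
    simp only [polarOdd, Pi.smul_apply, smul_eq_mul, mul_add, Finset.mul_sum]
    congr 1
    · ring
    · exact Finset.sum_congr rfl fun i _ => by ring
  symm x y := by
    simp only [polarOdd]
    congr 1
    · ring
    · exact Finset.sum_congr rfl fun i _ => by ring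

lemma ndOdd (m : ℕ) (h2 : (2 : F) ≠ 0) :
    ND (polarOdd m F) (⊤ : Submodule F (Unit ⊕ (Fin m ⊕ Fin m) → F)) := by
  classical
  intro x _ hx
  obtain ⟨k, hk⟩ : ∃ k, x k ≠ 0 := by
    by_contra hcon
    push Not at hcon
    exact hx (funext hcon)
  rcases k with ⟨⟩ | i | i
  · refine ⟨Pi.single (.inl ()) 1, trivial, ?_⟩
    simpa [polarOdd, Pi.single_apply, h2] using hk
  · refine ⟨Pi.single (.inr (.inr i)) 1, trivial, ?_⟩
    simpa [polarOdd, Pi.single_apply] using hk
  · refine ⟨Pi.single (.inr (.inl i)) 1, trivial, ?_⟩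
    simpa [polarOdd, Pi.single_apply] using hk

lemma two_ne_zero_of_odd {q : ℕ} (hF : Fintype.card F = q) (hodd : Odd q) : (2 : F) ≠ 0 := by
  intro h2
  have hc : ringChar F = 2 := by
    have : CharP F 2 := by
      have hne : ((2 : ℕ) : F) = 0 := by exact_mod_cast h2
      exact (CharP.ringChar_of_prime_eq_zero Nat.prime_two hne) ▸ ringChar.charP F
    exact ringChar.eq F 2
  have := FiniteField.even_card_of_char_two hc
  rw [hF] at this
  rw [Nat.odd_iff] at hodd
  omega

/-- Vectors of norm one for `quadFormOdd`. -/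
theorem card_odd_ones {q : ℕ} (hF : Fintype.card F = q) (hodd : Odd q) (m : ℕ) :
    Nat.card {v : Unit ⊕ (Fin m ⊕ Fin m) → F // Cfsg.quadFormOdd m F v = 1} = q ^ (2 * m) + q ^ m := by
  classical
  have h2 := two_ne_zero_of_odd hF hodd
  let e : {v : Unit ⊕ (Fin m ⊕ Fin m) → F // Cfsg.quadFormOdd m F v = 1} ≃
      Σ x : F, {w : Fin m ⊕ Fin m → F // Cfsg.quadFormPlus m F w = 1 - x ^ 2} :=
    { toFun := fun v => ⟨v.1 (Sum.inl ()), fun k => v.1 (Sum.inr k), by
        have := v.2
        simp only [Cfsg.quadFormOdd] at this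
        simp only [Cfsg.quadFormPlus]
        linear_combination this⟩
      invFun := fun p => ⟨Sum.elim (fun _ => p.1) p.2.1, by
        have := p.2.2
        simp only [Cfsg.quadFormPlus] at this
        simp only [Cfsg.quadFormOdd, Sum.elim_inl, Sum.elim_inr]
        linear_combination this⟩
      left_inv := fun v => by
        apply Subtype.ext
        funext k
        rcases k with k | k
        · rfl
        · rfl
      right_inv := fun p => rfl }
  rw [Nat.card_congr e, Nat.card_sigma]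
  rw [← Finset.sum_filter_add_sum_filter_not Finset.univ (fun x : F => x ^ 2 = 1)]
  have hA : (Finset.univ.filter (fun x : F => x ^ 2 = 1)).card = 2 := by
    have : Finset.univ.filter (fun x : F => x ^ 2 = 1) = {1, -1} := by
      ext x
      simp [sq_eq_one_iff]
    rw [this, Finset.card_pair]
    intro h
    apply h2
    linear_combination h
  have hB : (Finset.univ.filter (fun x : F => ¬ x ^ 2 = 1)).card + 2 = q := by
    have hc := Finset.card_filter_add_card_filter_not (s := (Finset.univ : Finset F))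
      (fun a : F => a ^ 2 = 1)
    rw [Finset.card_univ, hF, hA] at hc
    omega
  have e1 : ∀ x ∈ Finset.univ.filter (fun x : F => x ^ 2 = 1),
      Nat.card {w : Fin m ⊕ Fin m → F // Cfsg.quadFormPlus m F w = 1 - x ^ 2} =
        Nat.card {w : Fin m ⊕ Fin m → F // Cfsg.quadFormPlus m F w = 0} := by
    intro x hx
    rw [(Finset.mem_filter.1 hx).2, sub_self]
  rw [Finset.sum_congr rfl e1, Finset.sum_const, hA, smul_eq_mul]
  rcases Nat.eq_zero_or_pos m with rfl | hm
  · have h0 : ∀ x ∈ Finset.univ.filter (fun x : F => ¬ x ^ 2 = 1),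
        Nat.card {w : Fin 0 ⊕ Fin 0 → F // Cfsg.quadFormPlus 0 F w = 1 - x ^ 2} = 0 := by
      intro x hx
      apply card_plus_rank_zero_ne
      intro h
      apply (Finset.mem_filter.1 hx).2
      linear_combination -h
    rw [Finset.sum_eq_zero h0, card_plus_rank_zero_zero]
    simp
  · obtain ⟨A, hA1⟩ : ∃ A, A = q ^ (m - 1) := ⟨_, rfl⟩
    have h0 : ∀ x ∈ Finset.univ.filter (fun x : F => ¬ x ^ 2 = 1),
        Nat.card {w : Fin m ⊕ Fin m → F // Cfsg.quadFormPlus m F w = 1 - x ^ 2} =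
          q ^ (2 * m - 1) - A := by
      intro x hx
      have := card_plus_ne (F := F) m hm (1 - x ^ 2) (by
        intro h
        apply (Finset.mem_filter.1 hx).2
        linear_combination -h)
      rw [hF] at this
      rw [hA1]
      omega
    rw [Finset.sum_congr rfl h0, Finset.sum_const, smul_eq_mul]
    have h1 := card_plus_zero (F := F) m hm
    rw [hF, ← hA1] at h1
    have hN1 := card_plus_ne (F := F) m hm 1 one_ne_zero
    rw [hF, ← hA1] at hN1
    set N1 := Nat.card {v : Fin m ⊕ Fin m → F // Cfsg.quadFormPlus m F v = 1}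
    set N0 := Nat.card {v : Fin m ⊕ Fin m → F // Cfsg.quadFormPlus m F v = 0}
    have e2 : q ^ (2 * m - 1) - A = N1 := by omega
    rw [e2]
    have e3 : q ^ (2 * m) = q * q ^ (2 * m - 1) := by
      rw [← pow_succ']; congr 1; omega
    have e4 : q ^ m = q * A := by
      rw [hA1, ← pow_succ']; congr 1; omega
    rw [e4] at h1
    rw [e3, e4, ← hN1]
    have hN0 : N0 = N1 + q * A := by omega
    rw [hN0]
    set s := (Finset.univ.filter (fun x : F => ¬ x ^ 2 = 1)).card
    rw [← hB]
    ring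

lemma closed_odd (q m : ℕ) :
    (∏ n ∈ Finset.range m, ((q ^ (2 * (n + 1)) - 1) * q ^ (2 * n + 1))) * 2 =
      2 * q ^ (m ^ 2) * ∏ i ∈ Finset.range m, (q ^ (2 * (i + 1)) - 1) := by
  induction m with
  | zero => simp
  | succ m ih =>
    rw [Finset.prod_range_succ, Finset.prod_range_succ]
    have e5 : q ^ ((m + 1) ^ 2) = q ^ (m ^ 2) * q ^ (2 * m + 1) := by
      rw [← pow_add]; congr 1; ring
    rw [e5]
    calc _ = ((∏ n ∈ Finset.range m, ((q ^ (2 * (n + 1)) - 1) * q ^ (2 * n + 1))) * 2) *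
          ((q ^ (2 * (m + 1)) - 1) * q ^ (2 * m + 1)) := by ring
      _ = _ := by rw [ih]; ring

theorem card_GO_odd {q : ℕ} (hF : Fintype.card F = q) (hodd : Odd q) (m : ℕ) :
    Nat.card (Cfsg.isometryGroup F (Cfsg.quadFormOdd m F)) =
      2 * q ^ (m ^ 2) * ∏ i ∈ Finset.range m, (q ^ (2 * (i + 1)) - 1) := by
  classical
  have hq1 : 1 ≤ q := hF ▸ Fintype.card_pos
  have h := qfOdd (F := F) m
  have hnd := ndOdd (F := F) m (two_ne_zero_of_odd hF hodd)
  let e : (Fin m ⊕ Fin m) ⊕ Unit ≃ Unit ⊕ (Fin m ⊕ Fin m) := Equiv.sumComm _ _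
  let R : (Unit → F) → F := fun c => (c ()) ^ 2
  have hform : ∀ v : Unit ⊕ (Fin m ⊕ Fin m) → F, Cfsg.quadFormOdd m F v =
      ∑ i, v (e (.inl (.inl i))) * v (e (.inl (.inr i))) + R (fun j => v (e (.inr j))) := by
    intro v
    simp only [Cfsg.quadFormOdd, R, e, Equiv.sumComm_apply, Sum.swap_inl, Sum.swap_inr]
    ring
  have hV : Nat.card (Unit ⊕ (Fin m ⊕ Fin m) → F) = Fintype.card F ^ (2 * m + 1) := by
    rw [Nat.card_eq_fintype_card, Fintype.card_fun, Fintype.card_sum, Fintype.card_sum,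
      Fintype.card_fin, Fintype.card_unit]
    congr 1
    ring
  let z : ℕ → ℕ := fun n => Fintype.card F ^ (2 * n)
  let y : ℕ → ℕ := fun n => Fintype.card F ^ (2 * n) + Fintype.card F ^ n
  have hz : cntS (Cfsg.quadFormOdd m F) ⊤ 0 = z m := by
    rw [cntS_top]
    exact card_odd_zeros rfl m
  have hy : cntS (Cfsg.quadFormOdd m F) ⊤ 1 = y m := by
    rw [cntS_top]
    exact card_odd_ones rfl (by rw [hF]; exact hodd) m
  have hq0 : 1 ≤ Fintype.card F := Fintype.card_pos
  have hrz : ∀ n, z (n + 1) = Fintype.card F * z n +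
      (Fintype.card F - 1) * Fintype.card F ^ (2 * n + 1) := by
    intro n
    obtain ⟨r, hr⟩ : ∃ r, Fintype.card F = r + 1 := ⟨Fintype.card F - 1, by omega⟩
    simp only [z]
    rw [hr, Nat.add_sub_cancel]
    ring
  have hry : ∀ n, y (n + 1) = Fintype.card F * y n +
      (Fintype.card F - 1) * Fintype.card F ^ (2 * n + 1) := by
    intro n
    obtain ⟨r, hr⟩ : ∃ r, Fintype.card F = r + 1 := ⟨Fintype.card F - 1, by omega⟩
    simp only [y]
    rw [hr, Nat.add_sub_cancel]
    ring
  have hres : ∀ t : FR (Cfsg.quadFormOdd m F) (polarOdd m F) m, Nat.card (Resid h R t.1) = 2 := by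
    intro t
    have hc := (perp_data h 1 hV hy hry hnd t.1 t.2 le_rfl).2.1
    rw [Nat.sub_self] at hc
    have e2 : Resid h R t.1 ≃ {x // x ∈ perpOf h t.1 ∧ Cfsg.quadFormOdd m F x = 1} :=
      { toFun := fun w => ⟨w.1 (), w.2.1 (), by
          have := w.2.2 (fun _ => 1)
          simpa [R] using this⟩
        invFun := fun x => ⟨fun _ => x.1, fun _ => x.2.1, fun c => by
          simp only [Fintype.sum_unique, PUnit.default_eq_unit, R]
          rw [h.smul, x.2.2, mul_one]⟩
        left_inv := fun w => by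
          apply Subtype.ext
          rfl
        right_inv := fun x => rfl }
    rw [Nat.card_congr e2]
    have : cntS (Cfsg.quadFormOdd m F) (perpOf h t.1) 1 = 2 := by
      rw [hc]
      simp [y]
    exact this
  rw [card_iso_const e hform h hnd 2 hres, card_FR h hV hz hrz hnd m le_rfl, prod_frames, hF]
  simp only [z, hF]
  exact closed_odd q m

/-! ### The minus type -/

/-- The polar form of `quadFormMinus`. -/
def polarMinus (m : ℕ) (F : Type*) [Field F] (a b : F) (u v : (Fin m ⊕ Fin m) ⊕ Fin 2 → F) : F :=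
  (∑ i, (u (.inl (.inl i)) * v (.inl (.inr i)) + v (.inl (.inl i)) * u (.inl (.inr i)))) +
    (2 * u (.inr 0) * v (.inr 0) + a * (u (.inr 0) * v (.inr 1) + u (.inr 1) * v (.inr 0)) +
      2 * b * u (.inr 1) * v (.inr 1))

lemma qfMinus (m : ℕ) (a b : F) : QF (Cfsg.quadFormMinus m F a b) (polarMinus m F a b) where
  add x y := by
    simp only [Cfsg.quadFormMinus, polarMinus, Pi.add_apply]
    have : ∑ i : Fin m, (x (.inl (.inl i)) + y (.inl (.inl i))) * (x (.inl (.inr i)) + y (.inl (.inr i))) =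
        ∑ i : Fin m, x (.inl (.inl i)) * x (.inl (.inr i)) + ∑ i : Fin m, y (.inl (.inl i)) * y (.inl (.inr i)) +
          ∑ i : Fin m, (x (.inl (.inl i)) * y (.inl (.inr i)) + y (.inl (.inl i)) * x (.inl (.inr i))) := by
      rw [← Finset.sum_add_distrib, ← Finset.sum_add_distrib]
      exact Finset.sum_congr rfl fun i _ => by ring
    rw [this]
    ring
  smul c x := by
    simp only [Cfsg.quadFormMinus, Pi.smul_apply, smul_eq_mul, mul_add, Finset.mul_sum]
    congr 1
    · exact Finset.sum_congr rfl fun i _ => by ring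
    · ring
  add_left x y z := by
    simp only [polarMinus, Pi.add_apply]
    have : ∑ i : Fin m, ((x (.inl (.inl i)) + y (.inl (.inl i))) * z (.inl (.inr i)) +
        z (.inl (.inl i)) * (x (.inl (.inr i)) + y (.inl (.inr i)))) =
        ∑ i : Fin m, (x (.inl (.inl i)) * z (.inl (.inr i)) + z (.inl (.inl i)) * x (.inl (.inr i))) +
        ∑ i : Fin m, (y (.inl (.inl i)) * z (.inl (.inr i)) + z (.inl (.inl i)) * y (.inl (.inr i))) := by
      rw [← Finset.sum_add_distrib]
      exact Finset.sum_congr rfl fun i _ => by ring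
    rw [this]
    ring
  smul_left c x z := by
    simp only [polarMinus, Pi.smul_apply, smul_eq_mul, mul_add, Finset.mul_sum]
    congr 1
    · exact Finset.sum_congr rfl fun i _ => by ring
    · ring
  symm x y := by
    simp only [polarMinus]
    congr 1
    · exact Finset.sum_congr rfl fun i _ => by ring
    · ring

lemma ndMinus (m : ℕ) (a b : F)
    (hab : ∀ z₁ z₂ : F, z₁ ^ 2 + a * z₁ * z₂ + b * z₂ ^ 2 = 0 → z₁ = 0 ∧ z₂ = 0) :
    ND (polarMinus m F a b) (⊤ : Submodule F ((Fin m ⊕ Fin m) ⊕ Fin 2 → F)) := by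
  classical
  intro x _ hx
  by_contra hcon
  push Not at hcon
  have h1 : ∀ i, x (.inl (.inl i)) = 0 := fun i => by
    have := hcon (Pi.single (.inl (.inr i)) 1) trivial
    simpa [polarMinus, Pi.single_apply] using this
  have h2 : ∀ i, x (.inl (.inr i)) = 0 := fun i => by
    have := hcon (Pi.single (.inl (.inl i)) 1) trivial
    simpa [polarMinus, Pi.single_apply] using this
  have h3 : 2 * x (.inr 0) + a * x (.inr 1) = 0 := by
    have := hcon (Pi.single (.inr 0) 1) trivial
    simpa [polarMinus, Pi.single_apply] using this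
  have h4 : a * x (.inr 0) + 2 * b * x (.inr 1) = 0 := by
    have := hcon (Pi.single (.inr 1) 1) trivial
    simpa [polarMinus, Pi.single_apply] using this
  have h5 : x (.inr 0) ≠ 0 ∨ x (.inr 1) ≠ 0 := by
    by_contra hcon2
    push Not at hcon2
    apply hx
    funext k
    rcases k with (i | i) | j
    · exact h1 i
    · exact h2 i
    · fin_cases j
      · exact hcon2.1
      · exact hcon2.2
  by_cases h20 : (2 : F) = 0
  · have hc : ringChar F = 2 := by
      have : CharP F 2 := by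
        have hne : ((2 : ℕ) : F) = 0 := by exact_mod_cast h20
        exact (CharP.ringChar_of_prime_eq_zero Nat.prime_two hne) ▸ ringChar.charP F
      exact ringChar.eq F 2
    rw [h20, zero_mul, zero_add] at h3
    rw [h20, zero_mul, zero_mul, add_zero] at h4
    have ha : a = 0 := by
      rcases h5 with h5 | h5
      · exact (mul_eq_zero.1 h4).resolve_right h5
      · exact (mul_eq_zero.1 h3).resolve_right h5
    obtain ⟨d, hd⟩ := FiniteField.isSquare_of_char_two hc b
    have := (hab d 1 (by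
      rw [ha, hd]
      linear_combination (d * d) * h20)).2
    exact one_ne_zero this
  · have h6 : x (.inr 0) ^ 2 + a * x (.inr 0) * x (.inr 1) + b * x (.inr 1) ^ 2 = 0 := by
      apply (mul_eq_zero.1 (?_ : (2 : F) * _ = 0)).resolve_left h20
      linear_combination x (.inr 0) * h3 + x (.inr 1) * h4
    obtain ⟨h7, h8⟩ := hab _ _ h6
    rcases h5 with h5 | h5
    · exact h5 h7
    · exact h5 h8

/-- Singular vectors, minus type. -/
def zMinus (q : ℕ) (k : ℕ) : ℕ := q ^ (2 * k + 1) + q ^ k - q ^ (k + 1)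

lemma zMinus_zero (q : ℕ) : zMinus q 0 = 1 := by
  simp [zMinus]

lemma zMinus_sub (q : ℕ) (hq : 1 ≤ q) (n : ℕ) :
    zMinus q (n + 1) - 1 = (q ^ (n + 2) + 1) * (q ^ (n + 1) - 1) := by
  have hx : 1 ≤ q ^ (n + 1) := Nat.one_le_pow _ _ hq
  obtain ⟨y, hy⟩ : ∃ y, q ^ (n + 1) = y + 1 := ⟨q ^ (n + 1) - 1, by omega⟩
  have h1 : q ^ (2 * (n + 1) + 1) = q ^ (n + 2) * q ^ (n + 1) := by
    rw [← pow_add]; congr 1; ring
  simp only [zMinus]
  rw [h1, hy]
  simp only [Nat.add_sub_cancel]
  have e2 : n + 1 + 1 = n + 2 := rfl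
  rw [e2]
  set x := q ^ (n + 2)
  have e : x * (y + 1) + (y + 1) = (x + 1) * y + x + 1 := by ring
  rw [e]
  omega

lemma zMinus_rec (q : ℕ) (hq : 1 ≤ q) (n : ℕ) :
    zMinus q (n + 1) = q * zMinus q n + (q - 1) * q ^ (2 * n + 2) := by
  obtain ⟨r, rfl⟩ : ∃ r, q = r + 1 := ⟨q - 1, by omega⟩
  simp only [Nat.add_sub_cancel, zMinus]
  have hx : 1 ≤ (r + 1) ^ n := Nat.one_le_pow _ _ (by omega)
  have e1 : (r + 1) ^ (2 * (n + 1) + 1) = (r + 1) ^ 3 * ((r + 1) ^ n * (r + 1) ^ n) := by
    rw [← pow_add, ← pow_add]; congr 1; ring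
  have e2 : (r + 1) ^ (n + 1 + 1) = (r + 1) ^ 2 * (r + 1) ^ n := by
    rw [← pow_add]; congr 1; ring
  have e3 : (r + 1) ^ (n + 1) = (r + 1) * (r + 1) ^ n := by
    rw [pow_succ]; ring
  have e4 : (r + 1) ^ (2 * n + 1) = (r + 1) * ((r + 1) ^ n * (r + 1) ^ n) := by
    rw [← pow_add, ← pow_succ']; congr 1; ring
  have e5 : (r + 1) ^ (2 * n + 2) = (r + 1) ^ 2 * ((r + 1) ^ n * (r + 1) ^ n) := by
    rw [← pow_add, ← pow_add]; congr 1; ring
  rw [e1, e2, e3, e4, e5]
  set x := (r + 1) ^ n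
  have hle1 : (r + 1) ^ 2 * x ≤ (r + 1) ^ 3 * (x * x) + (r + 1) * x := by
    have h1 : x ≤ x * x := Nat.le_mul_of_pos_left _ (by omega)
    have h2 : (r + 1) ^ 2 ≤ (r + 1) ^ 3 := Nat.pow_le_pow_right (by omega) (by omega)
    calc (r + 1) ^ 2 * x ≤ (r + 1) ^ 3 * x := Nat.mul_le_mul_right _ h2
      _ ≤ (r + 1) ^ 3 * (x * x) := Nat.mul_le_mul_left _ h1
      _ ≤ _ := Nat.le_add_right _ _
  have hle2 : (r + 1) * x ≤ (r + 1) * (x * x) + x := by
    have h1 : x ≤ x * x := Nat.le_mul_of_pos_left _ (by omega)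
    calc (r + 1) * x ≤ (r + 1) * (x * x) := Nat.mul_le_mul_left _ h1
      _ ≤ _ := Nat.le_add_right _ _
  zify [hle1, hle2]
  ring

lemma closed_minus (q : ℕ) (hq : 1 ≤ q) (n : ℕ) :
    (∏ k ∈ Finset.range n, ((zMinus q (k + 1) - 1) * q ^ (2 * k + 2))) * (2 * (q + 1)) =
      2 * q ^ ((n + 1) * n) * (q ^ (n + 1) + 1) * ∏ i ∈ Finset.range n, (q ^ (2 * (i + 1)) - 1) := by
  induction n with
  | zero => simp
  | succ n ih =>
    rw [Finset.prod_range_succ, Finset.prod_range_succ, zMinus_sub q hq]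
    obtain ⟨y, hy⟩ : ∃ y, q ^ (n + 1) = y + 1 := ⟨q ^ (n + 1) - 1, by
      have : 1 ≤ q ^ (n + 1) := Nat.one_le_pow _ _ hq
      omega⟩
    have e1 : q ^ (2 * (n + 1)) - 1 = y * (y + 2) := by
      rw [show 2 * (n + 1) = (n + 1) + (n + 1) by ring, pow_add, hy]
      have : (y + 1) * (y + 1) = y * (y + 2) + 1 := by ring
      rw [this]
      omega
    have e2 : q ^ (n + 1) - 1 = y := by omega
    have e5 : q ^ ((n + 1 + 1) * (n + 1)) = q ^ ((n + 1) * n) * q ^ (2 * n + 2) := by
      rw [← pow_add]; congr 1; ring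
    rw [e1, e5, e2]
    calc _ = ((∏ k ∈ Finset.range n, ((zMinus q (k + 1) - 1) * q ^ (2 * k + 2))) * (2 * (q + 1))) *
          ((q ^ (n + 2) + 1) * y * q ^ (2 * n + 2)) := by ring
      _ = _ := by
        rw [ih, hy]
        ring

theorem card_GO_minus {q : ℕ} (hF : Fintype.card F = q) (m : ℕ) (hm : 1 ≤ m) (a b : F)
    (hab : ∀ z₁ z₂ : F, z₁ ^ 2 + a * z₁ * z₂ + b * z₂ ^ 2 = 0 → z₁ = 0 ∧ z₂ = 0) :
    Nat.card (Cfsg.isometryGroup F (Cfsg.quadFormMinus (m - 1) F a b)) =
      2 * q ^ (m * (m - 1)) * (q ^ m + 1) * ∏ i ∈ Finset.range (m - 1), (q ^ (2 * (i + 1)) - 1) := by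
  classical
  obtain ⟨n, rfl⟩ : ∃ n, m = n + 1 := ⟨m - 1, by omega⟩
  change Nat.card (Cfsg.isometryGroup F (Cfsg.quadFormMinus n F a b)) =
    2 * q ^ ((n + 1) * n) * (q ^ (n + 1) + 1) * ∏ i ∈ Finset.range n, (q ^ (2 * (i + 1)) - 1)
  have hq1 : 1 ≤ q := hF ▸ Fintype.card_pos
  have hq2 : 1 ≤ Fintype.card F := Fintype.card_pos
  have h := qfMinus (F := F) n a b
  have hnd := ndMinus (F := F) n a b hab
  let R : (Fin 2 → F) → F := fun c => c 0 ^ 2 + a * c 0 * c 1 + b * c 1 ^ 2
  have hform : ∀ v : (Fin n ⊕ Fin n) ⊕ Fin 2 → F, Cfsg.quadFormMinus n F a b v =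
      ∑ i, v ((Equiv.refl _) (.inl (.inl i))) * v ((Equiv.refl _) (.inl (.inr i))) +
        R (fun j => v ((Equiv.refl _) (.inr j))) := by
    intro v
    simp [Cfsg.quadFormMinus, R]
  have hV : Nat.card ((Fin n ⊕ Fin n) ⊕ Fin 2 → F) = Fintype.card F ^ (2 * n + 2) := by
    rw [Nat.card_eq_fintype_card, Fintype.card_fun, Fintype.card_sum, Fintype.card_sum,
      Fintype.card_fin, Fintype.card_fin]
    congr 1
    ring
  have hz : cntS (Cfsg.quadFormMinus n F a b) ⊤ 0 = zMinus (Fintype.card F) n := by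
    rw [cntS_top]
    have this : Nat.card {v : (Fin n ⊕ Fin n) ⊕ Fin 2 → F // Cfsg.quadFormMinus n F a b v = 0} = _ :=
      card_minus_zeros (F := F) rfl (n + 1) (by omega) a b hab
    rw [this]
    simp only [zMinus]
    rw [show 2 * (n + 1) - 1 = 2 * n + 1 by omega, Nat.add_sub_cancel]
  have hrec : ∀ k, zMinus (Fintype.card F) (k + 1) =
      Fintype.card F * zMinus (Fintype.card F) k +
        (Fintype.card F - 1) * Fintype.card F ^ (2 * k + 2) :=
    zMinus_rec _ hq2
  have hres : ∀ t : FR (Cfsg.quadFormMinus n F a b) (polarMinus n F a b) n,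
      Nat.card (Resid h R t.1) = 2 * (Fintype.card F + 1) := by
    intro t
    obtain ⟨i1, i2, i3⟩ := perp_data h 0 hV hz hrec hnd t.1 t.2 le_rfl
    rw [Nat.sub_self, zMinus_zero] at i2
    rw [Nat.sub_self] at i1
    have hc : Nat.card (perpOf h t.1) = Fintype.card F ^ 2 := by
      rw [i1]
    have hani : ∀ x ∈ perpOf h t.1, Cfsg.quadFormMinus n F a b x = 0 → x = 0 := by
      intro x hx hx0
      have := (Nat.card_eq_one_iff_unique.1 i2).1.elim ⟨x, hx, hx0⟩ ⟨0, Submodule.zero_mem _, h.Q_zero⟩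
      exact congrArg Subtype.val this
    have e2 : Resid h R t.1 ≃ {p : ((Fin n ⊕ Fin n) ⊕ Fin 2 → F) × ((Fin n ⊕ Fin n) ⊕ Fin 2 → F) //
        p.1 ∈ perpOf h t.1 ∧ p.2 ∈ perpOf h t.1 ∧ Cfsg.quadFormMinus n F a b p.1 = 1 ∧
          Cfsg.quadFormMinus n F a b p.2 = b ∧ polarMinus n F a b p.1 p.2 = a} :=
      { toFun := fun w => ⟨(w.1 0, w.1 1), w.2.1 0, w.2.1 1, by
          have := w.2.2 ![1, 0]
          simpa [R, Fin.sum_univ_two] using this, by
          have := w.2.2 ![0, 1]
          simpa [R, Fin.sum_univ_two] using this, by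
          have h11 := w.2.2 ![1, 1]
          have h10 := w.2.2 ![1, 0]
          have h01 := w.2.2 ![0, 1]
          simp only [R, Fin.sum_univ_two, Matrix.cons_val_zero, Matrix.cons_val_one,
            one_smul, zero_smul, add_zero, zero_add] at h11 h10 h01
          rw [h.add] at h11
          simp only [h10, h01] at h11
          simp only [one_pow, mul_one, ne_eq, one_ne_zero, not_false_eq_true, zero_pow, mul_zero,
            add_zero, zero_add, zero_mul] at h11 h10 h01
          linear_combination h11⟩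
        invFun := fun p => ⟨![p.1.1, p.1.2], fun j => by
            fin_cases j
            · exact p.2.1
            · exact p.2.2.1, fun c => by
          obtain ⟨p, hp1, hp2, hp3, hp4, hp5⟩ := p
          simp only [R, Fin.sum_univ_two, Matrix.cons_val_zero, Matrix.cons_val_one]
          rw [h.add, h.smul, h.smul, hp3, hp4, h.smul_left, h.smul_right, hp5]
          ring⟩
        left_inv := fun w => by
          apply Subtype.ext
          funext j
          fin_cases j <;> rfl
        right_inv := fun p => rfl }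
    rw [Nat.card_congr e2]
    exact binary_frames h hc hani i3 a b hab
  rw [card_iso_const (Equiv.refl _) hform h hnd _ hres, card_FR h hV hz hrec hnd n le_rfl,
    prod_frames, hF]
  exact closed_minus q hq1 n

end Cfsg.Agent.Lead.Ortho
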