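import Cfsg.Agent.Lib.Lead.OmegaSimple
import Cfsg.Agent.Lib.Lead.OrthoOrder
/-! The standard frames of the three families of forms. -/
set_option autoImplicit false
set_option linter.unusedSimpArgs false
set_option linter.style.haveILetI false
set_option linter.unusedSectionVars false
set_option linter.unusedVariables false
namespace Cfsg.Agent.Lead.Omega
open Matrix Cfsg.Agent.Lead.Ortho

variable {F : Type*} [Field F] [Fintype F]

section Plus

lemma polarPlus_inl (m : ℕ) (w : Fin m ⊕ Fin m → F) (i : Fin m) :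
    polarPlus m F w (Pi.single (.inl i) 1) = w (.inr i) := by
  classical
  simp [polarPlus, Pi.single_apply]

lemma polarPlus_inr (m : ℕ) (w : Fin m ⊕ Fin m → F) (i : Fin m) :
    polarPlus m F w (Pi.single (.inr i) 1) = w (.inl i) := by
  classical
  simp [polarPlus, Pi.single_apply]

/-- The standard frame, plus type. -/
def framePlus (m : ℕ) (F : Type*) [Field F] (i : Fin m) :
    (Fin m ⊕ Fin m → F) × (Fin m ⊕ Fin m → F) :=
  (Pi.single (.inl i) 1, Pi.single (.inr i) 1)

lemma framePlus_HF (m : ℕ) : IsHF (Cfsg.quadFormPlus m F) (polarPlus m F) (framePlus m F) := by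
  classical
  intro i j
  refine ⟨?_, fun hij => ⟨?_, ?_⟩, ?_, ?_⟩
  · simp only [framePlus]
    rw [polarPlus_inr]
    simp [Pi.single_apply, eq_comm]
  · simp only [framePlus]
    rw [polarPlus_inl]
    simp [Pi.single_apply]
  · simp only [framePlus]
    rw [polarPlus_inr]
    simp [Pi.single_apply]
  · simp [framePlus, Cfsg.quadFormPlus, Pi.single_apply]
  · simp [framePlus, Cfsg.quadFormPlus, Pi.single_apply]

lemma framePlus_anis (m : ℕ) (w : Fin m ⊕ Fin m → F) (hw : w ∈ perpOf (qfPlus m) (framePlus m F))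
    (hQ : Cfsg.quadFormPlus m F w = 0) : w = 0 := by
  funext k
  rcases k with i | i
  · have := (hw i).2
    simp only [framePlus] at this
    rw [polarPlus_inr] at this
    exact this
  · have := (hw i).1
    simp only [framePlus] at this
    rw [polarPlus_inl] at this
    exact this

theorem pomega_plus_simple (m : ℕ) (hm : 3 ≤ m) : IsSimpleGroup (Cfsg.POmega F (Cfsg.quadFormPlus m F)) := by
  obtain ⟨m', rfl⟩ : ∃ m', m = m' + 1 + 1 := ⟨m - 2, by omega⟩
  exact pomega_simple (qfPlus _) (ndPlus _) (framePlus_HF _) (by omega) (framePlus_anis _)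

end Plus

section Odd

lemma polarOdd_inl (m : ℕ) (w : Unit ⊕ (Fin m ⊕ Fin m) → F) (i : Fin m) :
    polarOdd m F w (Pi.single (.inr (.inl i)) 1) = w (.inr (.inr i)) := by
  classical
  simp [polarOdd, Pi.single_apply]

lemma polarOdd_inr (m : ℕ) (w : Unit ⊕ (Fin m ⊕ Fin m) → F) (i : Fin m) :
    polarOdd m F w (Pi.single (.inr (.inr i)) 1) = w (.inr (.inl i)) := by
  classical
  simp [polarOdd, Pi.single_apply]

/-- The standard frame, odd type. -/
def frameOdd (m : ℕ) (F : Type*) [Field F] (i : Fin m) :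
    (Unit ⊕ (Fin m ⊕ Fin m) → F) × (Unit ⊕ (Fin m ⊕ Fin m) → F) :=
  (Pi.single (.inr (.inl i)) 1, Pi.single (.inr (.inr i)) 1)

lemma frameOdd_HF (m : ℕ) : IsHF (Cfsg.quadFormOdd m F) (polarOdd m F) (frameOdd m F) := by
  classical
  intro i j
  refine ⟨?_, fun hij => ⟨?_, ?_⟩, ?_, ?_⟩
  · simp only [frameOdd]
    rw [polarOdd_inr]
    simp [Pi.single_apply, eq_comm]
  · simp only [frameOdd]
    rw [polarOdd_inl]
    simp [Pi.single_apply]
  · simp only [frameOdd]
    rw [polarOdd_inr]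
    simp [Pi.single_apply]
  · simp [frameOdd, Cfsg.quadFormOdd, Pi.single_apply]
  · simp [frameOdd, Cfsg.quadFormOdd, Pi.single_apply]

lemma frameOdd_anis (m : ℕ) (w : Unit ⊕ (Fin m ⊕ Fin m) → F) (hw : w ∈ perpOf (qfOdd m) (frameOdd m F))
    (hQ : Cfsg.quadFormOdd m F w = 0) : w = 0 := by
  have e1 : ∀ i, w (.inr (.inl i)) = 0 := by
    intro i
    have := (hw i).2
    simp only [frameOdd] at this
    rw [polarOdd_inr] at this
    exact this
  have e2 : ∀ i, w (.inr (.inr i)) = 0 := by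
    intro i
    have := (hw i).1
    simp only [frameOdd] at this
    rw [polarOdd_inl] at this
    exact this
  funext k
  rcases k with ⟨⟩ | ⟨i | i⟩
  · simp only [Cfsg.quadFormOdd, e1, e2, zero_mul, Finset.sum_const_zero, add_zero] at hQ
    exact pow_eq_zero_iff (two_ne_zero) |>.1 hQ
  · exact e1 i
  · exact e2 i

theorem pomega_odd_simple (hodd : Odd (Fintype.card F)) (m : ℕ) (hm : 3 ≤ m) :
    IsSimpleGroup (Cfsg.POmega F (Cfsg.quadFormOdd m F)) := by
  obtain ⟨m', rfl⟩ : ∃ m', m = m' + 1 + 1 := ⟨m - 2, by omega⟩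
  exact pomega_simple (qfOdd _) (ndOdd _ (two_ne_zero_of_odd rfl hodd)) (frameOdd_HF _) (by omega)
    (frameOdd_anis _)

end Odd

section Minus
variable (a b : F)

lemma polarMinus_inl (m : ℕ) (w : (Fin m ⊕ Fin m) ⊕ Fin 2 → F) (i : Fin m) :
    polarMinus m F a b w (Pi.single (.inl (.inl i)) 1) = w (.inl (.inr i)) := by
  classical
  simp [polarMinus, Pi.single_apply]

lemma polarMinus_inr (m : ℕ) (w : (Fin m ⊕ Fin m) ⊕ Fin 2 → F) (i : Fin m) :
    polarMinus m F a b w (Pi.single (.inl (.inr i)) 1) = w (.inl (.inl i)) := by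
  classical
  simp [polarMinus, Pi.single_apply]

/-- The standard frame, minus type. -/
def frameMinus (m : ℕ) (F : Type*) [Field F] (i : Fin m) :
    ((Fin m ⊕ Fin m) ⊕ Fin 2 → F) × ((Fin m ⊕ Fin m) ⊕ Fin 2 → F) :=
  (Pi.single (.inl (.inl i)) 1, Pi.single (.inl (.inr i)) 1)

lemma frameMinus_HF (m : ℕ) : IsHF (Cfsg.quadFormMinus m F a b) (polarMinus m F a b) (frameMinus m F) := by
  classical
  intro i j
  refine ⟨?_, fun hij => ⟨?_, ?_⟩, ?_, ?_⟩
  · simp only [frameMinus]
    rw [polarMinus_inr]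
    simp [Pi.single_apply, eq_comm]
  · simp only [frameMinus]
    rw [polarMinus_inl]
    simp [Pi.single_apply]
  · simp only [frameMinus]
    rw [polarMinus_inr]
    simp [Pi.single_apply]
  · simp [frameMinus, Cfsg.quadFormMinus, Pi.single_apply]
  · simp [frameMinus, Cfsg.quadFormMinus, Pi.single_apply]

lemma frameMinus_anis (hab : ∀ z₁ z₂ : F, z₁ ^ 2 + a * z₁ * z₂ + b * z₂ ^ 2 = 0 → z₁ = 0 ∧ z₂ = 0) (m : ℕ)
    (w : (Fin m ⊕ Fin m) ⊕ Fin 2 → F) (hw : w ∈ perpOf (qfMinus m a b) (frameMinus m F))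
    (hQ : Cfsg.quadFormMinus m F a b w = 0) : w = 0 := by
  have e1 : ∀ i, w (.inl (.inl i)) = 0 := by
    intro i
    have := (hw i).2
    simp only [frameMinus] at this
    rw [polarMinus_inr] at this
    exact this
  have e2 : ∀ i, w (.inl (.inr i)) = 0 := by
    intro i
    have := (hw i).1
    simp only [frameMinus] at this
    rw [polarMinus_inl] at this
    exact this
  simp only [Cfsg.quadFormMinus, e1, e2, zero_mul, Finset.sum_const_zero, zero_add] at hQ
  obtain ⟨z1, z2⟩ := hab _ _ hQ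
  funext k
  rcases k with ⟨i | i⟩ | j
  · exact e1 i
  · exact e2 i
  · fin_cases j
    · exact z1
    · exact z2

theorem pomega_minus_simple (hab : ∀ z₁ z₂ : F, z₁ ^ 2 + a * z₁ * z₂ + b * z₂ ^ 2 = 0 → z₁ = 0 ∧ z₂ = 0)
    (m : ℕ) (hm : 3 ≤ m) : IsSimpleGroup (Cfsg.POmega F (Cfsg.quadFormMinus m F a b)) := by
  obtain ⟨m', rfl⟩ : ∃ m', m = m' + 1 + 1 := ⟨m - 2, by omega⟩
  exact pomega_simple (qfMinus _ a b) (ndMinus _ a b hab) (frameMinus_HF a b _) (by omega)
    (frameMinus_anis a b hab _)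

end Minus

end Cfsg.Agent.Lead.Omega
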