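import Cfsg.Agent.Lib.Lead.AutPSLType
import Cfsg.Agent.Lib.Lead.CardSL
import Cfsg.Prelude.Def_KGroupFacts
import Cfsg.Prelude.Def_LieTypeDatum
/-! The automorphism group and outer automorphism group of `PSL_n(F)`. -/
set_option autoImplicit false
set_option linter.style.haveILetI false
set_option linter.unusedSimpArgs false
set_option linter.unusedSectionVars false
set_option linter.unusedVariables false
namespace Cfsg.Agent.Lead.AutPSL
open Matrix Matrix.SpecialLinearGroup
open scoped MatrixGroups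

variable {ι F : Type*} [DecidableEq ι] [Fintype ι] [Field F]

/-- `c_g σ = 1` forces `σ = 1` -/
lemma cc_fld_eq_one [Nontrivial ι] (g : GL ι F) (σ : F ≃+* F) (h : cc g * fld σ = 1) : σ = 1 := by
  obtain ⟨i, j, hij⟩ := exists_pair_ne ι
  haveI : Nonempty ι := ⟨i⟩
  have key : ∀ t : F, σ t * (((g : Matrix ι ι F) *ᵥ ee F i) i * ((ee F j) ᵥ* ((g⁻¹ : GL ι F) : Matrix ι ι F)) j) = t := by
    intro t
    have h2 : cc g (xx hij (σ t)) = xx hij t := by
      have h1 := congrArg (fun β : MulAut (ProjectiveSpecialLinearGroup ι F) => β (xx hij t)) h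
      change cc g (fld σ (xx hij t)) = xx hij t at h1
      rwa [fld_xx] at h1
    have h3 := (isRt_xx hij (σ t)).cc g
    rw [h2] at h3
    have h4 := h3.eq_of_pr (isRt_xx hij t)
    have h5 := congrFun (congrFun h4 i) j
    simp only [vecMulVec_apply, mulVec_smul, Pi.smul_apply, smul_eq_mul, Pi.single_eq_same, mul_one] at h5
    linear_combination h5
  have hC : ((g : Matrix ι ι F) *ᵥ ee F i) i * ((ee F j) ᵥ* ((g⁻¹ : GL ι F) : Matrix ι ι F)) j = 1 := by
    have := key 1
    rwa [map_one, one_mul] at this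
  ext t
  have := key t
  rw [hC, mul_one] at this
  exact this

/-- `c_g = 1` forces `g` to be scalar -/
lemma cc_eq_one [Nontrivial ι] (g : GL ι F) (h : cc g = 1) :
    ∃ z : F, z ≠ 0 ∧ (g : Matrix ι ι F) = z • (1 : Matrix ι ι F) := by
  classical
  obtain ⟨i₀, j₀, hij₀⟩ := exists_pair_ne ι
  haveI : Nonempty ι := ⟨i₀⟩
  have key : ∀ i j (hij : i ≠ j), vecMulVec ((g : Matrix ι ι F) *ᵥ ee F i) ((ee F j) ᵥ* ((g⁻¹ : GL ι F) : Matrix ι ι F)) =
      vecMulVec (ee F i) (ee F j) := by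
    intro i j hij
    have h3 := (isRt_xx hij (1 : F)).cc g
    rw [h, one_smul] at h3
    have h4 := isRt_xx hij (1 : F)
    rw [one_smul] at h4
    exact h3.eq_of_pr h4
  have hc : ∀ i j (hij : i ≠ j), ∃ c : F, c ≠ 0 ∧ (g : Matrix ι ι F) *ᵥ ee F i = c • ee F i ∧
      ee F j = c • ((ee F j) ᵥ* ((g⁻¹ : GL ι F) : Matrix ι ι F)) := by
    intro i j hij
    have hf := flag_ee (F := F) hij
    exact vecMulVec_eq_imp hf.left hf.right (key i j hij).symm
  have hd : ∀ i j (hij : i ≠ j), (g : Matrix ι ι F) i i = (g : Matrix ι ι F) j j := by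
    intro i j hij
    obtain ⟨c, hc0, h1, h2⟩ := hc i j hij
    have e1 : (g : Matrix ι ι F) i i = c := by
      have := congrFun h1 i
      simpa using this
    have h3 : ee F j ᵥ* (g : Matrix ι ι F) = c • ee F j := by
      conv_lhs => rw [h2]
      rw [smul_vecMul, vecMul_vecMul, gl_inv_mul, vecMul_one]
    have e2 : (g : Matrix ι ι F) j j = c := by
      have := congrFun h3 j
      simpa using this
    rw [e1, e2]
  obtain ⟨c, hc0, h1, -⟩ := hc i₀ j₀ hij₀
  have e0 : (g : Matrix ι ι F) i₀ i₀ = c := by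
    have := congrFun h1 i₀
    simpa using this
  refine ⟨c, hc0, ?_⟩
  ext a b
  by_cases hab : a = b
  · subst hab
    rw [Matrix.smul_apply, Matrix.one_apply_eq, smul_eq_mul, mul_one, ← e0]
    by_cases hai : a = i₀
    · rw [hai]
    · exact (hd i₀ a (Ne.symm hai)).symm
  · rw [Matrix.smul_apply, Matrix.one_apply_ne hab, smul_zero]
    obtain ⟨j, hj⟩ : ∃ j, b ≠ j := (exists_ne b).imp fun _ h => h.symm
    obtain ⟨d, hd0, h2, -⟩ := hc b j hj
    have := congrFun h2 a
    simpa [Pi.single_apply, hab] using this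

lemma cc_eq_one_iff [Nontrivial ι] (g : GL ι F) : cc g = 1 ↔ g ∈ Subgroup.center (GL ι F) := by
  constructor
  · intro h
    obtain ⟨z, hz, e⟩ := cc_eq_one g h
    rw [Subgroup.mem_center_iff]
    intro x
    apply Units.ext
    rw [Units.val_mul, Units.val_mul, e]
    simp
  · intro h
    rw [Subgroup.mem_center_iff] at h
    ext x
    induction x using QuotientGroup.induction_on with
    | H s =>
      change pr ι F (cSL g s) = pr ι F s
      congr 1
      apply Subtype.ext
      change (g : Matrix ι ι F) * (s : Matrix ι ι F) * ((g⁻¹ : GL ι F) : Matrix ι ι F) = s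
      have h1 := congrArg Units.val (h (toG s))
      rw [Units.val_mul, Units.val_mul] at h1
      have h2 : ((toG s : GL ι F) : Matrix ι ι F) = s := rfl
      rw [h2] at h1
      rw [← h1, Matrix.mul_assoc, gl_mul_inv, mul_one]

/-- an abstract splitting lemma -/
lemma exists_hom_of_factor {A H : Type*} [Group A] [Group H] (K : Subgroup A) (s : H →* A)
    (hfac : ∀ a, ∃ k ∈ K, ∃ h, a = k * s h)
    (hnorm : ∀ h, ∀ k ∈ K, s h * k * (s h)⁻¹ ∈ K)
    (huniq : ∀ h, s h ∈ K → h = 1) :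
    ∃ χ : A →* H, χ.ker = K ∧ ∀ h, χ (s h) = h := by
  haveI hn : K.Normal := ⟨by
    intro x hx a
    obtain ⟨k, hk, h, rfl⟩ := hfac a
    have e : k * s h * x * (k * s h)⁻¹ = k * (s h * x * (s h)⁻¹) * k⁻¹ := by group
    rw [e]
    exact K.mul_mem (K.mul_mem hk (hnorm h x hx)) (K.inv_mem hk)⟩
  let f : H →* A ⧸ K := (QuotientGroup.mk' K).comp s
  have hf : Function.Bijective f := by
    constructor
    · rw [injective_iff_map_eq_one]
      intro h hh
      apply huniq
      exact (QuotientGroup.eq_one_iff _).mp hh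
    · intro x
      obtain ⟨a, rfl⟩ := QuotientGroup.mk_surjective x
      obtain ⟨k, hk, h, rfl⟩ := hfac a
      refine ⟨h, ?_⟩
      change ((s h : A) : A ⧸ K) = ((k * s h : A) : A ⧸ K)
      rw [QuotientGroup.eq]
      have e : (s h)⁻¹ * (k * s h) = (s h)⁻¹ * k * (s h)⁻¹⁻¹ := by group
      rw [e]
      exact hnorm h⁻¹ k hk |> fun h' => by simpa using h'
  let e : H ≃* A ⧸ K := MulEquiv.ofBijective f hf
  refine ⟨e.symm.toMonoidHom.comp (QuotientGroup.mk' K), ?_, ?_⟩
  · ext a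
    rw [MonoidHom.mem_ker]
    change e.symm (a : A ⧸ K) = 1 ↔ _
    rw [map_eq_one_iff e.symm e.symm.injective, QuotientGroup.eq_one_iff]
  · intro h
    change e.symm ((s h : A) : A ⧸ K) = h
    have : ((s h : A) : A ⧸ K) = e h := rfl
    rw [this, MulEquiv.symm_apply_apply]

/-! ### The complement -/

/-- the graph automorphism as a homomorphism -/
noncomputable def gamHom : Multiplicative (ZMod 2) →* MulAut (ProjectiveSpecialLinearGroup ι F) where
  toFun ε := if Multiplicative.toAdd ε = 0 then 1 else gam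
  map_one' := by simp
  map_mul' a b := by
    have h : ∀ x : Multiplicative (ZMod 2), x = Multiplicative.ofAdd 0 ∨ x = Multiplicative.ofAdd 1 := by decide
    have h2 : (Multiplicative.ofAdd (1 : ZMod 2)) * (Multiplicative.ofAdd (1 : ZMod 2)) = Multiplicative.ofAdd 0 := by decide
    rcases h a with rfl | rfl <;> rcases h b with rfl | rfl
    · simp
    · simp
    · simp
    · rw [h2]
      simp [gam_sq]

lemma gamHom_one' : gamHom (Multiplicative.ofAdd (0 : ZMod 2)) = (1 : MulAut (ProjectiveSpecialLinearGroup ι F)) := by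
  simp [gamHom]

lemma gamHom_ofAdd_one : gamHom (Multiplicative.ofAdd (1 : ZMod 2)) = (gam : MulAut (ProjectiveSpecialLinearGroup ι F)) := by
  simp [gamHom]

/-- field and graph automorphisms together -/
noncomputable def sHom : (F ≃+* F) × Multiplicative (ZMod 2) →* MulAut (ProjectiveSpecialLinearGroup ι F) :=
  MonoidHom.noncommCoprod fld gamHom (by
    intro σ ε
    have h : ∀ x : Multiplicative (ZMod 2), x = Multiplicative.ofAdd 0 ∨ x = Multiplicative.ofAdd 1 := by decide
    rcases h ε with rfl | rfl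
    · rw [gamHom_one']
      exact Commute.one_right _
    · rw [gamHom_ofAdd_one]
      exact fld_gam σ)

lemma sHom_apply (σ : F ≃+* F) (ε : Multiplicative (ZMod 2)) :
    sHom (σ, ε) = (fld σ * gamHom ε : MulAut (ProjectiveSpecialLinearGroup ι F)) := rfl

lemma fld_conj_cc (σ : F ≃+* F) (g : GL ι F) :
    (fld σ * cc g * (fld σ)⁻¹ : MulAut (ProjectiveSpecialLinearGroup ι F)) = cc (Matrix.GeneralLinearGroup.map (σ : F →+* F) g) := by
  rw [fld_cc, mul_inv_cancel_right]

lemma gam_conj_cc (g : GL ι F) :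
    (gam * cc g * gam⁻¹ : MulAut (ProjectiveSpecialLinearGroup ι F)) = cc (invT g) := by
  rw [gam_cc, mul_inv_cancel_right]

/-- the graph automorphism is not semilinear -/
lemma gam_not {n : ℕ} (hn : 3 ≤ n) (g : GL (Fin n) F) (τ : F ≃+* F) :
    (gam : MulAut (ProjectiveSpecialLinearGroup (Fin n) F)) ≠ cc g * fld τ := by
  intro h
  haveI : Nonempty (Fin n) := ⟨⟨0, by omega⟩⟩
  let i : Fin n := ⟨0, by omega⟩
  let j : Fin n := ⟨1, by omega⟩
  let k : Fin n := ⟨2, by omega⟩
  have hij : i ≠ j := by simp [i, j, Fin.ext_iff]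
  have hik : i ≠ k := by simp [i, k, Fin.ext_iff]
  have hjk : j ≠ k := by simp [j, k, Fin.ext_iff]
  have hee : ∀ l : Fin n, (fun a => τ (ee F l a)) = ee F l := by
    intro l
    funext a
    by_cases hal : a = l
    · subst hal; simp
    · simp [Pi.single_apply, hal]
  have key : ∀ l : Fin n, i ≠ l → Par (ee F l) ((g : Matrix (Fin n) (Fin n) F) *ᵥ ee F i) := by
    intro l hl
    have h1 : (gam : MulAut (ProjectiveSpecialLinearGroup (Fin n) F)) '' RG (ee F i) (ee F l) = RG (ee F l) (ee F i) := gam_RG _ _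
    have h2 : (cc g * fld τ : MulAut (ProjectiveSpecialLinearGroup (Fin n) F)) '' RG (ee F i) (ee F l) =
        RG ((g : Matrix (Fin n) (Fin n) F) *ᵥ ee F i) ((ee F l) ᵥ* ((g⁻¹ : GL (Fin n) F) : Matrix (Fin n) (Fin n) F)) := by
      have e : (cc g * fld τ : MulAut (ProjectiveSpecialLinearGroup (Fin n) F)) '' RG (ee F i) (ee F l) =
          cc g '' (fld τ '' RG (ee F i) (ee F l)) := by
        rw [Set.image_image]
        rfl
      rw [e, fld_RG, hee, hee, cc_RG]
    rw [h] at h1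
    rw [h1] at h2
    exact (par_of_RG_eq (flag_ee (Ne.symm hl)) ((flag_ee hl).cc g) h2).1
  have h1 := (key j hij).trans' (key k hik).symm'
  obtain ⟨c, hc, e⟩ := h1
  have h2 := congrFun e k
  simp [Pi.single_apply, hjk] at h2

variable [Fintype F]

section Chi
variable {p f : ℕ} [Fact p.Prime]

theorem chi_two (hq : Fintype.card F = p ^ f) (hf : 1 ≤ f) :
    ∃ χ : MulAut (ProjectiveSpecialLinearGroup (Fin 2) F) →* (F ≃+* F),
      χ.ker = (cc : GL (Fin 2) F →* _).range ∧ ∀ σ, χ (fld σ) = σ := by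
  apply exists_hom_of_factor _ fld
  · intro α
    obtain ⟨D, σ, h⟩ := aut_form_two hq hf α
    exact ⟨cc D, ⟨D, rfl⟩, σ, h⟩
  · rintro σ _ ⟨g, rfl⟩
    rw [fld_conj_cc]
    exact ⟨_, rfl⟩
  · rintro σ ⟨g, hg⟩
    apply cc_fld_eq_one g⁻¹ σ
    rw [map_inv, hg, inv_mul_cancel]

theorem chi_three {n : ℕ} (hn : 3 ≤ n) (hq : Fintype.card F = p ^ f) (hf : 1 ≤ f) :
    ∃ χ : MulAut (ProjectiveSpecialLinearGroup (Fin n) F) →* (F ≃+* F) × Multiplicative (ZMod 2),
      χ.ker = (cc : GL (Fin n) F →* _).range ∧ ∀ h, χ (sHom h) = h := by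
  have hg2 : (gam : MulAut (ProjectiveSpecialLinearGroup (Fin n) F))⁻¹ = gam := inv_eq_of_mul_eq_one_left gam_sq
  have h2 : ∀ x : Multiplicative (ZMod 2), x = Multiplicative.ofAdd 0 ∨ x = Multiplicative.ofAdd 1 := by decide
  apply exists_hom_of_factor _ sHom
  · intro α
    obtain ⟨m, rfl⟩ : ∃ m, n = m + 2 := ⟨n - 2, by omega⟩
    obtain ⟨D, σ, h | h⟩ := aut_form_ge3 hn hq hf α
    · refine ⟨cc D, ⟨D, rfl⟩, (σ, Multiplicative.ofAdd 0), ?_⟩
      rw [sHom_apply, gamHom_one', mul_one]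
      exact h
    · refine ⟨cc D, ⟨D, rfl⟩, (σ, Multiplicative.ofAdd 1), ?_⟩
      rw [sHom_apply, gamHom_ofAdd_one, ← mul_assoc, ← h, mul_assoc, gam_sq, mul_one]
  · rintro ⟨σ, ε⟩ _ ⟨g, rfl⟩
    rw [sHom_apply]
    rcases h2 ε with rfl | rfl
    · rw [gamHom_one', mul_one, fld_conj_cc]
      exact ⟨_, rfl⟩
    · rw [gamHom_ofAdd_one]
      have e : (fld σ * gam * cc g * (fld σ * gam)⁻¹ : MulAut (ProjectiveSpecialLinearGroup (Fin n) F)) =
          fld σ * (gam * cc g * gam⁻¹) * (fld σ)⁻¹ := by group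
      rw [e, gam_conj_cc, fld_conj_cc]
      exact ⟨_, rfl⟩
  · rintro ⟨σ, ε⟩ ⟨g, hg⟩
    rw [sHom_apply] at hg
    rcases h2 ε with rfl | rfl
    · rw [gamHom_one', mul_one] at hg
      haveI : Nontrivial (Fin n) := ⟨⟨⟨0, by omega⟩, ⟨1, by omega⟩, by simp [Fin.ext_iff]⟩⟩
      have : σ = 1 := by
        apply cc_fld_eq_one g⁻¹ σ
        rw [map_inv]
        change (cc g)⁻¹ * fld σ = 1
        rw [hg, inv_mul_cancel]
      rw [this]
      rfl
    · rw [gamHom_ofAdd_one] at hg
      exfalso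
      apply gam_not hn (Matrix.GeneralLinearGroup.map ((σ⁻¹ : F ≃+* F) : F →+* F) g) σ⁻¹
      rw [← fld_cc, hg, ← mul_assoc, ← map_mul, inv_mul_cancel, map_one, one_mul]

end Chi

/-! ### The outer automorphism group -/

section OutSection

variable [Nontrivial ι]

/-- the diagonal matrices `diag(a, 1, ..., 1)` -/
noncomputable def dA (r : ι) : Fˣ →* GL ι F := dg.comp (MonoidHom.mulSingle (fun _ => Fˣ) r)

lemma det_dA (r : ι) (a : Fˣ) : Matrix.GeneralLinearGroup.det (dA r a : GL ι F) = a := by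
  apply Units.ext
  change ((dg (Pi.mulSingle r a) : GL ι F) : Matrix ι ι F).det = a
  rw [dg_coe, det_diagonal, Finset.prod_eq_single r]
  · simp
  · intro b _ hb
    simp [Pi.mulSingle_eq_of_ne hb]
  · simp

/-- every `g ∈ GL` with trivial determinant comes from `SL` -/
lemma exists_SL_of_det {g : GL ι F} (h : Matrix.GeneralLinearGroup.det g = 1) :
    ∃ s : SpecialLinearGroup ι F, g = toG s := by
  have h1 : (g : Matrix ι ι F).det = 1 := by
    have := congrArg Units.val h
    simpa [Matrix.GeneralLinearGroup.det] using this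
  exact ⟨⟨(g : Matrix ι ι F), h1⟩, Units.ext rfl⟩

/-- the map `a ↦ [c_{diag(a,1,...,1)}]` -/
noncomputable def lam (r : ι) : Fˣ →* Cfsg.Out (ProjectiveSpecialLinearGroup ι F) :=
  (QuotientGroup.mk' (Cfsg.Inn _)).comp (cc.comp (dA r))

lemma lam_ker (r : ι) :
    (lam r : Fˣ →* Cfsg.Out (ProjectiveSpecialLinearGroup ι F)).ker = (powMonoidHom (Fintype.card ι) : Fˣ →* Fˣ).range := by
  ext a
  rw [MonoidHom.mem_ker]
  change ((cc (dA r a) : MulAut _) : Cfsg.Out (ProjectiveSpecialLinearGroup ι F)) = 1 ↔ _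
  rw [QuotientGroup.eq_one_iff]
  constructor
  · rintro ⟨x, hx⟩
    obtain ⟨s, rfl⟩ := QuotientGroup.mk_surjective x
    have h1 : cc (toG s) = cc (dA r a) := by
      rw [← hx]
      exact cc_toG s
    have h2 : cc ((toG s)⁻¹ * dA r a) = (1 : MulAut (ProjectiveSpecialLinearGroup ι F)) := by
      rw [map_mul, map_inv, h1, inv_mul_cancel]
    obtain ⟨z, hz, e⟩ := cc_eq_one _ h2
    refine ⟨Units.mk0 z hz, ?_⟩
    apply Units.ext
    have h3 : (((toG s)⁻¹ * dA r a : GL ι F) : Matrix ι ι F).det = a := by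
      have := congrArg Units.val (map_mul Matrix.GeneralLinearGroup.det (toG s)⁻¹ (dA r a))
      rw [det_dA] at this
      have h4 : Matrix.GeneralLinearGroup.det (toG s) = 1 := by
        apply Units.ext
        exact s.2
      rw [map_inv, h4, inv_one, one_mul] at this
      exact this
    rw [e, det_smul, det_one, mul_one] at h3
    simpa using h3
  · rintro ⟨z, rfl⟩
    let zG : GL ι F := Matrix.GeneralLinearGroup.scalar ι z
    have hz : cc zG = (1 : MulAut (ProjectiveSpecialLinearGroup ι F)) := by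
      rw [cc_eq_one_iff, Matrix.GeneralLinearGroup.center_eq_range_scalar]
      exact ⟨z, rfl⟩
    have hd : Matrix.GeneralLinearGroup.det zG = z ^ Fintype.card ι := by
      apply Units.ext
      change (Matrix.scalar ι (z : F)).det = _
      rw [Matrix.scalar_apply, det_diagonal]
      simp
    have h1 : Matrix.GeneralLinearGroup.det (zG⁻¹ * dA r (powMonoidHom (Fintype.card ι) z)) = 1 := by
      rw [map_mul, map_inv, det_dA, hd]
      simp
    obtain ⟨s, hs⟩ := exists_SL_of_det h1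
    refine ⟨pr ι F s, ?_⟩
    rw [← cc_toG, ← hs, map_mul, map_inv, hz, inv_one, one_mul]

lemma card_lam_range (r : ι) :
    Nat.card (lam r : Fˣ →* Cfsg.Out (ProjectiveSpecialLinearGroup ι F)).range =
      Nat.gcd (Fintype.card ι) (Fintype.card F - 1) := by
  classical
  have h1 := Subgroup.card_eq_card_quotient_mul_card_subgroup (lam r : Fˣ →* Cfsg.Out (ProjectiveSpecialLinearGroup ι F)).ker
  rw [Nat.card_congr (QuotientGroup.quotientKerEquivRange (lam r : Fˣ →* Cfsg.Out (ProjectiveSpecialLinearGroup ι F))).toEquiv, lam_ker,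
    IsCyclic.card_powMonoidHom_range] at h1
  have hN : Nat.card Fˣ = Fintype.card F - 1 := by
    rw [Nat.card_eq_fintype_card, Fintype.card_units]
  rw [hN] at h1
  have hpos : 0 < Fintype.card F - 1 := by
    have := Fintype.one_lt_card (α := F)
    omega
  have hg : Nat.gcd (Fintype.card F - 1) (Fintype.card ι) ∣ Fintype.card F - 1 := Nat.gcd_dvd_left _ _
  have hq : 0 < (Fintype.card F - 1) / Nat.gcd (Fintype.card F - 1) (Fintype.card ι) :=
    Nat.div_pos (Nat.le_of_dvd hpos hg) (Nat.gcd_pos_of_pos_left _ hpos)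
  have h2 : Nat.card (lam r : Fˣ →* Cfsg.Out (ProjectiveSpecialLinearGroup ι F)).range *
      ((Fintype.card F - 1) / Nat.gcd (Fintype.card F - 1) (Fintype.card ι)) =
      Nat.gcd (Fintype.card F - 1) (Fintype.card ι) * ((Fintype.card F - 1) / Nat.gcd (Fintype.card F - 1) (Fintype.card ι)) := by
    rw [← h1, Nat.mul_div_cancel' hg]
  rw [Nat.gcd_comm]
  exact Nat.eq_of_mul_eq_mul_right hq h2

/-- the structure of `Out` from a retraction with kernel the diagonal part -/
theorem out_structure {H : Type*} [Group H] (r : ι) (χ : MulAut (ProjectiveSpecialLinearGroup ι F) →* H)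
    (hχ : χ.ker = (cc : GL ι F →* _).range) :
    ∃ χ' : Cfsg.Out (ProjectiveSpecialLinearGroup ι F) →* H,
      (∀ α, χ' (α : MulAut (ProjectiveSpecialLinearGroup ι F)) = χ α) ∧
      IsCyclic χ'.ker ∧ Nat.card χ'.ker = Nat.gcd (Fintype.card ι) (Fintype.card F - 1) := by
  have hI : Cfsg.Inn (ProjectiveSpecialLinearGroup ι F) ≤ χ.ker := by
    rw [hχ]
    rintro _ ⟨x, rfl⟩
    obtain ⟨s, hs⟩ := exists_toG x
    exact ⟨toG s, hs.symm⟩
  let χ' : Cfsg.Out (ProjectiveSpecialLinearGroup ι F) →* H := QuotientGroup.lift _ χ hI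
  have hk : χ'.ker = (lam r : Fˣ →* Cfsg.Out (ProjectiveSpecialLinearGroup ι F)).range := by
    ext x
    obtain ⟨α, rfl⟩ := QuotientGroup.mk_surjective x
    rw [MonoidHom.mem_ker]
    change χ α = 1 ↔ _
    rw [← MonoidHom.mem_ker, hχ]
    constructor
    · rintro ⟨g, rfl⟩
      refine ⟨Matrix.GeneralLinearGroup.det g, ?_⟩
      have h1 : Matrix.GeneralLinearGroup.det ((dA r (Matrix.GeneralLinearGroup.det g))⁻¹ * g) = 1 := by
        rw [map_mul, map_inv, det_dA, inv_mul_cancel]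
      obtain ⟨s, hs⟩ := exists_SL_of_det h1
      have h2 : g = dA r (Matrix.GeneralLinearGroup.det g) * toG s := by
        rw [← hs, mul_inv_cancel_left]
      change ((cc (dA r (Matrix.GeneralLinearGroup.det g)) : MulAut _) : Cfsg.Out (ProjectiveSpecialLinearGroup ι F)) = _
      rw [QuotientGroup.eq]
      refine ⟨(pr ι F s), ?_⟩
      rw [← cc_toG, ← hs, map_mul, map_inv]
    · rintro ⟨a, ha⟩
      have h1 : ((cc (dA r a) : MulAut _) : Cfsg.Out (ProjectiveSpecialLinearGroup ι F)) = (α : MulAut _) := ha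
      rw [QuotientGroup.eq] at h1
      obtain ⟨x, hx⟩ := h1
      obtain ⟨s, hs⟩ := exists_toG x
      refine ⟨dA r a * toG s, ?_⟩
      rw [map_mul, ← hs, hx, mul_inv_cancel_left]
  refine ⟨χ', fun α => rfl, ?_, ?_⟩
  · rw [hk]
    exact isCyclic_of_surjective (lam r : Fˣ →* Cfsg.Out (ProjectiveSpecialLinearGroup ι F)).rangeRestrict
      (MonoidHom.rangeRestrict_surjective _)
  · rw [hk, card_lam_range]

end OutSection

/-! ### Field automorphisms -/

lemma charP_of_card {p f : ℕ} [Fact p.Prime] (hq : Fintype.card F = p ^ f) (hf : 1 ≤ f) : CharP F p := by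
  obtain ⟨r, hr⟩ := CharP.exists F
  haveI := hr
  obtain ⟨n, hr1, hr2⟩ := FiniteField.card F r
  haveI : Fact r.Prime := ⟨hr1⟩
  have h1 : r ∣ p ^ f := by
    rw [← hq, hr2]
    exact dvd_pow_self r n.ne_zero
  have h2 := (Nat.prime_dvd_prime_iff_eq hr1 (Fact.out : p.Prime)).mp (hr1.dvd_of_dvd_pow h1)
  subst h2
  exact hr

theorem ringAut_equiv {p f : ℕ} [Fact p.Prime] (hq : Fintype.card F = p ^ f) (hf : 1 ≤ f) :
    Nonempty ((F ≃+* F) ≃* Multiplicative (ZMod f)) := by
  haveI := charP_of_card hq hf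
  letI : Algebra (ZMod p) F := ZMod.algebra F p
  have hfr : Module.finrank (ZMod p) F = f := by
    have h1 := Module.card_eq_pow_finrank (K := ZMod p) (V := F)
    rw [ZMod.card, hq] at h1
    exact (Nat.pow_right_injective (Fact.out : p.Prime).two_le h1).symm
  haveI : IsGalois (ZMod p) F := inferInstance
  have hcard : Nat.card (F ≃ₐ[ZMod p] F) = f := by
    rw [IsGalois.card_aut_eq_finrank, hfr]
  have hc : IsCyclic (F ≃ₐ[ZMod p] F) := inferInstance
  have e2 := zmodCyclicMulEquiv hc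
  rw [hcard] at e2
  have hfix : ∀ (σ : F ≃+* F) (r : ZMod p), σ (algebraMap (ZMod p) F r) = algebraMap (ZMod p) F r := by
    intro σ r
    have := RingHom.ext_zmod (((σ : F →+* F)).comp (algebraMap (ZMod p) F)) (algebraMap (ZMod p) F)
    exact congrArg (fun φ : ZMod p →+* F => φ r) this
  let e1 : (F ≃+* F) ≃* (F ≃ₐ[ZMod p] F) :=
    { toFun := fun σ => AlgEquiv.ofRingEquiv (f := σ) (hfix σ)
      invFun := fun τ => τ.toRingEquiv
      left_inv := fun σ => by ext x; rfl
      right_inv := fun τ => by ext x; rfl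
      map_mul' := fun σ τ => by ext x; rfl }
  exact ⟨e1.trans e2.symm⟩

lemma card_ringAut {p f : ℕ} [Fact p.Prime] (hq : Fintype.card F = p ^ f) (hf : 1 ≤ f) :
    Nat.card (F ≃+* F) = f := by
  obtain ⟨e⟩ := ringAut_equiv hq hf
  rw [Nat.card_congr e.toEquiv]
  change Nat.card (ZMod f) = f
  exact Nat.card_zmod f

/-! ### The final theorems -/

section Final
variable {p f n : ℕ} [Fact p.Prime]

theorem out_three (hf : 1 ≤ f) (hF : Fintype.card F = p ^ f) (hn : 3 ≤ n) :
    ∃ φ : Cfsg.Out (ProjectiveSpecialLinearGroup (Fin n) F) →* Multiplicative (ZMod f × ZMod 2),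
      Function.Surjective φ ∧ IsCyclic φ.ker ∧ Nat.card φ.ker = Nat.gcd n (p ^ f - 1) := by
  haveI : Nontrivial (Fin n) := ⟨⟨⟨0, by omega⟩, ⟨1, by omega⟩, by simp [Fin.ext_iff]⟩⟩
  obtain ⟨χ, hχ, hs⟩ := chi_three hn hF hf
  obtain ⟨χ', h1, h2, h3⟩ := out_structure (⟨0, by omega⟩ : Fin n) χ hχ
  obtain ⟨e⟩ := ringAut_equiv hF hf
  let E : (F ≃+* F) × Multiplicative (ZMod 2) ≃* Multiplicative (ZMod f × ZMod 2) :=
    (e.prodCongr (MulEquiv.refl _)).trans (MulEquiv.prodMultiplicative _ _).symm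
  have hker : (E.toMonoidHom.comp χ').ker = χ'.ker := by
    ext x
    simp [MonoidHom.mem_ker]
  refine ⟨E.toMonoidHom.comp χ', ?_, ?_, ?_⟩
  · intro y
    refine ⟨(QuotientGroup.mk (sHom (E.symm y) : MulAut (ProjectiveSpecialLinearGroup (Fin n) F)) : Cfsg.Out (ProjectiveSpecialLinearGroup (Fin n) F)), ?_⟩
    change E (χ' _) = y
    rw [h1, hs, MulEquiv.apply_symm_apply]
  · rw [hker]; exact h2
  · rw [hker, h3, Fintype.card_fin, hF]

theorem out_two (hf : 1 ≤ f) (hF : Fintype.card F = p ^ f) :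
    ∃ φ : Cfsg.Out (ProjectiveSpecialLinearGroup (Fin 2) F) →* Multiplicative (ZMod f),
      Function.Surjective φ ∧ IsCyclic φ.ker ∧ Nat.card φ.ker = Nat.gcd 2 (p ^ f - 1) := by
  obtain ⟨χ, hχ, hs⟩ := chi_two hF hf
  obtain ⟨χ', h1, h2, h3⟩ := out_structure (0 : Fin 2) χ hχ
  obtain ⟨e⟩ := ringAut_equiv hF hf
  have hker : (e.toMonoidHom.comp χ').ker = χ'.ker := by
    ext x
    simp [MonoidHom.mem_ker]
  refine ⟨e.toMonoidHom.comp χ', ?_, ?_, ?_⟩
  · intro y
    refine ⟨(QuotientGroup.mk (fld (e.symm y) : MulAut (ProjectiveSpecialLinearGroup (Fin 2) F)) : Cfsg.Out (ProjectiveSpecialLinearGroup (Fin 2) F)), ?_⟩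
    change e (χ' _) = y
    rw [h1, hs, MulEquiv.apply_symm_apply]
  · rw [hker]; exact h2
  · rw [hker, h3, Fintype.card_fin, hF]

/-- `|cc.range| = |PGL|` -/
lemma card_cc_range [Nontrivial ι] :
    Nat.card (cc : GL ι F →* MulAut (ProjectiveSpecialLinearGroup ι F)).range = Nat.card (Matrix.ProjGenLinGroup ι F) := by
  have hk : (cc : GL ι F →* MulAut (ProjectiveSpecialLinearGroup ι F)).ker = Subgroup.center (GL ι F) := by
    ext g
    rw [MonoidHom.mem_ker, cc_eq_one_iff]
  have e1 := QuotientGroup.quotientKerEquivRange (cc : GL ι F →* MulAut (ProjectiveSpecialLinearGroup ι F))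
  rw [← Nat.card_congr e1.toEquiv]
  unfold Matrix.ProjGenLinGroup
  rw [hk]

theorem card_aut (hf : 1 ≤ f) (hF : Fintype.card F = p ^ f) (hn : 2 ≤ n) :
    Nat.card (MulAut (ProjectiveSpecialLinearGroup (Fin n) F)) =
      (if n = 2 then 1 else 2) * f * Nat.card (Matrix.ProjGenLinGroup (Fin n) F) := by
  haveI : Nontrivial (Fin n) := ⟨⟨⟨0, by omega⟩, ⟨1, by omega⟩, by simp [Fin.ext_iff]⟩⟩
  have key : ∀ {H : Type _} [Group H] (χ : MulAut (ProjectiveSpecialLinearGroup (Fin n) F) →* H),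
      Function.Surjective χ → χ.ker = (cc : GL (Fin n) F →* _).range →
      Nat.card (MulAut (ProjectiveSpecialLinearGroup (Fin n) F)) = Nat.card H * Nat.card (Matrix.ProjGenLinGroup (Fin n) F) := by
    intro H _ χ hs hk
    rw [Subgroup.card_eq_card_quotient_mul_card_subgroup χ.ker,
      Nat.card_congr (QuotientGroup.quotientKerEquivOfSurjective χ hs).toEquiv, hk, card_cc_range]
  by_cases h2 : n = 2
  · subst h2
    obtain ⟨χ, hχ, hs⟩ := chi_two hF hf
    rw [key χ (fun σ => ⟨fld σ, hs σ⟩) hχ, card_ringAut hF hf]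
    simp
  · obtain ⟨χ, hχ, hs⟩ := chi_three (n := n) (by omega) hF hf
    rw [key χ (fun h => ⟨sHom h, hs h⟩) hχ, Nat.card_prod, card_ringAut hF hf]
    have h3 : Nat.card (Multiplicative (ZMod 2)) = 2 := by
      change Nat.card (ZMod 2) = 2
      exact Nat.card_zmod 2
    rw [h3, if_neg h2]
    ring

lemma cc_fld_induced (g : GL (Fin n) F) (σ : F ≃+* F) :
    Cfsg.IsInducedBySemilinearPSL g σ (cc g * fld σ) := by
  intro s s' hs'
  change pr (Fin n) F (cSL g (fldSL σ s)) = pr (Fin n) F s'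
  congr 1
  apply Subtype.ext
  rw [hs']
  rfl

lemma gam_inverseTranspose : Cfsg.IsInverseTransposeAutPSL (n := n) (F := F) gam := by
  intro s s' hs'
  change pr (Fin n) F (gamSL s) = pr (Fin n) F s'
  congr 1
  apply Subtype.ext
  rw [hs']
  rfl

theorem gamma_sup (hf : 1 ≤ f) (hF : Fintype.card F = p ^ f) (hn : 2 ≤ n) :
    Cfsg.gammaPSL n F ⊔ Cfsg.autSubgroupOf (fun β : ProjectiveSpecialLinearGroup (Fin n) F ≃* ProjectiveSpecialLinearGroup (Fin n) F =>
      Cfsg.IsInverseTransposeAutPSL β) = ⊤ := by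
  rw [eq_top_iff]
  intro α _
  have hL : ∀ (D : GL (Fin n) F) (σ : F ≃+* F), (cc D * fld σ : MulAut (ProjectiveSpecialLinearGroup (Fin n) F)) ∈ Cfsg.gammaPSL n F := by
    intro D σ
    exact Subgroup.subset_closure ⟨D, σ, cc_fld_induced D σ⟩
  by_cases h2 : n = 2
  · subst h2
    obtain ⟨D, σ, rfl⟩ := aut_form_two hF hf α
    exact Subgroup.mem_sup_left (hL D σ)
  · obtain ⟨m, rfl⟩ : ∃ m, n = m + 2 := ⟨n - 2, by omega⟩
    obtain ⟨D, σ, h | h⟩ := aut_form_ge3 (by omega) hF hf α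
    · rw [h]
      exact Subgroup.mem_sup_left (hL D σ)
    · have hα : α = cc D * fld σ * gam := by
        rw [← h, mul_assoc, gam_sq, mul_one]
      rw [hα]
      exact Subgroup.mul_mem _ (Subgroup.mem_sup_left (hL D σ))
        (Subgroup.mem_sup_right (Subgroup.subset_closure gam_inverseTranspose))

end Final

end Cfsg.Agent.Lead.AutPSL
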