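import Cfsg.Agent.Lib.Lead.CardSL
/-! Symplectic transvections: transitivity on nonzero vectors and the centre of `Sp_{2m}`. -/
set_option autoImplicit false
set_option linter.unusedSimpArgs false
set_option linter.style.haveILetI false
set_option linter.unusedSectionVars false
namespace Cfsg.Agent.Lead
open Matrix

variable {l : Type*} [Fintype l] [DecidableEq l] {F : Type*} [Field F]

/-- The standard symplectic form. -/
def sympForm (x y : l ⊕ l → F) : F := x ⬝ᵥ (J l F *ᵥ y)

lemma J_mulVec_inl (y : l ⊕ l → F) (i : l) : (J l F *ᵥ y) (Sum.inl i) = - y (Sum.inr i) := by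
  simp [J, Matrix.mulVec, dotProduct, Fintype.sum_sum_type, Matrix.one_apply]

lemma J_mulVec_inr (y : l ⊕ l → F) (i : l) : (J l F *ᵥ y) (Sum.inr i) = y (Sum.inl i) := by
  simp [J, Matrix.mulVec, dotProduct, Fintype.sum_sum_type, Matrix.one_apply]

lemma sympForm_apply (x y : l ⊕ l → F) :
    sympForm x y = ∑ i, (x (Sum.inr i) * y (Sum.inl i) - x (Sum.inl i) * y (Sum.inr i)) := by
  simp only [sympForm, dotProduct, Fintype.sum_sum_type, J_mulVec_inl, J_mulVec_inr]
  rw [← Finset.sum_add_distrib]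
  exact Finset.sum_congr rfl fun i _ => by ring

@[simp] lemma sympForm_self (x : l ⊕ l → F) : sympForm x x = 0 := by
  rw [sympForm_apply]
  exact Finset.sum_eq_zero fun i _ => by ring

lemma sympForm_swap (x y : l ⊕ l → F) : sympForm x y = - sympForm y x := by
  rw [sympForm_apply, sympForm_apply, ← Finset.sum_neg_distrib]
  exact Finset.sum_congr rfl fun i _ => by ring

lemma sympForm_add_right (x y z : l ⊕ l → F) : sympForm x (y + z) = sympForm x y + sympForm x z := by
  simp [sympForm, Matrix.mulVec_add, dotProduct_add]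

lemma sympForm_add_left (x y z : l ⊕ l → F) : sympForm (x + y) z = sympForm x z + sympForm y z := by
  simp [sympForm, add_dotProduct]

lemma sympForm_sub_right (x y z : l ⊕ l → F) : sympForm x (y - z) = sympForm x y - sympForm x z := by
  simp [sympForm, Matrix.mulVec_sub, dotProduct_sub]

lemma sympForm_smul_right (a : F) (x y : l ⊕ l → F) : sympForm x (a • y) = a * sympForm x y := by
  simp [sympForm, Matrix.mulVec_smul, dotProduct_smul]

lemma sympForm_smul_left (a : F) (x y : l ⊕ l → F) : sympForm (a • x) y = a * sympForm x y := by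
  simp [sympForm, smul_dotProduct]

lemma sympForm_nondeg {x : l ⊕ l → F} (hx : x ≠ 0) : ∃ z : l ⊕ l → F, sympForm x z ≠ 0 := by
  classical
  by_contra hcon
  push Not at hcon
  apply hx
  funext k
  rcases k with i | i
  · have := hcon (Pi.single (Sum.inr i) 1)
    simpa [sympForm_apply, Pi.single_apply, Finset.sum_ite_eq] using this
  · have := hcon (Pi.single (Sum.inl i) 1)
    simpa [sympForm_apply, Pi.single_apply, Finset.sum_ite_eq] using this

/-- The underlying matrix of a symplectic transvection. -/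
def sympTmat (u : l ⊕ l → F) (a : F) : Matrix (l ⊕ l) (l ⊕ l) F :=
  1 + a • vecMulVec u (J l F *ᵥ u)

lemma sympTmat_mulVec (u : l ⊕ l → F) (a : F) (x : l ⊕ l → F) :
    sympTmat u a *ᵥ x = x + (a * sympForm x u) • u := by
  funext k
  simp only [sympTmat, Matrix.add_mulVec, Matrix.one_mulVec, Matrix.smul_mulVec,
    Matrix.vecMulVec_mulVec, Pi.add_apply, Pi.smul_apply, smul_eq_mul, sympForm,
    MulOpposite.smul_eq_mul_unop, MulOpposite.unop_op, dotProduct_comm x]
  ring

lemma sympTmat_mem (u : l ⊕ l → F) (a : F) : sympTmat u a ∈ symplecticGroup l F := by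
  rw [SymplecticGroup.mem_iff]
  set f := J l F *ᵥ u with hf
  have h1 : vecMulVec u f * J l F = vecMulVec u u := by
    rw [vecMulVec_mul, ← mulVec_transpose, J_transpose, hf, Matrix.neg_mulVec, Matrix.mulVec_mulVec,
      J_squared, Matrix.neg_mulVec, Matrix.one_mulVec]
    ext i j
    simp [vecMulVec_apply]
  have h2 : J l F * vecMulVec f u = - vecMulVec u u := by
    rw [mul_vecMulVec, hf, Matrix.mulVec_mulVec, J_squared, Matrix.neg_mulVec, Matrix.one_mulVec]
    ext i j
    simp [vecMulVec_apply]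
  have h4 : vecMulVec u u * vecMulVec f u = 0 := by
    rw [vecMulVec_mul_vecMulVec]
    have : u ⬝ᵥ f = 0 := sympForm_self u
    rw [this]
    simp
  have ht : (sympTmat u a)ᵀ = 1 + a • vecMulVec f u := by
    simp [sympTmat, Matrix.transpose_add, Matrix.transpose_smul, transpose_vecMulVec, ← hf]
  rw [ht]
  simp only [sympTmat, ← hf]
  simp only [add_mul, mul_add, one_mul, mul_one, Matrix.smul_mul, Matrix.mul_smul, h1, h2, h4]
  simp

/-- A symplectic transvection. -/
def sympT (u : l ⊕ l → F) (a : F) : symplecticGroup l F := ⟨sympTmat u a, sympTmat_mem u a⟩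

@[simp] lemma sympT_coe (u : l ⊕ l → F) (a : F) :
    ((sympT u a : symplecticGroup l F) : Matrix (l ⊕ l) (l ⊕ l) F) = sympTmat u a := rfl

/-- `Sp` is transitive on nonzero vectors when the form does not vanish on the pair. -/
lemma exists_sympT_of_form_ne {v w : l ⊕ l → F} (h : sympForm v w ≠ 0) :
    ∃ g : symplecticGroup l F, (g : Matrix (l ⊕ l) (l ⊕ l) F) *ᵥ v = w := by
  refine ⟨sympT (w - v) (sympForm v w)⁻¹, ?_⟩
  rw [sympT_coe, sympTmat_mulVec, sympForm_sub_right, sympForm_self, sub_zero,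
    inv_mul_cancel₀ h, one_smul]
  abel

/-- `Sp_{2m}(F)` is transitive on nonzero vectors. -/
theorem sp_transitive {v w : l ⊕ l → F} (hv : v ≠ 0) (hw : w ≠ 0) :
    ∃ g : symplecticGroup l F, (g : Matrix (l ⊕ l) (l ⊕ l) F) *ᵥ v = w := by
  by_cases h : sympForm v w = 0
  · obtain ⟨z₁, hz₁⟩ := sympForm_nondeg hv
    obtain ⟨z₂, hz₂⟩ := sympForm_nondeg hw
    have hz₂' : sympForm z₂ w ≠ 0 := by
      rw [sympForm_swap, neg_ne_zero]; exact hz₂
    obtain ⟨z, hz1, hz2⟩ : ∃ z : l ⊕ l → F, sympForm v z ≠ 0 ∧ sympForm z w ≠ 0 := by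
      by_cases h1 : sympForm z₁ w = 0
      · by_cases h2 : sympForm v z₂ = 0
        · refine ⟨z₁ + z₂, ?_, ?_⟩
          · rwa [sympForm_add_right, h2, add_zero]
          · rwa [sympForm_add_left, h1, zero_add]
        · exact ⟨z₂, h2, hz₂'⟩
      · exact ⟨z₁, hz₁, h1⟩
    obtain ⟨g₁, hg₁⟩ := exists_sympT_of_form_ne hz1
    obtain ⟨g₂, hg₂⟩ := exists_sympT_of_form_ne hz2
    refine ⟨g₂ * g₁, ?_⟩
    rw [Submonoid.coe_mul, ← Matrix.mulVec_mulVec, hg₁, hg₂]
  · exact exists_sympT_of_form_ne h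

/-- Central elements of `Sp` have every nonzero vector as an eigenvector. -/
lemma center_eigen {A : symplecticGroup l F} (hA : A ∈ Subgroup.center (symplecticGroup l F))
    {v : l ⊕ l → F} (hv : v ≠ 0) :
    ∃ c : F, c • v = (A : Matrix (l ⊕ l) (l ⊕ l) F) *ᵥ v := by
  obtain ⟨z, hz⟩ := sympForm_nondeg hv
  have hz' : sympForm z v ≠ 0 := by
    rw [sympForm_swap, neg_ne_zero]; exact hz
  have h1 := Subgroup.mem_center_iff.1 hA (sympT v 1)
  have h2 : sympTmat v 1 * (A : Matrix (l ⊕ l) (l ⊕ l) F) = (A : Matrix _ _ F) * sympTmat v 1 :=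
    congrArg Subtype.val h1
  have h3 := congrArg (fun M : Matrix (l ⊕ l) (l ⊕ l) F => M *ᵥ z) h2
  simp only [← Matrix.mulVec_mulVec, sympTmat_mulVec, Matrix.mulVec_add, Matrix.mulVec_smul,
    one_mul] at h3
  have h4 : sympForm ((A : Matrix (l ⊕ l) (l ⊕ l) F) *ᵥ z) v • v =
      sympForm z v • (A : Matrix (l ⊕ l) (l ⊕ l) F) *ᵥ v := add_left_cancel h3
  refine ⟨(sympForm z v)⁻¹ * sympForm ((A : Matrix (l ⊕ l) (l ⊕ l) F) *ᵥ z) v, ?_⟩
  rw [mul_smul, h4, smul_smul, inv_mul_cancel₀ hz', one_smul]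

lemma center_scalar {A : symplecticGroup l F} (hA : A ∈ Subgroup.center (symplecticGroup l F)) :
    ∃ c : F, (A : Matrix (l ⊕ l) (l ⊕ l) F) = c • 1 := by
  have : ∀ v : l ⊕ l → F, ¬ LinearIndependent F ![v, Matrix.mulVecLin (A : Matrix (l ⊕ l) (l ⊕ l) F) v] := by
    intro v
    by_cases hv : v = 0
    · simp [hv, linearIndependent_fin2]
    · rw [LinearIndependent.pair_iff' hv]
      push Not
      exact center_eigen hA hv
  obtain ⟨c, hc⟩ := LinearMap.exists_eq_smul_id_of_forall_notLinearIndependent this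
  refine ⟨c, ?_⟩
  ext i j
  have := congrFun (congrArg (fun f => f (Pi.single j 1)) hc) i
  simpa [Matrix.one_apply, Pi.single_apply] using this

lemma scalar_mem_iff [Nonempty l] (c : F) : (c • 1 : Matrix (l ⊕ l) (l ⊕ l) F) ∈ symplecticGroup l F ↔ c ^ 2 = 1 := by
  rw [SymplecticGroup.mem_iff]
  have h1 : (c • 1 : Matrix (l ⊕ l) (l ⊕ l) F) * J l F * (c • 1 : Matrix (l ⊕ l) (l ⊕ l) F)ᵀ
      = (c ^ 2) • J l F := by
    simp [Matrix.transpose_smul, smul_smul, pow_two]
  rw [h1]
  constructor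
  · intro h
    obtain ⟨i⟩ := ‹Nonempty l›
    have := congrFun (congrFun h (Sum.inl i)) (Sum.inr i)
    simpa [J] using this
  · intro h
    rw [h, one_smul]

section Finite
variable [Fintype F] [Nonempty l]

/-- The order of the centre of `Sp`. -/
theorem card_center_Sp :
    Nat.card (Subgroup.center (symplecticGroup l F)) = Nat.gcd 2 (Fintype.card F - 1) := by
  classical
  rw [← card_rootsOfUnity_field (F := F) 2]
  symm
  let g : rootsOfUnity 2 F → Subgroup.center (symplecticGroup l F) := fun ζ =>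
    ⟨⟨(((ζ : Fˣ) : F)) • 1, (scalar_mem_iff _).2 (by
      have := ζ.2
      rw [mem_rootsOfUnity] at this
      have h2 := congrArg Units.val this
      simpa using h2)⟩, by
      rw [Subgroup.mem_center_iff]
      intro B
      apply Subtype.ext
      simp⟩
  apply Nat.card_eq_of_bijective g
  constructor
  · intro x y h
    obtain ⟨i⟩ := ‹Nonempty l›
    have h1 := congrArg (fun z : Subgroup.center (symplecticGroup l F) =>
      ((z : symplecticGroup l F) : Matrix (l ⊕ l) (l ⊕ l) F) (Sum.inl i) (Sum.inl i)) h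
    simp [g] at h1
    exact Subtype.ext (Units.ext h1)
  · rintro ⟨A, hA⟩
    obtain ⟨c, hc⟩ := center_scalar hA
    have hc2 : c ^ 2 = 1 := (scalar_mem_iff c).1 (hc ▸ A.2)
    have hc0 : c ≠ 0 := by
      rintro rfl
      simp at hc2
    refine ⟨⟨Units.mk0 c hc0, ?_⟩, ?_⟩
    · rw [mem_rootsOfUnity]
      apply Units.ext
      simpa using hc2
    · apply Subtype.ext
      apply Subtype.ext
      simp [g, hc]

end Finite

end Cfsg.Agent.Lead
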