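import Cfsg.Agent.Lib.Lead.SpBasic
/-! The order of the symplectic group, by counting partial symplectic bases. -/
set_option autoImplicit false
set_option linter.unusedSimpArgs false
set_option linter.style.haveILetI false
set_option linter.unusedSectionVars false
namespace Cfsg.Agent.Lead
open Matrix

variable {l : Type*} [Fintype l] [DecidableEq l] {F : Type*} [Field F]

lemma sympForm_sum_left {ι : Type*} (s : Finset ι) (g : ι → (l ⊕ l → F)) (y : l ⊕ l → F) :
    sympForm (∑ i ∈ s, g i) y = ∑ i ∈ s, sympForm (g i) y := by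
  classical
  induction s using Finset.induction_on with
  | empty => simp [sympForm]
  | insert a s ha ih => rw [Finset.sum_insert ha, Finset.sum_insert ha, sympForm_add_left, ih]

lemma sympForm_sub_left (x y z : l ⊕ l → F) : sympForm (x - y) z = sympForm x z - sympForm y z := by
  simp [sympForm, sub_dotProduct]

lemma sympForm_zero_left (y : l ⊕ l → F) : sympForm 0 y = 0 := by
  simp [sympForm]

/-- Partial symplectic bases of length `k`. -/
def IsPartial {k : ℕ} (e f : Fin k → (l ⊕ l → F)) : Prop :=
  (∀ i j, sympForm (e i) (e j) = 0) ∧ (∀ i j, sympForm (f i) (f j) = 0) ∧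
    ∀ i j, sympForm (e i) (f j) = if i = j then -1 else 0

/-- The orthogonal complement of a partial basis. -/
def Perp {k : ℕ} (e f : Fin k → (l ⊕ l → F)) (x : l ⊕ l → F) : Prop :=
  (∀ i, sympForm x (e i) = 0) ∧ ∀ i, sympForm x (f i) = 0

/-- The projection onto the complement. -/
def proj {k : ℕ} (e f : Fin k → (l ⊕ l → F)) (x : l ⊕ l → F) : l ⊕ l → F :=
  x + ∑ i, (sympForm x (f i) • e i - sympForm x (e i) • f i)

section
variable {k : ℕ} {e f : Fin k → (l ⊕ l → F)} (h : IsPartial e f)
include h

lemma form_f_e (i j : Fin k) : sympForm (f i) (e j) = if i = j then 1 else 0 := by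
  rw [sympForm_swap, h.2.2 j i]
  by_cases hij : i = j
  · subst hij; simp
  · rw [if_neg hij, if_neg (Ne.symm hij), neg_zero]

lemma proj_e (x : l ⊕ l → F) (j : Fin k) : sympForm (proj e f x) (e j) = 0 := by
  simp only [proj, sympForm_add_left, sympForm_sum_left, sympForm_sub_left, sympForm_smul_left,
    h.1, form_f_e h, mul_zero, zero_sub, mul_ite, mul_one, Finset.sum_neg_distrib, Finset.sum_ite_eq',
    Finset.mem_univ, if_true]
  ring

lemma proj_f (x : l ⊕ l → F) (j : Fin k) : sympForm (proj e f x) (f j) = 0 := by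
  simp only [proj, sympForm_add_left, sympForm_sum_left, sympForm_sub_left, sympForm_smul_left,
    h.2.1, h.2.2, mul_zero, sub_zero, mul_ite, mul_one, Finset.sum_ite_eq', Finset.mem_univ, if_true]
  ring

lemma proj_perp (x : l ⊕ l → F) : Perp e f (proj e f x) := ⟨proj_e h x, proj_f h x⟩

/-- `V = W ⊕ F^k ⊕ F^k`. -/
def perpEquiv : (l ⊕ l → F) ≃ {x // Perp e f x} × (Fin k → F) × (Fin k → F) where
  toFun x := (⟨proj e f x, proj_perp h x⟩, fun i => sympForm x (e i), fun i => sympForm x (f i))
  invFun p := p.1.1 + ∑ i, (p.2.1 i • f i - p.2.2 i • e i)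
  left_inv x := by
    simp only [proj]
    rw [add_assoc, ← Finset.sum_add_distrib]
    have : ∀ i, (sympForm x (f i) • e i - sympForm x (e i) • f i)
        + (sympForm x (e i) • f i - sympForm x (f i) • e i) = 0 := fun i => by abel
    simp only [this, Finset.sum_const_zero, add_zero]
  right_inv p := by
    obtain ⟨⟨w, hw⟩, d, c⟩ := p
    have h1 : ∀ j, sympForm (w + ∑ i, (d i • f i - c i • e i)) (e j) = d j := by
      intro j
      simp only [sympForm_add_left, sympForm_sum_left, sympForm_sub_left, sympForm_smul_left,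
        hw.1, h.1, form_f_e h, mul_zero, sub_zero, zero_add, mul_ite, mul_one,
        Finset.sum_ite_eq', Finset.mem_univ, if_true]
    have h2 : ∀ j, sympForm (w + ∑ i, (d i • f i - c i • e i)) (f j) = c j := by
      intro j
      simp only [sympForm_add_left, sympForm_sum_left, sympForm_sub_left, sympForm_smul_left,
        hw.2, h.2.1, h.2.2, mul_zero, zero_sub, zero_add, mul_ite, mul_one, mul_neg,
        Finset.sum_neg_distrib, Finset.sum_ite_eq', Finset.mem_univ, if_true, neg_neg]
    refine Prod.ext (Subtype.ext ?_) (Prod.ext (funext h1) (funext h2))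
    simp only [proj, h1, h2]
    rw [add_assoc, ← Finset.sum_add_distrib]
    have : ∀ i, (d i • f i - c i • e i) + (c i • e i - d i • f i) = 0 := fun i => by abel
    simp only [this, Finset.sum_const_zero, add_zero]

end

section Finite
variable [Fintype F]

lemma card_perp {k : ℕ} {e f : Fin k → (l ⊕ l → F)} (h : IsPartial e f) :
    Nat.card {x // Perp e f x} * Fintype.card F ^ (2 * k) = Fintype.card F ^ (2 * Fintype.card l) := by
  classical
  have h1 := Nat.card_congr (perpEquiv h)
  rw [Nat.card_prod, Nat.card_prod, Nat.card_eq_fintype_card (α := Fin k → F),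
    Nat.card_eq_fintype_card (α := l ⊕ l → F)] at h1
  simp only [Fintype.card_fun, Fintype.card_sum, Fintype.card_fin] at h1
  rw [two_mul k, pow_add, two_mul (Fintype.card l), h1]

variable {k : ℕ} {e f : Fin k → (l ⊕ l → F)}

lemma perp_add {x y : l ⊕ l → F} (hx : Perp e f x) (hy : Perp e f y) : Perp e f (x + y) :=
  ⟨fun i => by rw [sympForm_add_left, hx.1, hy.1, add_zero],
    fun i => by rw [sympForm_add_left, hx.2, hy.2, add_zero]⟩

lemma perp_smul {x : l ⊕ l → F} (c : F) (hx : Perp e f x) : Perp e f (c • x) :=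
  ⟨fun i => by rw [sympForm_smul_left, hx.1, mul_zero],
    fun i => by rw [sympForm_smul_left, hx.2, mul_zero]⟩

lemma exists_perp_form_one (h : IsPartial e f) {a : l ⊕ l → F} (ha : Perp e f a) (ha0 : a ≠ 0) :
    ∃ b, Perp e f b ∧ sympForm a b = 1 := by
  obtain ⟨z, hz⟩ := sympForm_nondeg ha0
  have h1 : sympForm a (proj e f z) = sympForm a z := by
    simp only [proj, sympForm_add_right]
    have : sympForm a (∑ i, (sympForm z (f i) • e i - sympForm z (e i) • f i)) = 0 := by
      rw [sympForm_swap, sympForm_sum_left, neg_eq_zero]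
      refine Finset.sum_eq_zero fun i _ => ?_
      rw [sympForm_sub_left, sympForm_smul_left, sympForm_smul_left, sympForm_swap (e i),
        sympForm_swap (f i), ha.1, ha.2]
      simp
    rw [this, add_zero]
  refine ⟨(sympForm a z)⁻¹ • proj e f z, perp_smul _ (proj_perp h z), ?_⟩
  rw [sympForm_smul_right, h1, inv_mul_cancel₀ hz]

/-- Fibre of `ω(a, ·)` on the complement. -/
lemma card_fiber_perp (h : IsPartial e f) {a : l ⊕ l → F} (ha : Perp e f a) (ha0 : a ≠ 0) :
    Fintype.card F * Nat.card {b // Perp e f b ∧ sympForm a b = -1} = Nat.card {x // Perp e f x} := by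
  classical
  obtain ⟨b₁, hb₁, hab₁⟩ := exists_perp_form_one h ha ha0
  have equiv : {x // Perp e f x} ≃ F × {b // Perp e f b ∧ sympForm a b = -1} :=
    { toFun := fun b => (sympForm a b.1, ⟨b.1 + (-1 - sympForm a b.1) • b₁,
        perp_add b.2 (perp_smul _ hb₁), by
          rw [sympForm_add_right, sympForm_smul_right, hab₁]; ring⟩)
      invFun := fun p => ⟨p.2.1 + (p.1 + 1) • b₁, perp_add p.2.2.1 (perp_smul _ hb₁)⟩
      left_inv := fun b => by
        apply Subtype.ext
        simp only
        have h9 : -1 - sympForm a b.1 + (sympForm a b.1 + 1) = 0 := by ring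
        rw [add_assoc, ← add_smul, h9, zero_smul, add_zero]
      right_inv := fun p => by
        obtain ⟨t, b, hb, hab⟩ := p
        simp only [Prod.mk.injEq, Subtype.mk.injEq]
        have h3 : sympForm a (b + (t + 1) • b₁) = t := by
          rw [sympForm_add_right, sympForm_smul_right, hab₁, hab]; ring
        refine ⟨h3, ?_⟩
        have h9 : t + 1 + (-1 - t) = 0 := by ring
        rw [h3, add_assoc, ← add_smul, h9, zero_smul, add_zero] }
  rw [Nat.card_congr equiv, Nat.card_prod, Nat.card_eq_fintype_card (α := F)]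

/-- The extensions of a partial basis by one more hyperbolic pair. -/
def Ext (e f : Fin k → (l ⊕ l → F)) : Type _ :=
  {p : (l ⊕ l → F) × (l ⊕ l → F) // Perp e f p.1 ∧ Perp e f p.2 ∧ sympForm p.1 p.2 = -1}

lemma card_Ext (h : IsPartial e f) :
    Fintype.card F * Nat.card (Ext e f) =
      (Nat.card {x // Perp e f x} - 1) * Nat.card {x // Perp e f x} := by
  classical
  let equiv : Ext e f ≃ Σ a : {x // Perp e f x}, {b // Perp e f b ∧ sympForm a.1 b = -1} :=
    { toFun := fun p => ⟨⟨p.1.1, p.2.1⟩, ⟨p.1.2, p.2.2⟩⟩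
      invFun := fun p => ⟨(p.1.1, p.2.1), p.1.2, p.2.2⟩
      left_inv := fun p => rfl
      right_inv := fun p => rfl }
  rw [Nat.card_congr equiv, Nat.card_sigma, Finset.mul_sum]
  have h0 : (0 : l ⊕ l → F) ∈ {x | Perp e f x} := by
    refine ⟨fun i => sympForm_zero_left _, fun i => sympForm_zero_left _⟩
  let z : {x // Perp e f x} := ⟨0, h0⟩
  have hsplit := Finset.add_sum_erase (Finset.univ : Finset {x // Perp e f x})
    (fun a => Fintype.card F * Nat.card {b // Perp e f b ∧ sympForm a.1 b = -1}) (Finset.mem_univ z)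
  rw [← hsplit]
  have hz : Nat.card {b // Perp e f b ∧ sympForm z.1 b = -1} = 0 := by
    have : IsEmpty {b // Perp e f b ∧ sympForm z.1 b = -1} := ⟨fun b => by
      have h9 : sympForm (0 : l ⊕ l → F) b.1 = -1 := b.2.2
      rw [sympForm_zero_left] at h9
      exact one_ne_zero (neg_eq_zero.1 h9.symm)⟩
    exact Nat.card_of_isEmpty
  simp only [hz, mul_zero, zero_add]
  have : ∀ a ∈ Finset.univ.erase z, Fintype.card F * Nat.card {b // Perp e f b ∧ sympForm a.1 b = -1}
      = Nat.card {x // Perp e f x} := by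
    intro a ha
    refine card_fiber_perp h a.2 ?_
    intro h1
    exact Finset.ne_of_mem_erase ha (Subtype.ext h1)
  rw [Finset.sum_congr rfl this, Finset.sum_const, Finset.card_erase_of_mem (Finset.mem_univ _),
    Finset.card_univ, smul_eq_mul, Nat.card_eq_fintype_card]

lemma isPartial_cons_iff (a b : l ⊕ l → F) :
    IsPartial (Fin.cons a e : Fin (k + 1) → (l ⊕ l → F)) (Fin.cons b f) ↔
      IsPartial e f ∧ Perp e f a ∧ Perp e f b ∧ sympForm a b = -1 := by
  constructor
  · rintro ⟨h1, h2, h3⟩
    refine ⟨⟨fun i j => ?_, fun i j => ?_, fun i j => ?_⟩, ⟨fun i => ?_, fun i => ?_⟩,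
      ⟨fun i => ?_, fun i => ?_⟩, ?_⟩
    · simpa using h1 i.succ j.succ
    · simpa using h2 i.succ j.succ
    · simpa using h3 i.succ j.succ
    · simpa using h1 0 i.succ
    · simpa [Fin.succ_ne_zero, eq_comm] using h3 0 i.succ
    · have := h3 i.succ 0
      simp [Fin.succ_ne_zero] at this
      rw [sympForm_swap, this, neg_zero]
    · simpa using h2 0 i.succ
    · simpa using h3 0 0
  · rintro ⟨⟨h1, h2, h3⟩, ⟨ha1, ha2⟩, ⟨hb1, hb2⟩, hab⟩
    refine ⟨fun i j => ?_, fun i j => ?_, fun i j => ?_⟩
    · refine Fin.cases ?_ (fun i => ?_) i <;> refine Fin.cases ?_ (fun j => ?_) j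
      · simp
      · simpa using ha1 j
      · simp only [Fin.cons_succ, Fin.cons_zero]
        rw [sympForm_swap, ha1, neg_zero]
      · simpa using h1 i j
    · refine Fin.cases ?_ (fun i => ?_) i <;> refine Fin.cases ?_ (fun j => ?_) j
      · simp
      · simpa using hb2 j
      · simp only [Fin.cons_succ, Fin.cons_zero]
        rw [sympForm_swap, hb2, neg_zero]
      · simpa using h2 i j
    · refine Fin.cases ?_ (fun i => ?_) i <;> refine Fin.cases ?_ (fun j => ?_) j
      · simpa using hab
      · simp only [Fin.cons_succ, Fin.cons_zero]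
        rw [ha2]
        simp [Fin.succ_ne_zero, eq_comm]
      · simp only [Fin.cons_succ, Fin.cons_zero]
        rw [sympForm_swap, hb1, neg_zero]
        simp [Fin.succ_ne_zero]
      · simpa using h3 i j

/-- The set of partial symplectic bases of length `k`. -/
def Tup (l : Type*) [Fintype l] [DecidableEq l] (F : Type*) [Field F] (k : ℕ) : Type _ :=
  {p : (Fin k → (l ⊕ l → F)) × (Fin k → (l ⊕ l → F)) // IsPartial p.1 p.2}

instance : Finite (Tup l F k) := by unfold Tup; infer_instance
instance : Finite (Ext e f) := by unfold Ext; infer_instance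

/-- Splitting off the first pair. -/
def tupSuccEquiv : Tup l F (k + 1) ≃ Σ t : Tup l F k, Ext t.1.1 t.1.2 where
  toFun p := ⟨⟨(Fin.tail p.1.1, Fin.tail p.1.2), by
      have := p.2
      rw [← Fin.cons_self_tail p.1.1, ← Fin.cons_self_tail p.1.2] at this
      exact ((isPartial_cons_iff _ _).1 this).1⟩,
    ⟨(p.1.1 0, p.1.2 0), by
      have := p.2
      rw [← Fin.cons_self_tail p.1.1, ← Fin.cons_self_tail p.1.2] at this
      exact ((isPartial_cons_iff _ _).1 this).2⟩⟩
  invFun q := ⟨(Fin.cons q.2.1.1 q.1.1.1, Fin.cons q.2.1.2 q.1.1.2),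
    (isPartial_cons_iff _ _).2 ⟨q.1.2, q.2.2⟩⟩
  left_inv p := by
    apply Subtype.ext
    simp only [Fin.cons_self_tail]
  right_inv q := by
    rcases q with ⟨⟨⟨e, f⟩, ht⟩, ⟨⟨a, b⟩, hab⟩⟩
    rfl

/-- Number of extensions. -/
lemma card_Ext_eq (h : IsPartial e f) (hk : k < Fintype.card l) :
    Nat.card (Ext e f) = (Fintype.card F ^ (2 * (Fintype.card l - k)) - 1) *
      Fintype.card F ^ (2 * (Fintype.card l - k) - 1) := by
  set q := Fintype.card F with hq
  have hq0 : 0 < q := Fintype.card_pos
  have h1 := card_perp h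
  have h2 : Nat.card {x // Perp e f x} = q ^ (2 * (Fintype.card l - k)) := by
    have : q ^ (2 * Fintype.card l) = q ^ (2 * (Fintype.card l - k)) * q ^ (2 * k) := by
      rw [← pow_add]; congr 1; omega
    rw [this] at h1
    exact Nat.eq_of_mul_eq_mul_right (pow_pos hq0 _) h1
  have h3 := card_Ext h
  rw [h2] at h3
  have h4 : q ^ (2 * (Fintype.card l - k)) = q * q ^ (2 * (Fintype.card l - k) - 1) := by
    rw [← pow_succ']; congr 1; omega
  rw [h4] at h3 ⊢
  have h5 : q * Nat.card (Ext e f) = q * (((q * q ^ (2 * (Fintype.card l - k) - 1)) - 1) *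
      q ^ (2 * (Fintype.card l - k) - 1)) := by
    rw [h3]; ring
  exact Nat.eq_of_mul_eq_mul_left hq0 h5

lemma card_Tup_succ (hk : k < Fintype.card l) :
    Nat.card (Tup l F (k + 1)) = Nat.card (Tup l F k) *
      ((Fintype.card F ^ (2 * (Fintype.card l - k)) - 1) *
        Fintype.card F ^ (2 * (Fintype.card l - k) - 1)) := by
  classical
  haveI : Fintype (Tup l F k) := Fintype.ofFinite _
  rw [Nat.card_congr tupSuccEquiv, Nat.card_sigma]
  rw [Finset.sum_congr rfl (fun t _ => card_Ext_eq t.2 hk), Finset.sum_const, Finset.card_univ,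
    smul_eq_mul, Nat.card_eq_fintype_card]

lemma card_Tup_zero : Nat.card (Tup l F 0) = 1 := by
  have : Unique (Tup l F 0) :=
    { default := ⟨(fun i => i.elim0, fun i => i.elim0),
        ⟨fun i => i.elim0, fun i => i.elim0, fun i => i.elim0⟩⟩
      uniq := fun t => by
        apply Subtype.ext
        apply Prod.ext <;> funext i <;> exact i.elim0 }
  exact Nat.card_unique

/-- The product formula. -/
lemma card_Tup_formula (k : ℕ) (hk : k ≤ Fintype.card l) :
    Nat.card (Tup l F k) = ∏ i ∈ Finset.range k,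
      ((Fintype.card F ^ (2 * (Fintype.card l - i)) - 1) *
        Fintype.card F ^ (2 * (Fintype.card l - i) - 1)) := by
  induction k with
  | zero => simp [card_Tup_zero]
  | succ k ih =>
    rw [card_Tup_succ (by omega), ih (by omega), Finset.prod_range_succ]

lemma transpose_J_mul_apply (A : Matrix (l ⊕ l) (l ⊕ l) F) (x y : l ⊕ l) :
    (Aᵀ * J l F * A) x y = sympForm (fun c => A c x) (fun c => A c y) := by
  have : (Aᵀ * J l F * A) x y = (fun c => A c x) ⬝ᵥ (J l F *ᵥ (fun c => A c y)) := by
    rw [Matrix.mul_assoc, Matrix.mul_apply]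
    simp only [Matrix.transpose_apply, dotProduct]
    refine Finset.sum_congr rfl fun c _ => ?_
    rw [Matrix.mul_apply]
    rfl
  exact this

/-- Elements of `Sp_{2m}` are the same as symplectic bases. -/
noncomputable def spEquivTup (m : ℕ) : symplecticGroup (Fin m) F ≃ Tup (Fin m) F m where
  toFun A := ⟨(fun i c => (A : Matrix _ _ F) c (Sum.inl i), fun i c => (A : Matrix _ _ F) c (Sum.inr i)), by
    have hA := SymplecticGroup.mem_iff'.1 A.2
    have key := fun x y => congrFun (congrFun hA x) y
    simp only [transpose_J_mul_apply] at key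
    refine ⟨fun i j => ?_, fun i j => ?_, fun i j => ?_⟩
    · have h1 := key (Sum.inl i) (Sum.inl j)
      simp only [J, Matrix.fromBlocks_apply₁₁, Matrix.zero_apply] at h1
      exact h1
    · have h1 := key (Sum.inr i) (Sum.inr j)
      simp only [J, Matrix.fromBlocks_apply₂₂, Matrix.zero_apply] at h1
      exact h1
    · have h1 := key (Sum.inl i) (Sum.inr j)
      simp only [J, Matrix.fromBlocks_apply₁₂, Matrix.neg_apply, Matrix.one_apply] at h1
      refine h1.trans ?_
      split_ifs <;> simp⟩
  invFun t := ⟨Matrix.of fun c x => Sum.elim (fun i => t.1.1 i c) (fun i => t.1.2 i c) x, by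
    rw [SymplecticGroup.mem_iff']
    obtain ⟨⟨e, f⟩, h⟩ := t
    ext x y
    rw [transpose_J_mul_apply]
    rcases x with i | i <;> rcases y with j | j
    · exact (h.1 i j).trans (by simp [J])
    · refine (h.2.2 i j).trans ?_
      simp only [J, Matrix.fromBlocks_apply₁₂, Matrix.neg_apply, Matrix.one_apply]
      split_ifs <;> simp
    · refine (form_f_e h i j).trans ?_
      simp only [J, Matrix.fromBlocks_apply₂₁, Matrix.one_apply]
    · exact (h.2.1 i j).trans (by simp [J])⟩
  left_inv A := by
    apply Subtype.ext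
    ext c x
    rcases x with i | i <;> rfl
  right_inv t := by
    apply Subtype.ext
    rfl

/-- The order of `Sp_{2m}(q)`. -/
theorem card_Sp {q : ℕ} (hF : Fintype.card F = q) (m : ℕ) :
    Nat.card (symplecticGroup (Fin m) F) =
      q ^ (m ^ 2) * ∏ i ∈ Finset.range m, (q ^ (2 * (i + 1)) - 1) := by
  rw [Nat.card_congr (spEquivTup m), card_Tup_formula m (by simp), hF, Fintype.card_fin]
  rw [← Finset.prod_range_reflect]
  have : ∀ j ∈ Finset.range m, (q ^ (2 * (m - (m - 1 - j))) - 1) * q ^ (2 * (m - (m - 1 - j)) - 1)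
      = (q ^ (2 * (j + 1)) - 1) * q ^ (2 * j + 1) := by
    intro j hj
    have hj' := Finset.mem_range.1 hj
    have e1 : m - (m - 1 - j) = j + 1 := by omega
    rw [e1]
    congr 2
  rw [Finset.prod_congr rfl this, Finset.prod_mul_distrib, mul_comm]
  congr 1
  rw [Finset.prod_pow_eq_pow_sum]
  congr 1
  clear this
  induction m with
  | zero => simp
  | succ n ih =>
    rw [Finset.sum_range_succ, ih]
    ring

end Finite

end Cfsg.Agent.Lead
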