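import Cfsg.Agent.Lib.Lead.SpOrder
/-! `Sp_{2m}(F)` is generated by symplectic transvections. -/
set_option autoImplicit false
set_option linter.unusedSimpArgs false
set_option linter.style.haveILetI false
set_option linter.unusedSectionVars false
set_option linter.unusedVariables false
namespace Cfsg.Agent.Lead
open Matrix

variable {l : Type*} [Fintype l] [DecidableEq l] {F : Type*} [Field F]

/-- Symplectic matrices preserve the form. -/
lemma sympForm_mulVec {A : Matrix (l ⊕ l) (l ⊕ l) F} (hA : A ∈ symplecticGroup l F)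
    (x y : l ⊕ l → F) : sympForm (A *ᵥ x) (A *ᵥ y) = sympForm x y := by
  have h := SymplecticGroup.mem_iff'.1 hA
  unfold sympForm
  rw [Matrix.mulVec_mulVec, Matrix.dotProduct_mulVec, Matrix.vecMul_mulVec,
    ← Matrix.dotProduct_mulVec, ← Matrix.mul_assoc, h]

lemma mat_ext_mulVec {M N : Matrix (l ⊕ l) (l ⊕ l) F} (h : ∀ x, M *ᵥ x = N *ᵥ x) : M = N := by
  classical
  ext i j
  have := congrFun (h (Pi.single j 1)) i
  simpa using this

/-- `Sp` element inverse on vectors. -/
lemma sp_inv_mulVec (g : symplecticGroup l F) (x : l ⊕ l → F) :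
    (g : Matrix (l ⊕ l) (l ⊕ l) F) *ᵥ (((g⁻¹ : symplecticGroup l F) : Matrix (l ⊕ l) (l ⊕ l) F) *ᵥ x) = x := by
  rw [Matrix.mulVec_mulVec]
  have : (g : Matrix (l ⊕ l) (l ⊕ l) F) * ((g⁻¹ : symplecticGroup l F) : Matrix (l ⊕ l) (l ⊕ l) F) = 1 := by
    have h := congrArg Subtype.val (mul_inv_cancel g)
    exact h
  rw [this, Matrix.one_mulVec]

lemma sp_inv_mulVec' (g : symplecticGroup l F) (x : l ⊕ l → F) :
    ((g⁻¹ : symplecticGroup l F) : Matrix (l ⊕ l) (l ⊕ l) F) *ᵥ ((g : Matrix (l ⊕ l) (l ⊕ l) F) *ᵥ x) = x := by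
  rw [Matrix.mulVec_mulVec]
  have : ((g⁻¹ : symplecticGroup l F) : Matrix (l ⊕ l) (l ⊕ l) F) * (g : Matrix (l ⊕ l) (l ⊕ l) F) = 1 := by
    have h := congrArg Subtype.val (inv_mul_cancel g)
    exact h
  rw [this, Matrix.one_mulVec]

/-- Conjugating a transvection. -/
lemma conj_sympT (g : symplecticGroup l F) (u : l ⊕ l → F) (c : F) :
    g * sympT u c * g⁻¹ = sympT ((g : Matrix (l ⊕ l) (l ⊕ l) F) *ᵥ u) c := by
  apply Subtype.ext
  apply mat_ext_mulVec
  intro x
  change (((g : Matrix (l ⊕ l) (l ⊕ l) F) * sympTmat u c) *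
    ((g⁻¹ : symplecticGroup l F) : Matrix (l ⊕ l) (l ⊕ l) F)) *ᵥ x =
      sympTmat ((g : Matrix (l ⊕ l) (l ⊕ l) F) *ᵥ u) c *ᵥ x
  rw [← Matrix.mulVec_mulVec, ← Matrix.mulVec_mulVec, sympTmat_mulVec, sympTmat_mulVec,
    Matrix.mulVec_add, Matrix.mulVec_smul, sp_inv_mulVec]
  congr 3
  have := sympForm_mulVec g.2 (((g⁻¹ : symplecticGroup l F) : Matrix (l ⊕ l) (l ⊕ l) F) *ᵥ x) u
  rw [sp_inv_mulVec] at this
  rw [this]

lemma sympT_smul (a c : F) (u : l ⊕ l → F) : sympT (a • u) c = sympT u (c * a ^ 2) := by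
  apply Subtype.ext
  apply mat_ext_mulVec
  intro x
  change sympTmat (a • u) c *ᵥ x = sympTmat u (c * a ^ 2) *ᵥ x
  rw [sympTmat_mulVec, sympTmat_mulVec, sympForm_smul_right, smul_smul]
  congr 2
  ring

lemma sympT_mul_same (u : l ⊕ l → F) (a b : F) : sympT u a * sympT u b = sympT u (a + b) := by
  apply Subtype.ext
  apply mat_ext_mulVec
  intro x
  change (sympTmat u a * sympTmat u b) *ᵥ x = sympTmat u (a + b) *ᵥ x
  rw [← Matrix.mulVec_mulVec, sympTmat_mulVec, sympTmat_mulVec, sympTmat_mulVec, sympForm_add_left,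
    sympForm_smul_left, sympForm_self, mul_zero, add_zero, add_assoc, ← add_smul]
  congr 2
  ring

@[simp] lemma sympT_zero (u : l ⊕ l → F) : sympT u 0 = 1 := by
  apply Subtype.ext
  apply mat_ext_mulVec
  intro x
  change sympTmat u 0 *ᵥ x = (1 : Matrix _ _ F) *ᵥ x
  rw [sympTmat_mulVec]
  simp

lemma sympT_inv (u : l ⊕ l → F) (a : F) : (sympT u a)⁻¹ = sympT u (-a) := by
  rw [inv_eq_iff_mul_eq_one, sympT_mul_same]
  simp

@[simp] lemma sympT_zero_vec (a : F) : sympT (0 : l ⊕ l → F) a = 1 := by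
  apply Subtype.ext
  apply mat_ext_mulVec
  intro x
  change sympTmat 0 a *ᵥ x = (1 : Matrix _ _ F) *ᵥ x
  rw [sympTmat_mulVec]
  simp

/-- The subgroup generated by transvections. -/
def spTransGroup (l : Type*) [Fintype l] [DecidableEq l] (F : Type*) [Field F] :
    Subgroup (symplecticGroup l F) :=
  Subgroup.closure (Set.range fun p : (l ⊕ l → F) × F => sympT p.1 p.2)

lemma sympT_mem (u : l ⊕ l → F) (a : F) : sympT u a ∈ spTransGroup l F :=
  Subgroup.subset_closure ⟨(u, a), rfl⟩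

/-- One step: a transvection carries `x` to `y` when `ω(x,y) ≠ 0`. -/
lemma step_move {x y : l ⊕ l → F} (h : sympForm x y ≠ 0) :
    (sympT (y - x) (sympForm x y)⁻¹ : symplecticGroup l F).1 *ᵥ x = y := by
  rw [sympT_coe, sympTmat_mulVec, sympForm_sub_right, sympForm_self, sub_zero,
    inv_mul_cancel₀ h, one_smul]
  abel

lemma step_fix {x y z : l ⊕ l → F} (c : F) (h : sympForm z y = sympForm z x) :
    (sympT (y - x) c : symplecticGroup l F).1 *ᵥ z = z := by
  rw [sympT_coe, sympTmat_mulVec, sympForm_sub_right, h, sub_self, mul_zero, zero_smul, add_zero]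

section Witt
variable [Fintype F] {k : ℕ} {e f : Fin k → (l ⊕ l → F)}

lemma perp_form_left {x z : l ⊕ l → F} (hx : sympForm x z = 0) : sympForm z x = 0 := by
  rw [sympForm_swap, hx, neg_zero]

/-- Elements fixing a partial basis. -/
def FixesAll (e f : Fin k → (l ⊕ l → F)) (h : symplecticGroup l F) : Prop :=
  (∀ i, (h : Matrix (l ⊕ l) (l ⊕ l) F) *ᵥ e i = e i) ∧ ∀ i, (h : Matrix (l ⊕ l) (l ⊕ l) F) *ᵥ f i = f i

lemma fixesAll_mul {g h : symplecticGroup l F} (hg : FixesAll e f g) (hh : FixesAll e f h) :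
    FixesAll e f (g * h) := by
  constructor
  · intro i
    change ((g : Matrix (l ⊕ l) (l ⊕ l) F) * (h : Matrix (l ⊕ l) (l ⊕ l) F)) *ᵥ e i = e i
    rw [← Matrix.mulVec_mulVec, hh.1, hg.1]
  · intro i
    change ((g : Matrix (l ⊕ l) (l ⊕ l) F) * (h : Matrix (l ⊕ l) (l ⊕ l) F)) *ᵥ f i = f i
    rw [← Matrix.mulVec_mulVec, hh.2, hg.2]

lemma step_fixesAll {x y : l ⊕ l → F} (hx : Perp e f x) (hy : Perp e f y) (c : F) :
    FixesAll e f (sympT (y - x) c) :=
  ⟨fun i => step_fix c (by rw [perp_form_left (hy.1 i), perp_form_left (hx.1 i)]),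
    fun i => step_fix c (by rw [perp_form_left (hy.2 i), perp_form_left (hx.2 i)])⟩

/-- Move a nonzero vector of the complement to another one by transvections. -/
lemma move_vec (hp : IsPartial e f) {a a' : l ⊕ l → F} (ha : Perp e f a) (ha' : Perp e f a')
    (h0 : a ≠ 0) (h0' : a' ≠ 0) :
    ∃ h ∈ spTransGroup l F, FixesAll e f h ∧ (h : Matrix (l ⊕ l) (l ⊕ l) F) *ᵥ a = a' := by
  by_cases hf : sympForm a a' = 0
  · obtain ⟨z₁, hz₁, h1⟩ := exists_perp_form_one hp ha h0
    obtain ⟨z₂, hz₂, h2⟩ := exists_perp_form_one hp ha' h0'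
    obtain ⟨z, hz, h3, h4⟩ : ∃ z, Perp e f z ∧ sympForm a z ≠ 0 ∧ sympForm z a' ≠ 0 := by
      by_cases h5 : sympForm z₁ a' = 0
      · by_cases h6 : sympForm a z₂ = 0
        · refine ⟨z₁ + z₂, perp_add hz₁ hz₂, ?_, ?_⟩
          · rw [sympForm_add_right, h6, add_zero, h1]; exact one_ne_zero
          · rw [sympForm_add_left, h5, zero_add, sympForm_swap, h2]
            simp
        · refine ⟨z₂, hz₂, h6, ?_⟩
          rw [sympForm_swap, h2]; simp
      · exact ⟨z₁, hz₁, by rw [h1]; exact one_ne_zero, h5⟩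
    refine ⟨sympT (a' - z) (sympForm z a')⁻¹ * sympT (z - a) (sympForm a z)⁻¹,
      mul_mem (sympT_mem _ _) (sympT_mem _ _),
      fixesAll_mul (step_fixesAll hz ha' _) (step_fixesAll ha hz _), ?_⟩
    change ((sympT (a' - z) (sympForm z a')⁻¹ : symplecticGroup l F).1 *
      (sympT (z - a) (sympForm a z)⁻¹ : symplecticGroup l F).1) *ᵥ a = a'
    rw [← Matrix.mulVec_mulVec, step_move h3, step_move h4]
  · exact ⟨sympT (a' - a) (sympForm a a')⁻¹, sympT_mem _ _, step_fixesAll ha ha' _, step_move hf⟩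

/-- Keep `a` fixed and move the partner. -/
lemma move_partner (hp : IsPartial e f) {a b b' : l ⊕ l → F} (ha : Perp e f a) (hb : Perp e f b)
    (hb' : Perp e f b') (hab : sympForm a b = -1) (hab' : sympForm a b' = -1) :
    ∃ h ∈ spTransGroup l F, FixesAll e f h ∧ (h : Matrix (l ⊕ l) (l ⊕ l) F) *ᵥ a = a ∧
      (h : Matrix (l ⊕ l) (l ⊕ l) F) *ᵥ b = b' := by
  by_cases hf : sympForm b b' = 0
  · have hz : Perp e f (a + b) := perp_add ha hb
    have h3 : sympForm b (a + b) ≠ 0 := by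
      rw [sympForm_add_right, sympForm_self, add_zero, sympForm_swap, hab]; simp
    have h4 : sympForm (a + b) b' ≠ 0 := by
      rw [sympForm_add_left, hab', hf]; simp
    refine ⟨sympT (b' - (a + b)) (sympForm (a + b) b')⁻¹ * sympT ((a + b) - b) (sympForm b (a + b))⁻¹,
      mul_mem (sympT_mem _ _) (sympT_mem _ _),
      fixesAll_mul (step_fixesAll hz hb' _) (step_fixesAll hb hz _), ?_, ?_⟩
    · change ((sympT (b' - (a + b)) (sympForm (a + b) b')⁻¹ : symplecticGroup l F).1 *
        (sympT ((a + b) - b) (sympForm b (a + b))⁻¹ : symplecticGroup l F).1) *ᵥ a = a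
      have e1 : (sympT ((a + b) - b) (sympForm b (a + b))⁻¹ : symplecticGroup l F).1 *ᵥ a = a :=
        step_fix _ (by rw [sympForm_add_right, sympForm_self, zero_add])
      have e2 : (sympT (b' - (a + b)) (sympForm (a + b) b')⁻¹ : symplecticGroup l F).1 *ᵥ a = a :=
        step_fix _ (by rw [hab', sympForm_add_right, sympForm_self, zero_add, hab])
      rw [← Matrix.mulVec_mulVec, e1, e2]
    · change ((sympT (b' - (a + b)) (sympForm (a + b) b')⁻¹ : symplecticGroup l F).1 *
        (sympT ((a + b) - b) (sympForm b (a + b))⁻¹ : symplecticGroup l F).1) *ᵥ b = b'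
      rw [← Matrix.mulVec_mulVec, step_move h3, step_move h4]
  · refine ⟨sympT (b' - b) (sympForm b b')⁻¹, sympT_mem _ _, step_fixesAll hb hb' _,
      step_fix _ (by rw [hab, hab']), step_move hf⟩

end Witt

/-- The transvection group acts transitively on partial symplectic bases (Witt's theorem). -/
theorem tuple_transitive [Fintype F] (k : ℕ) (e f e' f' : Fin k → (l ⊕ l → F)) (hp : IsPartial e f)
    (hp' : IsPartial e' f') :
    ∃ h ∈ spTransGroup l F, (∀ i, (h : Matrix (l ⊕ l) (l ⊕ l) F) *ᵥ e i = e' i) ∧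
      ∀ i, (h : Matrix (l ⊕ l) (l ⊕ l) F) *ᵥ f i = f' i := by
  induction k with
  | zero => exact ⟨1, one_mem _, fun i => i.elim0, fun i => i.elim0⟩
  | succ k ih =>
    rw [← Fin.cons_self_tail e, ← Fin.cons_self_tail f] at hp
    rw [← Fin.cons_self_tail e', ← Fin.cons_self_tail f'] at hp'
    obtain ⟨h1, h2, h3, h4⟩ := (isPartial_cons_iff _ _).1 hp
    obtain ⟨h1', h2', h3', h4'⟩ := (isPartial_cons_iff _ _).1 hp'
    obtain ⟨h₀, hh₀, he₀, hf₀⟩ := ih _ _ _ _ h1 h1'
    -- images of the extra pair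
    set A := (h₀ : Matrix (l ⊕ l) (l ⊕ l) F) with hA
    have hform := fun x y => sympForm_mulVec h₀.2 x y
    have hPa : Perp (Fin.tail e') (Fin.tail f') (A *ᵥ e 0) :=
      ⟨fun i => by rw [← he₀ i, hform]; exact h2.1 i, fun i => by rw [← hf₀ i, hform]; exact h2.2 i⟩
    have hPb : Perp (Fin.tail e') (Fin.tail f') (A *ᵥ f 0) :=
      ⟨fun i => by rw [← he₀ i, hform]; exact h3.1 i, fun i => by rw [← hf₀ i, hform]; exact h3.2 i⟩
    have hab : sympForm (A *ᵥ e 0) (A *ᵥ f 0) = -1 := by rw [hform]; exact h4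
    have ha0 : A *ᵥ e 0 ≠ 0 := by
      intro h
      rw [h, sympForm_zero_left] at hab
      exact one_ne_zero (neg_eq_zero.1 hab.symm)
    have ha'0 : e' 0 ≠ 0 := by
      intro h
      rw [h, sympForm_zero_left] at h4'
      exact one_ne_zero (neg_eq_zero.1 h4'.symm)
    obtain ⟨h₁, hh₁, hfix₁, hmove₁⟩ := move_vec h1' hPa h2' ha0 ha'0
    have hform₁ := fun x y => sympForm_mulVec h₁.2 x y
    set B := (h₁ : Matrix (l ⊕ l) (l ⊕ l) F) with hB
    have hPb' : Perp (Fin.tail e') (Fin.tail f') (B *ᵥ (A *ᵥ f 0)) :=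
      ⟨fun i => by rw [← hfix₁.1 i, hform₁]; exact hPb.1 i,
        fun i => by rw [← hfix₁.2 i, hform₁]; exact hPb.2 i⟩
    have hab₂ : sympForm (e' 0) (B *ᵥ (A *ᵥ f 0)) = -1 := by
      rw [← hmove₁, hform₁]; exact hab
    obtain ⟨h₂, hh₂, hfix₂, hfixa, hmove₂⟩ := move_partner h1' h2' hPb' h3' hab₂ h4'
    refine ⟨h₂ * h₁ * h₀, mul_mem (mul_mem hh₂ hh₁) hh₀, fun i => ?_, fun i => ?_⟩
    · change ((h₂ : Matrix (l ⊕ l) (l ⊕ l) F) * B * A) *ᵥ e i = e' i
      rw [← Matrix.mulVec_mulVec, ← Matrix.mulVec_mulVec]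
      refine Fin.cases ?_ (fun j => ?_) i
      · rw [hmove₁, hfixa]
      · have h5 := he₀ j
        simp only [Fin.tail] at h5
        rw [h5]
        have h6 := hfix₁.1 j
        have h7 := hfix₂.1 j
        simp only [Fin.tail] at h6 h7
        rw [h6, h7]
    · change ((h₂ : Matrix (l ⊕ l) (l ⊕ l) F) * B * A) *ᵥ f i = f' i
      rw [← Matrix.mulVec_mulVec, ← Matrix.mulVec_mulVec]
      refine Fin.cases ?_ (fun j => ?_) i
      · exact hmove₂
      · have h5 := hf₀ j
        simp only [Fin.tail] at h5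
        rw [h5]
        have h6 := hfix₁.2 j
        have h7 := hfix₂.2 j
        simp only [Fin.tail] at h6 h7
        rw [h6, h7]

/-- `Sp_{2m}(F)` is generated by transvections. -/
theorem spTransGroup_eq_top [Fintype F] (m : ℕ) : spTransGroup (Fin m) F = ⊤ := by
  rw [eq_top_iff]
  intro A _
  let t := spEquivTup (F := F) m 1
  let t' := spEquivTup (F := F) m A
  obtain ⟨h, hh, h1, h2⟩ := tuple_transitive m t.1.1 t.1.2 t'.1.1 t'.1.2 t.2 t'.2
  have key : h = A := by
    apply Subtype.ext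
    ext c x
    rcases x with i | i
    · have : (h.1 * (1 : Matrix (Fin m ⊕ Fin m) (Fin m ⊕ Fin m) F)) c (Sum.inl i) = A.1 c (Sum.inl i) :=
        congrFun (h1 i) c
      rwa [Matrix.mul_one] at this
    · have : (h.1 * (1 : Matrix (Fin m ⊕ Fin m) (Fin m ⊕ Fin m) F)) c (Sum.inr i) = A.1 c (Sum.inr i) :=
        congrFun (h2 i) c
      rwa [Matrix.mul_one] at this
  rw [← key]
  exact hh

/-- Induction principle: `Sp_{2m}(F)` is generated by transvections. -/
theorem sp_induction [Fintype F] {m : ℕ} (P : Subgroup (symplecticGroup (Fin m) F))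
    (h : ∀ u c, sympT u c ∈ P) : P = ⊤ := by
  rw [eq_top_iff, ← spTransGroup_eq_top]
  refine (Subgroup.closure_le _).2 ?_
  rintro _ ⟨⟨u, c⟩, rfl⟩
  exact h u c

section Perfect
variable [Fintype F]

open scoped commutatorElement

lemma comm_form (g : symplecticGroup l F) (v : l ⊕ l → F) (c : F) :
    sympT ((g : Matrix (l ⊕ l) (l ⊕ l) F) *ᵥ v) c * sympT v (-c) ∈ commutator (symplecticGroup l F) := by
  have : sympT ((g : Matrix (l ⊕ l) (l ⊕ l) F) *ᵥ v) c * sympT v (-c) = ⁅g, sympT v c⁆ := by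
    rw [commutatorElement_def, conj_sympT, sympT_inv]
  rw [this, commutator_def]
  exact Subgroup.commutator_mem_commutator (Subgroup.mem_top _) (Subgroup.mem_top _)

/-- Reduction to one nonzero vector. -/
lemma sympT_mem_of_base {E : l ⊕ l → F} (hE : E ≠ 0)
    (h : ∀ c, sympT E c ∈ commutator (symplecticGroup l F)) (u : l ⊕ l → F) (c : F) :
    sympT u c ∈ commutator (symplecticGroup l F) := by
  by_cases hu : u = 0
  · rw [hu, sympT_zero_vec]; exact one_mem _
  · obtain ⟨g, hg⟩ := sp_transitive hE hu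
    rw [← hg, ← conj_sympT]
    exact (Subgroup.Normal.conj_mem inferInstance _ (h c) g)

/-- `q ≥ 4`. -/
lemma sympT_mem_comm_large (hq : 4 ≤ Fintype.card F) (u : l ⊕ l → F) (c : F) :
    sympT u c ∈ commutator (symplecticGroup l F) := by
  classical
  by_cases hu : u = 0
  · rw [hu, sympT_zero_vec]; exact one_mem _
  obtain ⟨a, -, ha⟩ : ∃ a ∈ (Finset.univ : Finset F), a ∉ ({0, 1, -1} : Finset F) := by
    apply Finset.exists_mem_notMem_of_card_lt_card
    calc ({0, 1, -1} : Finset F).card ≤ 3 := Finset.card_le_three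
      _ < 4 := by norm_num
      _ ≤ _ := by rw [Finset.card_univ]; exact hq
  simp only [Finset.mem_insert, Finset.mem_singleton, not_or] at ha
  obtain ⟨ha0, ha1, ha2⟩ := ha
  have hd : a ^ 2 - 1 ≠ 0 := by
    have : a ^ 2 - 1 = (a - 1) * (a + 1) := by ring
    rw [this]
    refine mul_ne_zero (sub_ne_zero.2 ha1) ?_
    intro h
    exact ha2 (by linear_combination h)
  obtain ⟨g, hg⟩ := sp_transitive hu (smul_ne_zero ha0 hu : a • u ≠ 0)
  have h1 := comm_form g u (c / (a ^ 2 - 1))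
  rw [hg, sympT_smul, sympT_mul_same] at h1
  have e : c / (a ^ 2 - 1) * a ^ 2 + -(c / (a ^ 2 - 1)) = c := by field_simp; ring
  rwa [e] at h1

/-- Acting by a transvection, on a transvection of an orthogonal vector. -/
lemma sympT_mulVec (u : l ⊕ l → F) (a : F) (x : l ⊕ l → F) :
    (sympT u a : symplecticGroup l F).1 *ᵥ x = x + (a * sympForm x u) • u := sympTmat_mulVec u a x

lemma sympForm_single_inl (i j : l) :
    sympForm (Pi.single (Sum.inl i) 1 : l ⊕ l → F) (Pi.single (Sum.inl j) 1) = 0 := by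
  rw [sympForm_apply]
  simp

/-- Odd characteristic, `m ≥ 2`. -/
lemma sympT_mem_comm_odd (h2 : (2 : F) ≠ 0) {E V : l ⊕ l → F} (hE : E ≠ 0) (hV : V ≠ 0)
    (hEV : sympForm E V = 0) (hne1 : E + V ≠ 0) (hne2 : V - E ≠ 0) (u : l ⊕ l → F) (c : F) :
    sympT u c ∈ commutator (symplecticGroup l F) := by
  refine sympT_mem_of_base hE (fun d => ?_) u c
  obtain ⟨g₁, hg₁⟩ := sp_transitive hV hne1
  obtain ⟨g₂, hg₂⟩ := sp_transitive hV hne2
  have h1 := comm_form g₁ V (d / 2)
  have h3 := comm_form g₂ V (d / 2)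
  rw [hg₁] at h1
  rw [hg₂] at h3
  have key : (sympT (E + V) (d / 2) * sympT V (-(d / 2))) * (sympT (V - E) (d / 2) * sympT V (-(d / 2)))
      = sympT E d := by
    apply Subtype.ext
    apply mat_ext_mulVec
    intro x
    change (((sympT (E + V) (d / 2) : symplecticGroup l F).1 * (sympT V (-(d / 2)) : symplecticGroup l F).1) *
      ((sympT (V - E) (d / 2) : symplecticGroup l F).1 * (sympT V (-(d / 2)) : symplecticGroup l F).1)) *ᵥ x =
        (sympT E d : symplecticGroup l F).1 *ᵥ x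
    simp only [← Matrix.mulVec_mulVec, sympT_mulVec, sympForm_add_left, sympForm_smul_left,
      sympForm_add_right, sympForm_sub_right, sympForm_sub_left, sympForm_self, hEV,
      perp_form_left hEV]
    have e2 : d = 2 * (d / 2) := by field_simp
    set D := d / 2 with hD
    rw [e2]
    module
  rw [← key]
  exact mul_mem h1 h3

/-- Characteristic two, `m ≥ 3`. -/
lemma sympT_mem_comm_two (h2 : (2 : F) = 0) {E₀ E₁ E₂ : l ⊕ l → F} (hE₀ : E₀ ≠ 0) (hE₁ : E₁ ≠ 0)
    (hE₂ : E₂ ≠ 0) (h01 : sympForm E₀ E₁ = 0) (h02 : sympForm E₀ E₂ = 0) (h12 : sympForm E₁ E₂ = 0)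
    (hne01 : E₀ + E₁ ≠ 0) (hne02 : E₀ + E₂ ≠ 0) (hne12 : E₁ + E₂ ≠ 0) (hne012 : E₀ + E₁ + E₂ ≠ 0)
    (u : l ⊕ l → F) (c : F) :
    sympT u c ∈ commutator (symplecticGroup l F) := by
  have hneg : ∀ x : F, -x = x := fun x => by linear_combination (-x) * h2
  have hcomm : ∀ a b : l ⊕ l → F, a ≠ 0 → b ≠ 0 → ∀ d : F, sympT a d * sympT b d ∈ commutator (symplecticGroup l F) := by
    intro a b ha hb d
    obtain ⟨g, hg⟩ := sp_transitive hb ha
    have := comm_form g b d
    rwa [hg, hneg] at this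
  refine sympT_mem_of_base hE₀ (fun d => ?_) u c
  have key : (sympT E₁ d * sympT E₂ d) * (sympT (E₀ + E₁) d * sympT (E₀ + E₂) d) *
      (sympT (E₁ + E₂) d * sympT (E₀ + E₁ + E₂) d) = sympT E₀ d := by
    apply Subtype.ext
    apply mat_ext_mulVec
    intro x
    change (((sympT E₁ d : symplecticGroup l F).1 * (sympT E₂ d : symplecticGroup l F).1) *
      ((sympT (E₀ + E₁) d : symplecticGroup l F).1 * (sympT (E₀ + E₂) d : symplecticGroup l F).1) *
      ((sympT (E₁ + E₂) d : symplecticGroup l F).1 * (sympT (E₀ + E₁ + E₂) d : symplecticGroup l F).1)) *ᵥ x =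
        (sympT E₀ d : symplecticGroup l F).1 *ᵥ x
    simp only [← Matrix.mulVec_mulVec, sympT_mulVec, sympForm_add_left, sympForm_smul_left,
      sympForm_add_right, sympForm_self, h01, h02, h12, perp_form_left h01, perp_form_left h02,
      perp_form_left h12]
    set A := sympForm x E₀
    set B := sympForm x E₁
    set C := sympForm x E₂
    funext k
    simp only [Pi.add_apply, Pi.smul_apply, smul_eq_mul]
    linear_combination (d * ((A + B + C) * E₀ k + (A + 2 * B + C) * E₁ k + (A + B + 2 * C) * E₂ k)) * h2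
  rw [← key]
  exact mul_mem (mul_mem (hcomm _ _ hE₁ hE₂ d) (hcomm _ _ hne01 hne02 d)) (hcomm _ _ hne12 hne012 d)

/-- `Sp_{2m}(q)` is perfect. -/
theorem sp_perfect (m : ℕ)
    (h : 3 ≤ m ∨ (m = 2 ∧ 3 ≤ Fintype.card F) ∨ 4 ≤ Fintype.card F) :
    commutator (symplecticGroup (Fin m) F) = ⊤ := by
  classical
  refine sp_induction _ ?_
  by_cases hq : 4 ≤ Fintype.card F
  · exact sympT_mem_comm_large hq
  have hm : 2 ≤ m := by omega
  let e : Fin m → (Fin m ⊕ Fin m → F) := fun i => Pi.single (Sum.inl i) 1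
  have he : ∀ i j, sympForm (e i) (e j) = 0 := fun i j => sympForm_single_inl i j
  have he0 : ∀ i, e i ≠ 0 := fun i h => by
    have := congrFun h (Sum.inl i)
    simp [e] at this
  have hval : ∀ i j, e i (Sum.inl j) = if j = i then 1 else 0 := fun i j => by
    simp [e, Pi.single_apply]
  let i₀ : Fin m := ⟨0, by omega⟩
  let i₁ : Fin m := ⟨1, by omega⟩
  have h01 : i₁ ≠ i₀ := by simp [i₀, i₁, Fin.ext_iff]
  by_cases hq3 : Fintype.card F = 3
  · have h2 : (2 : F) ≠ 0 := by
      apply Ring.two_ne_zero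
      intro hc
      have := FiniteField.even_card_iff_char_two.1 hc
      rw [hq3] at this
      omega
    refine sympT_mem_comm_odd h2 (he0 i₀) (he0 i₁) (he i₀ i₁) ?_ ?_
    · intro h0
      have := congrFun h0 (Sum.inl i₀)
      simp only [Pi.add_apply, hval, if_true, if_neg h01.symm, Pi.zero_apply, add_zero] at this
      exact one_ne_zero this
    · intro h0
      have := congrFun h0 (Sum.inl i₁)
      simp only [Pi.sub_apply, hval, if_true, if_neg h01, Pi.zero_apply, sub_zero] at this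
      exact one_ne_zero this
  · have hq2 : Fintype.card F = 2 := by
      have := Fintype.one_lt_card (α := F)
      omega
    have hm3 : 3 ≤ m := by
      rcases h with h | h | h
      · exact h
      · omega
      · omega
    have h2 : (2 : F) = 0 := by
      have h5 := FiniteField.pow_card (2 : F)
      rw [hq2] at h5
      linear_combination h5
    let i₂ : Fin m := ⟨2, by omega⟩
    have h02 : i₂ ≠ i₀ := by simp [i₀, i₂, Fin.ext_iff]
    have h12 : i₂ ≠ i₁ := by simp [i₁, i₂, Fin.ext_iff]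
    refine sympT_mem_comm_two h2 (he0 i₀) (he0 i₁) (he0 i₂) (he _ _) (he _ _) (he _ _) ?_ ?_ ?_ ?_
    · intro h0
      have := congrFun h0 (Sum.inl i₀)
      simp only [Pi.add_apply, hval, if_true, if_neg h01.symm, Pi.zero_apply, add_zero] at this
      exact one_ne_zero this
    · intro h0
      have := congrFun h0 (Sum.inl i₀)
      simp only [Pi.add_apply, hval, if_true, if_neg h02.symm, Pi.zero_apply, add_zero] at this
      exact one_ne_zero this
    · intro h0
      have := congrFun h0 (Sum.inl i₁)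
      simp only [Pi.add_apply, hval, if_true, if_neg h12.symm, Pi.zero_apply, add_zero] at this
      exact one_ne_zero this
    · intro h0
      have := congrFun h0 (Sum.inl i₀)
      simp only [Pi.add_apply, hval, if_true, if_neg h01.symm, if_neg h02.symm, Pi.zero_apply,
        add_zero] at this
      exact one_ne_zero this

end Perfect

end Cfsg.Agent.Lead
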