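import Cfsg.Agent.Lib.Lead.AutPSLStd
import Cfsg.Agent.Lib.Lead.CardSL
/-! The unitriangular Sylow subgroup of `PSL_n(F)`; automorphisms permute the root groups. -/
set_option autoImplicit false
set_option linter.style.haveILetI false
set_option linter.unusedSimpArgs false
set_option linter.unusedSectionVars false
set_option linter.unusedVariables false
namespace Cfsg.Agent.Lead.AutPSL
open Matrix Matrix.SpecialLinearGroup
open scoped MatrixGroups Pointwise

variable {F : Type*} [Field F] [Fintype F] {m : ℕ}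

/-- the upper unitriangular submonoid -/
def UUM (m : ℕ) (F : Type*) [Field F] [Fintype F] : Submonoid (SpecialLinearGroup (Fin m) F) where
  carrier := {s | ∀ i j, j ≤ i → (s : Matrix (Fin m) (Fin m) F) i j = (1 : Matrix (Fin m) (Fin m) F) i j}
  one_mem' := fun i j _ => rfl
  mul_mem' := by
    intro a b ha hb i j hij
    rw [Matrix.SpecialLinearGroup.coe_mul, Matrix.mul_apply]
    by_cases hij' : i = j
    · subst hij'
      rw [Finset.sum_eq_single i]
      · rw [ha i i le_rfl, hb i i le_rfl]; simp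
      · intro k _ hk
        by_cases hki : k < i
        · rw [ha i k hki.le, Matrix.one_apply_ne (Ne.symm hk)]; simp
        · have : i < k := lt_of_le_of_ne (not_lt.mp hki) (Ne.symm hk)
          rw [hb k i this.le, Matrix.one_apply_ne hk]; simp
      · simp
    · rw [Matrix.one_apply_ne hij']
      apply Finset.sum_eq_zero
      intro k _
      by_cases hki : k < i
      · rw [ha i k hki.le, Matrix.one_apply_ne (ne_of_gt hki)]; simp
      · have h1 : j < k := lt_of_lt_of_le (lt_of_le_of_ne hij (Ne.symm hij')) (not_lt.mp hki)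
        rw [hb k j h1.le, Matrix.one_apply_ne (ne_of_gt h1)]; simp

/-- the upper unitriangular subgroup -/
def UU (m : ℕ) (F : Type*) [Field F] [Fintype F] : Subgroup (SpecialLinearGroup (Fin m) F) where
  toSubmonoid := UUM m F
  inv_mem' := by
    intro x hx
    have h1 : x⁻¹ = x ^ (orderOf x - 1) := by
      apply inv_eq_of_mul_eq_one_left
      rw [← pow_succ, Nat.sub_add_cancel (orderOf_pos x), pow_orderOf_eq_one]
    rw [h1]
    exact (UUM m F).pow_mem hx _

lemma mem_UU {s : SpecialLinearGroup (Fin m) F} :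
    s ∈ UU m F ↔ ∀ i j, j ≤ i → (s : Matrix (Fin m) (Fin m) F) i j = (1 : Matrix (Fin m) (Fin m) F) i j := Iff.rfl

/-- the matrix with free entries above the diagonal -/
def uuMat (a : {p : Fin m × Fin m // p.1 < p.2} → F) : Matrix (Fin m) (Fin m) F :=
  fun i j => if h : i < j then a ⟨(i, j), h⟩ else if i = j then 1 else 0

lemma det_uuMat (a : {p : Fin m × Fin m // p.1 < p.2} → F) : (uuMat a).det = 1 := by
  rw [Matrix.det_of_isUpperTriangular]
  · simp [uuMat]
  · intro i j hij
    have h1 : ¬ i < j := not_lt.mpr (le_of_lt hij)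
    have h2 : i ≠ j := ne_of_gt hij
    simp [uuMat, h1, h2]

/-- parametrisation of `UU` -/
noncomputable def uuEquiv : UU m F ≃ ({p : Fin m × Fin m // p.1 < p.2} → F) where
  toFun s := fun p => ((s : SpecialLinearGroup (Fin m) F) : Matrix (Fin m) (Fin m) F) p.1.1 p.1.2
  invFun a := ⟨⟨uuMat a, det_uuMat a⟩, by
    intro i j hij
    have h1 : ¬ i < j := not_lt.mpr hij
    change uuMat a i j = _
    by_cases h2 : i = j
    · subst h2; simp [uuMat]
    · simp [uuMat, h1, h2, Matrix.one_apply_ne h2]⟩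
  left_inv s := by
    apply Subtype.ext
    apply Subtype.ext
    ext i j
    change uuMat (fun p : {p : Fin m × Fin m // p.1 < p.2} => ((s : SpecialLinearGroup (Fin m) F) : Matrix (Fin m) (Fin m) F) p.1.1 p.1.2) i j = _
    by_cases h : i < j
    · simp [uuMat, h]
    · have := s.2 i j (not_lt.mp h)
      by_cases h2 : i = j
      · subst h2
        simp only [uuMat, h, dite_false, if_true]
        rw [this]; simp
      · simp only [uuMat, h, h2, dite_false, if_false]
        rw [this, Matrix.one_apply_ne h2]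
  right_inv a := by
    funext p
    change uuMat a p.1.1 p.1.2 = _
    simp [uuMat, p.2]

lemma card_pairs : Nat.card {p : Fin m × Fin m // p.1 < p.2} = ∑ i : Fin m, (i : ℕ) := by
  have e : {p : Fin m × Fin m // p.1 < p.2} ≃ Σ j : Fin m, Fin (j : ℕ) :=
    { toFun := fun p => ⟨p.1.2, ⟨p.1.1, p.2⟩⟩
      invFun := fun q => ⟨(⟨q.2.1, q.2.2.trans q.1.2⟩, q.1), q.2.2⟩
      left_inv := fun p => rfl
      right_inv := fun q => rfl }
  rw [Nat.card_congr e, Nat.card_eq_fintype_card, Fintype.card_sigma]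
  simp

lemma card_UU : Nat.card (UU m F) = Fintype.card F ^ (∑ i : Fin m, (i : ℕ)) := by
  rw [Nat.card_congr uuEquiv, Nat.card_fun, card_pairs, Nat.card_eq_fintype_card]

/-- the image of `UU` in `PSL` -/
noncomputable def UB (m : ℕ) (F : Type*) [Field F] [Fintype F] : Subgroup (ProjectiveSpecialLinearGroup (Fin m) F) :=
  (UU m F).map (pr (Fin m) F)

lemma eq_one_of_pr_eq_one (hm : 1 ≤ m) {s : SpecialLinearGroup (Fin m) F} (hs : s ∈ UU m F)
    (h : pr (Fin m) F s = 1) : s = 1 := by
  have h1 : s ∈ Subgroup.center (SpecialLinearGroup (Fin m) F) := by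
    have := (QuotientGroup.eq_one_iff s).mp h
    exact this
  obtain ⟨z, -, hz⟩ := Matrix.SpecialLinearGroup.mem_center_iff.mp h1
  have h2 : z = 1 := by
    have h3 := hs ⟨0, hm⟩ ⟨0, hm⟩ le_rfl
    rw [← hz] at h3
    simpa [Matrix.scalar_apply] using h3
  subst h2
  apply Subtype.ext
  rw [← hz]
  simp

lemma card_UB (hm : 1 ≤ m) : Nat.card (UB m F) = Fintype.card F ^ (∑ i : Fin m, (i : ℕ)) := by
  rw [← card_UU]
  refine (Nat.card_congr (Equiv.ofBijective ((pr (Fin m) F).subgroupMap (UU m F)) ⟨?_, (pr (Fin m) F).subgroupMap_surjective (UU m F)⟩)).symm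
  intro a b hab
  have h1 : pr (Fin m) F (a : SpecialLinearGroup (Fin m) F) = pr (Fin m) F b := congrArg Subtype.val hab
  have h2 : pr (Fin m) F ((b : SpecialLinearGroup (Fin m) F)⁻¹ * a) = 1 := by
    rw [map_mul, map_inv, h1, inv_mul_cancel]
  have h3 := eq_one_of_pr_eq_one hm ((UU m F).mul_mem ((UU m F).inv_mem b.2) a.2) h2
  apply Subtype.ext
  exact (inv_mul_eq_one.mp h3).symm

lemma prod_q_sub (q n : ℕ) (hq : 1 ≤ q) :
    ∏ i : Fin n, (q ^ n - q ^ (i : ℕ)) = q ^ (∑ i : Fin n, (i : ℕ)) * ∏ i : Fin n, (q ^ (n - i) - 1) := by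
  rw [← Finset.prod_pow_eq_pow_sum, ← Finset.prod_mul_distrib]
  apply Finset.prod_congr rfl
  intro i _
  rw [Nat.mul_sub, mul_one, ← pow_add, Nat.add_sub_cancel' i.2.le]

section Sylow

variable {p f : ℕ} [Fact p.Prime]

lemma not_dvd_q_pow_sub (hq : Fintype.card F = p ^ f) (hf : 1 ≤ f) {k : ℕ} (hk : 1 ≤ k) :
    ¬ p ∣ Fintype.card F ^ k - 1 := by
  intro h
  have hp : p ∣ Fintype.card F ^ k := by
    rw [hq]
    exact dvd_pow (dvd_pow_self p (by omega)) (by omega)
  have h1 : 1 ≤ Fintype.card F ^ k := Nat.one_le_pow _ _ Fintype.card_pos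
  have h2 : p ∣ 1 := by
    have := (Nat.dvd_sub hp h)
    rwa [Nat.sub_sub_self h1] at this
  exact (Fact.out : p.Prime).one_lt.ne' (Nat.dvd_one.mp h2)

lemma isPGroup_UB (hq : Fintype.card F = p ^ f) (hm : 1 ≤ m) : IsPGroup p (UB m F) := by
  apply IsPGroup.of_card (n := f * ∑ i : Fin m, (i : ℕ))
  rw [card_UB hm, hq, pow_mul]

lemma not_dvd_index_UB (hq : Fintype.card F = p ^ f) (hf : 1 ≤ f) (hm : 1 ≤ m) : ¬ p ∣ (UB m F).index := by
  have h1 := card_PSL (F := F) m hm
  have h2 := Subgroup.card_mul_index (UB m F)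
  rw [card_UB hm] at h2
  rw [prod_q_sub _ _ Fintype.card_pos, ← h2] at h1
  have hq0 : 0 < Fintype.card F ^ (∑ i : Fin m, (i : ℕ)) := pow_pos Fintype.card_pos _
  have h3 : (UB m F).index ∣ ∏ i : Fin m, (Fintype.card F ^ (m - i) - 1) := by
    have h4 : Fintype.card F ^ (∑ i : Fin m, (i : ℕ)) * (Nat.gcd m (Fintype.card F - 1) * ((Fintype.card F - 1) * (UB m F).index)) =
        Fintype.card F ^ (∑ i : Fin m, (i : ℕ)) * ∏ i : Fin m, (Fintype.card F ^ (m - i) - 1) := by
      rw [← h1]; ring
    have h5 := Nat.eq_of_mul_eq_mul_left hq0 h4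
    rw [← h5]
    exact ⟨Nat.gcd m (Fintype.card F - 1) * (Fintype.card F - 1), by ring⟩
  intro h
  have h6 := h.trans h3
  obtain ⟨i, -, hi⟩ := (Prime.dvd_finsetProd_iff (Fact.out : p.Prime).prime _).mp h6
  exact not_dvd_q_pow_sub hq hf (by have := i.2; omega) hi

lemma mem_conj_iff {G : Type*} [Group G] (g x : G) (H : Subgroup G) :
    x ∈ H.map (MulAut.conj g).toMonoidHom ↔ g⁻¹ * x * g ∈ H := by
  constructor
  · rintro ⟨y, hy, rfl⟩
    have : g⁻¹ * ((MulAut.conj g).toMonoidHom y) * g = y := by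
      simp [MulAut.conj_apply]
      group
    rwa [this]
  · intro h
    exact ⟨_, h, by simp [MulAut.conj_apply]; group⟩

/-- automorphisms map `UB` to a conjugate -/
theorem exists_conj_UB (hq : Fintype.card F = p ^ f) (hf : 1 ≤ f) (hm : 1 ≤ m)
    (α : MulAut (ProjectiveSpecialLinearGroup (Fin m) F)) :
    ∃ g : ProjectiveSpecialLinearGroup (Fin m) F,
      (UB m F).map α.toMonoidHom = (UB m F).map (MulAut.conj g).toMonoidHom := by
  classical
  let P : Sylow p (ProjectiveSpecialLinearGroup (Fin m) F) :=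
    (isPGroup_UB hq hm).toSylow (not_dvd_index_UB hq hf hm)
  obtain ⟨g, hg⟩ := MulAction.exists_smul_eq (ProjectiveSpecialLinearGroup (Fin m) F) P (α • P)
  refine ⟨g, ?_⟩
  have h1 : ((g • P : Sylow p (ProjectiveSpecialLinearGroup (Fin m) F)) : Subgroup (ProjectiveSpecialLinearGroup (Fin m) F)) =
      ((α • P : Sylow p (ProjectiveSpecialLinearGroup (Fin m) F)) : Subgroup (ProjectiveSpecialLinearGroup (Fin m) F)) := by rw [hg]
  rw [Sylow.coe_subgroup_smul] at h1
  have h2 : MulAut.conj g • (UB m F) = α • (UB m F) := h1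
  ext x
  have h3 := congrArg (fun H : Subgroup (ProjectiveSpecialLinearGroup (Fin m) F) => x ∈ H) h2
  simp only [eq_iff_iff] at h3
  rw [Subgroup.mem_smul_pointwise_iff_exists, Subgroup.mem_smul_pointwise_iff_exists] at h3
  constructor
  · rintro ⟨y, hy, rfl⟩
    exact h3.mpr ⟨y, hy, rfl⟩
  · rintro ⟨y, hy, rfl⟩
    exact h3.mp ⟨y, hy, rfl⟩

end Sylow

/-- the centre of a subgroup, as a set -/
def zc {G : Type*} [Group G] (H : Subgroup G) : Set G := {x | x ∈ H ∧ ∀ y ∈ H, x * y = y * x}

lemma image_zc {G : Type*} [Group G] (e : MulAut G) (H : Subgroup G) :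
    e '' zc H = zc (H.map e.toMonoidHom) := by
  ext x
  constructor
  · rintro ⟨y, ⟨hy, hy2⟩, rfl⟩
    refine ⟨⟨y, hy, rfl⟩, ?_⟩
    rintro _ ⟨z, hz, rfl⟩
    change e y * e z = e z * e y
    rw [← map_mul, ← map_mul, hy2 z hz]
  · rintro ⟨⟨y, hy, rfl⟩, h2⟩
    refine ⟨y, ⟨hy, ?_⟩, rfl⟩
    intro z hz
    have := h2 (e z) ⟨z, hz, rfl⟩
    apply e.injective
    rw [map_mul, map_mul]
    exact this

/-- standard basis vector -/
abbrev ee {ι : Type*} [DecidableEq ι] (F : Type*) [Field F] (i : ι) : ι → F := Pi.single i 1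

lemma transvection_tvM {ι F : Type*} [DecidableEq ι] [Fintype ι] [Field F] {i j : ι} (h : i ≠ j) (t : F) :
    ((SpecialLinearGroup.transvection h t : SpecialLinearGroup ι F) : Matrix ι ι F) = tvM (t • ee F i) (ee F j) := by
  rw [SpecialLinearGroup.transvection_coe, tvM]
  congr 1
  ext a b
  simp [vecMulVec_apply, Matrix.single_apply, Pi.single_apply]
  by_cases h1 : i = a <;> by_cases h2 : j = b <;> simp [h1, h2, eq_comm]

lemma flag_ee {ι F : Type*} [DecidableEq ι] [Fintype ι] [Field F] {i j : ι} (h : i ≠ j) : Flag (ee F i) (ee F j) := by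
  refine ⟨?_, ?_, ?_⟩
  · intro h0
    have := congrFun h0 i
    simp at this
  · intro h0
    have := congrFun h0 j
    simp at this
  · simp [Pi.single_apply, h, Ne.symm h]

lemma transvection_mem_UU {i j : Fin m} (h : i < j) (t : F) :
    (SpecialLinearGroup.transvection (ne_of_lt h) t : SpecialLinearGroup (Fin m) F) ∈ UU m F := by
  intro a b hab
  rw [SpecialLinearGroup.transvection_coe, Matrix.add_apply]
  have : Matrix.single i j t a b = 0 := by
    rw [Matrix.single_apply]
    rw [if_neg]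
    rintro ⟨rfl, rfl⟩
    exact absurd hab (not_le.mpr h)
  rw [this, add_zero]

lemma pr_comm_UU {m : ℕ} {s : SpecialLinearGroup (Fin m) F} (hm : 1 ≤ m) {i j : Fin m} (h : i < j)
    (hc : pr (Fin m) F s * pr (Fin m) F (SpecialLinearGroup.transvection (ne_of_lt h) (1 : F)) =
      pr (Fin m) F (SpecialLinearGroup.transvection (ne_of_lt h) (1 : F)) * pr (Fin m) F s) :
    (s : Matrix (Fin m) (Fin m) F) * Matrix.single i j (1 : F) = Matrix.single i j (1 : F) * (s : Matrix (Fin m) (Fin m) F) := by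
  haveI : Nonempty (Fin m) := ⟨⟨0, hm⟩⟩
  have h1 := commute_of_pr (isUni_of_tvM (transvection_tvM (ne_of_lt h) (1 : F))) hc
  have h2 := congrArg (fun x : SpecialLinearGroup (Fin m) F => (x : Matrix (Fin m) (Fin m) F)) h1
  simp only [Matrix.SpecialLinearGroup.coe_mul, SpecialLinearGroup.transvection_coe, mul_add, add_mul, mul_one, one_mul] at h2
  exact add_left_cancel h2

/-- the centre of `UB` is the root group of the highest root -/
theorem zc_UB : zc (UB (m + 2) F) = RG (ee F (0 : Fin (m + 2))) (ee F (Fin.last (m + 1))) := by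
  have hlast : (0 : Fin (m + 2)) < Fin.last (m + 1) := Fin.last_pos
  ext x
  constructor
  · rintro ⟨⟨s, hs, rfl⟩, hc⟩
    set M := (s : Matrix (Fin (m + 2)) (Fin (m + 2)) F) with hM
    have hcomm : ∀ i j : Fin (m + 2), i < j → M * Matrix.single i j (1 : F) = Matrix.single i j (1 : F) * M := by
      intro i j hij
      apply pr_comm_UU (by omega) hij
      apply hc
      exact ⟨_, transvection_mem_UU hij 1, rfl⟩
    have hdiag : ∀ i, M i i = 1 := fun i => by
      have := hs i i le_rfl
      simpa using this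
    have hcol : ∀ i : Fin (m + 2), i ≠ Fin.last (m + 1) → ∀ k, k ≠ i → M k i = 0 := by
      intro i hi k hk
      have hij : i < Fin.last (m + 1) := lt_of_le_of_ne (Fin.le_last i) hi
      have := congrFun (congrFun (hcomm i _ hij) k) (Fin.last (m + 1))
      rw [Matrix.mul_single_apply_same, Matrix.single_mul_apply_of_ne _ _ _ _ _ (Ne.symm hk.symm)] at this
      simpa using this
    have hrow : ∀ j : Fin (m + 2), j ≠ 0 → ∀ l, l ≠ j → M j l = 0 := by
      intro j hj l hl
      have hij : (0 : Fin (m + 2)) < j := Fin.pos_of_ne_zero hj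
      have := congrFun (congrFun (hcomm 0 j hij) 0) l
      rw [Matrix.single_mul_apply_same, Matrix.mul_single_apply_of_ne _ _ _ _ _ hl] at this
      simpa using this.symm
    refine ⟨M 0 (Fin.last (m + 1)), s, ?_, rfl⟩
    rw [tvM]
    ext a b
    change M a b = _
    simp only [Matrix.add_apply, Matrix.one_apply, vecMulVec_apply, Pi.smul_apply, smul_eq_mul, Pi.single_apply]
    by_cases hb : b = Fin.last (m + 1)
    · subst hb
      by_cases ha : a = 0
      · subst ha
        simp [hlast.ne]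
      · by_cases hab : a = Fin.last (m + 1)
        · subst hab
          simp [ha, hdiag]
        · simp [ha, hab, hrow a ha _ (Ne.symm hab)]
    · by_cases hab : a = b
      · subst hab
        simp [hb, hdiag]
      · simp [hab, hb, hcol b hb a hab]
  · rintro ⟨t, s, hs, rfl⟩
    have hs1 : s = SpecialLinearGroup.transvection (ne_of_lt hlast) t := by
      apply Subtype.ext
      rw [hs, transvection_tvM]
    subst hs1
    refine ⟨⟨_, transvection_mem_UU hlast t, rfl⟩, ?_⟩
    rintro _ ⟨u, hu, rfl⟩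
    rw [← map_mul, ← map_mul]
    congr 1
    apply Subtype.ext
    change (SpecialLinearGroup.transvection (ne_of_lt hlast) t : SpecialLinearGroup (Fin (m + 2)) F).1 * u.1 =
      u.1 * (SpecialLinearGroup.transvection (ne_of_lt hlast) t : SpecialLinearGroup (Fin (m + 2)) F).1
    rw [SpecialLinearGroup.transvection_coe, add_mul, mul_add, one_mul, mul_one]
    congr 1
    ext a b
    have h1 : (Matrix.single 0 (Fin.last (m + 1)) t * (u.1 : Matrix (Fin (m + 2)) (Fin (m + 2)) F)) a b = Matrix.single 0 (Fin.last (m + 1)) t a b := by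
      by_cases ha : a = 0
      · subst ha
        rw [Matrix.single_mul_apply_same]
        have : (u.1) (Fin.last (m + 1)) b = (1 : Matrix _ _ F) (Fin.last (m + 1)) b := hu _ _ (Fin.le_last b)
        rw [this, Matrix.single_apply]
        by_cases hb : b = Fin.last (m + 1)
        · subst hb; simp
        · simp [Matrix.one_apply_ne (Ne.symm hb), Ne.symm hb]
      · rw [Matrix.single_mul_apply_of_ne _ _ _ _ _ ha, Matrix.single_apply, if_neg]
        rintro ⟨rfl, -⟩
        exact ha rfl
    have h2 : ((u.1 : Matrix (Fin (m + 2)) (Fin (m + 2)) F) * (Matrix.single (0 : Fin (m + 2)) (Fin.last (m + 1)) t : Matrix (Fin (m + 2)) (Fin (m + 2)) F)) a b = Matrix.single 0 (Fin.last (m + 1)) t a b := by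
      by_cases hb : b = Fin.last (m + 1)
      · subst hb
        rw [Matrix.mul_single_apply_same]
        have : (u.1) a 0 = (1 : Matrix (Fin (m + 2)) (Fin (m + 2)) F) a 0 := hu _ _ (Fin.zero_le a)
        rw [this, Matrix.single_apply]
        by_cases ha : a = 0
        · subst ha; simp
        · simp [Matrix.one_apply_ne ha, Ne.symm ha]
      · rw [Matrix.mul_single_apply_of_ne _ _ _ _ _ hb, Matrix.single_apply, if_neg]
        rintro ⟨-, rfl⟩
        exact hb rfl
    rw [h1, h2]

section Roots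
variable {p f : ℕ} [Fact p.Prime]

/-- the element of `GL` given by an element of `SL` -/
abbrev toG {ι F : Type*} [DecidableEq ι] [Fintype ι] [Field F] (s : SpecialLinearGroup ι F) : GL ι F :=
  Matrix.SpecialLinearGroup.toGL s

lemma cc_toG {ι F : Type*} [DecidableEq ι] [Fintype ι] [Field F] (s : SpecialLinearGroup ι F) :
    cc (toG s) = MulAut.conj (pr ι F s) := by
  ext x
  induction x using QuotientGroup.induction_on with
  | H t =>
    change pr ι F (cSL (toG s) t) = pr ι F s * pr ι F t * (pr ι F s)⁻¹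
    rw [← map_mul, ← map_inv, ← map_mul]
    congr 1

lemma exists_toG {ι F : Type*} [DecidableEq ι] [Fintype ι] [Field F]
    (x : ProjectiveSpecialLinearGroup ι F) : ∃ s : SpecialLinearGroup ι F, MulAut.conj x = cc (toG s) := by
  obtain ⟨s, rfl⟩ := QuotientGroup.mk_surjective x
  exact ⟨s, (cc_toG s).symm⟩

/-- automorphisms map the highest root group to a `GL`-conjugate -/
theorem image_RG0 (hq : Fintype.card F = p ^ f) (hf : 1 ≤ f)
    (α : MulAut (ProjectiveSpecialLinearGroup (Fin (m + 2)) F)) :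
    ∃ g : GL (Fin (m + 2)) F, α '' RG (ee F (0 : Fin (m + 2))) (ee F (Fin.last (m + 1))) =
      cc g '' RG (ee F (0 : Fin (m + 2))) (ee F (Fin.last (m + 1))) := by
  obtain ⟨g, hg⟩ := exists_conj_UB hq hf (by omega) α
  obtain ⟨s, hs⟩ := exists_toG g
  refine ⟨toG s, ?_⟩
  rw [← zc_UB, image_zc, hg, ← image_zc, hs]

/-- automorphisms permute the root groups -/
theorem image_RG (hq : Fintype.card F = p ^ f) (hf : 1 ≤ f)
    (α : MulAut (ProjectiveSpecialLinearGroup (Fin (m + 2)) F))
    {v w : Fin (m + 2) → F} (h : Flag v w) :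
    ∃ v' w', Flag v' w' ∧ α '' RG v w = RG v' w' := by
  have h0 : Flag (ee F (0 : Fin (m + 2))) (ee F (Fin.last (m + 1))) := flag_ee (ne_of_lt Fin.last_pos)
  obtain ⟨s, hs, hp⟩ := exists_flag_map h0 h
  have h1 : RG v w = cc (toG s) '' RG (ee F (0 : Fin (m + 2))) (ee F (Fin.last (m + 1))) := by
    rw [cc_RG]
    exact (RG_eq_of_par (by rw [← hs]; exact Par.refl' _) hp).symm
  obtain ⟨g, hg⟩ := image_RG0 hq hf α
  -- `α ∘ c_s = c_{α s} ∘ α`
  obtain ⟨s', hs'⟩ := exists_toG (α (pr _ F s))
  have h2 : ∀ A : Set (ProjectiveSpecialLinearGroup (Fin (m + 2)) F), α '' (cc (toG s) '' A) = cc (toG s') '' (α '' A) := by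
    intro A
    rw [Set.image_image, Set.image_image]
    apply Set.image_congr
    intro x _
    rw [← hs', cc_toG]
    simp [MulAut.conj_apply, map_mul, map_inv]
  refine ⟨((toG s' * g : GL _ F) : Matrix _ _ F) *ᵥ (ee F (0 : Fin (m + 2))),
    (ee F (Fin.last (m + 1))) ᵥ* (((toG s' * g)⁻¹ : GL _ F) : Matrix _ _ F), h0.cc _, ?_⟩
  rw [h1, h2, hg, ← cc_RG, Set.image_image]
  apply Set.image_congr
  intro x _
  rw [map_mul]
  rfl

end Roots

end Cfsg.Agent.Lead.AutPSL



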