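import Mathlib
/-! Root elements of `PSL_n(F)` and the standard automorphisms. -/
set_option autoImplicit false
set_option linter.style.haveILetI false
set_option linter.unusedSimpArgs false
set_option linter.unusedSectionVars false
set_option linter.unusedVariables false
namespace Cfsg.Agent.Lead.AutPSL
open Matrix Matrix.SpecialLinearGroup
open scoped MatrixGroups

variable {ι F : Type*} [DecidableEq ι] [Fintype ι] [Field F]

/-- the projection `SL → PSL` -/
abbrev pr (ι F : Type*) [DecidableEq ι] [Fintype ι] [Field F] :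
    SpecialLinearGroup ι F →* ProjectiveSpecialLinearGroup ι F :=
  QuotientGroup.mk' _

/-- `1 + v w` -/
def tvM (v w : ι → F) : Matrix ι ι F := 1 + vecMulVec v w

lemma vecMulVec_mul_vecMulVec' (v w v' w' : ι → F) :
    vecMulVec v w * vecMulVec v' w' = (w ⬝ᵥ v') • vecMulVec v w' := by
  ext i j
  simp only [Matrix.mul_apply, vecMulVec_apply, Matrix.smul_apply, smul_eq_mul, dotProduct]
  rw [Finset.sum_mul]
  apply Finset.sum_congr rfl
  intro k _
  ring

lemma tvM_mul (v w v' w' : ι → F) :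
    tvM v w * tvM v' w' = 1 + vecMulVec v w + vecMulVec v' w' + (w ⬝ᵥ v') • vecMulVec v w' := by
  simp only [tvM, mul_add, add_mul, one_mul, mul_one, vecMulVec_mul_vecMulVec']
  abel

lemma det_tvM (v w : ι → F) : (tvM v w).det = 1 + w ⬝ᵥ v := by
  have := Matrix.det_one_add_replicateCol_mul_replicateRow (ι := Unit) v w
  rw [tvM, vecMulVec_eq (Unit)]
  exact this

lemma tvM_zero_left (w : ι → F) : tvM 0 w = 1 := by simp [tvM]

/-- the element of `SL` with matrix `1 + v w`, when `w v = 0` -/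
def mkT (v w : ι → F) (h : w ⬝ᵥ v = 0) : SpecialLinearGroup ι F :=
  ⟨tvM v w, by rw [det_tvM, h, add_zero]⟩

@[simp] lemma mkT_coe (v w : ι → F) (h : w ⬝ᵥ v = 0) :
    ((mkT v w h : SpecialLinearGroup ι F) : Matrix ι ι F) = tvM v w := rfl

/-- `x` is the class of the transvection `1 + v w` -/
def IsRt (x : ProjectiveSpecialLinearGroup ι F) (v w : ι → F) : Prop :=
  ∃ s : SpecialLinearGroup ι F, (s : Matrix ι ι F) = tvM v w ∧ pr ι F s = x

/-- the root group of the flag `(v, w)` -/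
def RG (v w : ι → F) : Set (ProjectiveSpecialLinearGroup ι F) :=
  {x | ∃ t : F, IsRt x (t • v) w}

/-- parallel vectors -/
def Par (v v' : ι → F) : Prop := ∃ c : F, c ≠ 0 ∧ v' = c • v

lemma Par.refl' (v : ι → F) : Par v v := ⟨1, one_ne_zero, (one_smul _ _).symm⟩
lemma Par.symm' {v v' : ι → F} (h : Par v v') : Par v' v := by
  obtain ⟨c, hc, rfl⟩ := h
  exact ⟨c⁻¹, inv_ne_zero hc, by rw [smul_smul, inv_mul_cancel₀ hc, one_smul]⟩
lemma Par.trans' {v v' v'' : ι → F} (h : Par v v') (h' : Par v' v'') : Par v v'' := by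
  obtain ⟨c, hc, rfl⟩ := h
  obtain ⟨d, hd, rfl⟩ := h'
  exact ⟨d * c, mul_ne_zero hd hc, by rw [smul_smul]⟩

/-- the unipotence condition used for rigidity -/
def IsUni (M : Matrix ι ι F) : Prop := (M - 1) * (M - 1) = 0

lemma isUni_tvM {v w : ι → F} (h : w ⬝ᵥ v = 0) : IsUni (tvM v w) := by
  simp only [IsUni, tvM, add_sub_cancel_left, vecMulVec_mul_vecMulVec', h, zero_smul]

lemma isUni_conj {M : Matrix ι ι F} (hM : IsUni M) (A B : Matrix ι ι F) (h : B * A = 1) :
    IsUni (A * M * B) := by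
  have e : A * M * B - 1 = A * (M - 1) * B := by
    have hAB : A * B = 1 := mul_eq_one_comm.mp h
    simp only [mul_sub, sub_mul, mul_one, hAB]
  unfold IsUni at *
  rw [e]
  calc A * (M - 1) * B * (A * (M - 1) * B) = A * (M - 1) * (B * A) * (M - 1) * B := by
        simp only [Matrix.mul_assoc]
    _ = A * ((M - 1) * (M - 1)) * B := by rw [h]; simp only [Matrix.mul_assoc, Matrix.mul_one]
    _ = 0 := by rw [hM]; simp

/-- two "unipotent" elements of `SL` with the same class in `PSL` coincide -/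
lemma eq_of_uni [Nonempty ι] {s s' : SpecialLinearGroup ι F} (hs : IsUni (s : Matrix ι ι F))
    (hs' : IsUni (s' : Matrix ι ι F)) (h : pr ι F s = pr ι F s') : s = s' := by
  have h1 : s'⁻¹ * s ∈ Subgroup.center (SpecialLinearGroup ι F) := by
    have := QuotientGroup.eq.mp (show (QuotientGroup.mk s' : ProjectiveSpecialLinearGroup ι F) = QuotientGroup.mk s from h.symm)
    exact this
  obtain ⟨z, -, hz⟩ := Matrix.SpecialLinearGroup.mem_center_iff.mp h1
  have h2 : (s : Matrix ι ι F) = z • (s' : Matrix ι ι F) := by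
    have h3 : s = s' * (s'⁻¹ * s) := by group
    have h4 : (s : Matrix ι ι F) = (s' : Matrix ι ι F) * ((s'⁻¹ * s : SpecialLinearGroup ι F) : Matrix ι ι F) := by
      conv_lhs => rw [h3]
      rfl
    rw [h4, ← hz]
    ext i j
    simp [Matrix.mul_apply, Matrix.scalar_apply, Matrix.diagonal_apply, mul_comm]
  by_cases hz1 : z = 1
  · subst hz1
    apply Subtype.ext
    rw [h2, one_smul]
  exfalso
  -- compute with `N = s' - 1`
  set N := (s' : Matrix ι ι F) - 1 with hN
  have hN2 : N * N = 0 := hs'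
  have hs1 : (s : Matrix ι ι F) - 1 = z • N + (z - 1) • (1 : Matrix ι ι F) := by
    rw [h2, hN]
    simp only [smul_sub, sub_smul, one_smul]
    abel
  have hs2 : (z • N + (z - 1) • (1 : Matrix ι ι F)) * (z • N + (z - 1) • (1 : Matrix ι ι F)) = 0 := by
    rw [← hs1]; exact hs
  have h5 : (2 * z * (z - 1)) • N + ((z - 1) ^ 2) • (1 : Matrix ι ι F) = 0 := by
    have : (z • N + (z - 1) • (1 : Matrix ι ι F)) * (z • N + (z - 1) • (1 : Matrix ι ι F))
        = (z * z) • (N * N) + (2 * z * (z - 1)) • N + ((z - 1) ^ 2) • (1 : Matrix ι ι F) := by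
      simp only [add_mul, mul_add, smul_mul_smul_comm, Matrix.mul_one, Matrix.one_mul]
      rw [sq]
      have e2 : 2 * z * (z - 1) = z * (z - 1) + (z - 1) * z := by ring
      rw [e2, add_smul]
      abel
    rw [this, hN2, smul_zero, zero_add] at hs2
    exact hs2
  have hz1' : z - 1 ≠ 0 := sub_ne_zero.mpr hz1
  -- multiply by `N`
  have h6 : ((z - 1) ^ 2) • N = 0 := by
    have := congrArg (fun M => N * M) h5
    simp only [mul_add, Matrix.mul_smul, hN2, smul_zero, zero_add, Matrix.mul_one, mul_zero] at this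
    exact this
  have h7 : N = 0 := by
    have hc : ((z - 1) ^ 2) ≠ 0 := pow_ne_zero _ hz1'
    exact (smul_eq_zero.mp h6).resolve_left hc
  rw [h7, smul_zero, zero_add] at h5
  obtain ⟨i⟩ := ‹Nonempty ι›
  have h8 := congrFun (congrFun h5 i) i
  simp at h8
  exact hz1' h8

lemma det_eq_one_of_tvM {s : SpecialLinearGroup ι F} {v w : ι → F}
    (h : (s : Matrix ι ι F) = tvM v w) : w ⬝ᵥ v = 0 := by
  have := s.2
  rw [h, det_tvM] at this
  simpa using this

lemma isUni_of_tvM {s : SpecialLinearGroup ι F} {v w : ι → F}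
    (h : (s : Matrix ι ι F) = tvM v w) : IsUni (s : Matrix ι ι F) := by
  rw [h]
  exact isUni_tvM (det_eq_one_of_tvM h)

/-- rank one matrices -/
lemma vecMulVec_eq_imp {v w v' w' : ι → F} (hv : v ≠ 0) (hw : w ≠ 0)
    (h : vecMulVec v w = vecMulVec v' w') : ∃ c : F, c ≠ 0 ∧ v' = c • v ∧ w = c • w' := by
  obtain ⟨i, hi⟩ : ∃ i, v i ≠ 0 := by
    by_contra hcon
    push Not at hcon
    exact hv (funext hcon)
  obtain ⟨j, hj⟩ : ∃ j, w j ≠ 0 := by
    by_contra hcon
    push Not at hcon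
    exact hw (funext hcon)
  have hE : ∀ a b, v a * w b = v' a * w' b := fun a b => by
    have := congrFun (congrFun h a) b
    simpa [vecMulVec_apply] using this
  have h1 : v' i ≠ 0 := fun h0 => by
    have := hE i j
    rw [h0, zero_mul] at this
    exact (mul_ne_zero hi hj) this
  have hw' : w' j ≠ 0 := fun h0 => by
    have := hE i j
    rw [h0, mul_zero] at this
    exact (mul_ne_zero hi hj) this
  refine ⟨v' i / v i, div_ne_zero h1 hi, ?_, ?_⟩
  · funext a
    simp only [Pi.smul_apply, smul_eq_mul]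
    have := hE a j
    field_simp
    have h3 := hE i j
    -- v' a * v i = v' i * v a
    have h4 : v' a * (v i * w j) = v' i * (v a * w j) := by
      rw [h3, this]; ring
    have hne : w j ≠ 0 := hj
    apply mul_right_cancel₀ hne
    linear_combination h4
  · funext b
    simp only [Pi.smul_apply, smul_eq_mul]
    have := hE i b
    field_simp
    linear_combination this

lemma IsRt.eq_of_pr [Nonempty ι] {x : ProjectiveSpecialLinearGroup ι F} {v w v' w' : ι → F}
    (h : IsRt x v w) (h' : IsRt x v' w') : vecMulVec v w = vecMulVec v' w' := by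
  obtain ⟨s, hs, hx⟩ := h
  obtain ⟨s', hs', hx'⟩ := h'
  have : s = s' := eq_of_uni (isUni_of_tvM hs) (isUni_of_tvM hs') (hx.trans hx'.symm)
  subst this
  have h2 := hs.symm.trans hs'
  simpa [tvM] using h2

lemma isRt_one (w : ι → F) : IsRt (1 : ProjectiveSpecialLinearGroup ι F) 0 w :=
  ⟨1, by simp [tvM], by simp⟩

lemma isRt_of_dot {v w : ι → F} (h : w ⬝ᵥ v = 0) : IsRt (pr ι F (mkT v w h)) v w :=
  ⟨mkT v w h, rfl, rfl⟩

lemma exists_isRt {v w : ι → F} (h : w ⬝ᵥ v = 0) :
    ∃ x : ProjectiveSpecialLinearGroup ι F, IsRt x v w := ⟨_, isRt_of_dot h⟩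

lemma IsRt.smul_right {x : ProjectiveSpecialLinearGroup ι F} {v w : ι → F} (c : F) (h : IsRt x (c • v) w) :
    IsRt x v (c • w) := by
  obtain ⟨s, hs, hx⟩ := h
  refine ⟨s, ?_, hx⟩
  rw [hs, tvM, tvM]
  congr 1
  ext i j
  simp [vecMulVec_apply]
  ring

lemma IsRt.smul_left {x : ProjectiveSpecialLinearGroup ι F} {v w : ι → F} (c : F) (h : IsRt x v (c • w)) :
    IsRt x (c • v) w := by
  obtain ⟨s, hs, hx⟩ := h
  refine ⟨s, ?_, hx⟩
  rw [hs, tvM, tvM]
  congr 1
  ext i j
  simp [vecMulVec_apply]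
  ring

lemma mem_RG_of_isRt {x : ProjectiveSpecialLinearGroup ι F} {v w : ι → F} (h : IsRt x v w) : x ∈ RG v w :=
  ⟨1, by rwa [one_smul]⟩

/-- a flag -/
structure Flag (v w : ι → F) : Prop where
  left : v ≠ 0
  right : w ≠ 0
  dot : w ⬝ᵥ v = 0

lemma RG_eq_of_par {v v' w w' : ι → F} (hv : Par v v') (hw : Par w w') : RG v w = RG v' w' := by
  obtain ⟨c, hc, rfl⟩ := hv
  obtain ⟨d, hd, rfl⟩ := hw
  ext x
  constructor
  · rintro ⟨t, ht⟩
    refine ⟨t * c⁻¹ * d⁻¹, ?_⟩
    obtain ⟨s, hs, hx⟩ := ht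
    refine ⟨s, ?_, hx⟩
    rw [hs, tvM, tvM]
    congr 1
    ext i j
    simp only [vecMulVec_apply, Pi.smul_apply, smul_eq_mul]
    field_simp
  · rintro ⟨t, ht⟩
    refine ⟨t * c * d, ?_⟩
    obtain ⟨s, hs, hx⟩ := ht
    refine ⟨s, ?_, hx⟩
    rw [hs, tvM, tvM]
    congr 1
    ext i j
    simp only [vecMulVec_apply, Pi.smul_apply, smul_eq_mul]
    ring

lemma par_of_RG_eq [Nonempty ι] {v v' w w' : ι → F} (hf : Flag v w) (hf' : Flag v' w') (h : RG v w = RG v' w') :
    Par v v' ∧ Par w w' := by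
  have hx : ∃ x : ProjectiveSpecialLinearGroup ι F, IsRt x v w := exists_isRt hf.dot
  obtain ⟨x, hx⟩ := hx
  have hm : x ∈ RG v' w' := h ▸ mem_RG_of_isRt hx
  obtain ⟨t, ht⟩ := hm
  have h1 := hx.eq_of_pr ht
  obtain ⟨c, hc, h2, h3⟩ := vecMulVec_eq_imp hf.left hf.right h1
  constructor
  · -- `t • v' = c • v`
    have ht0 : t ≠ 0 := by
      rintro rfl
      rw [zero_smul] at h2
      exact hf.left (by
        have := h2.symm
        exact (smul_eq_zero.mp this).resolve_left hc)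
    refine ⟨t⁻¹ * c, mul_ne_zero (inv_ne_zero ht0) hc, ?_⟩
    rw [← smul_smul, ← h2, smul_smul, inv_mul_cancel₀ ht0, one_smul]
  · exact Par.symm' ⟨c, hc, h3⟩

end Cfsg.Agent.Lead.AutPSL
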