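import Cfsg.Agent.Lib.Lead.AutPSLSyl
import Cfsg.Agent.Lib.Lead.SLn
/-! Automorphisms fixing the coordinate root groups. -/
set_option autoImplicit false
set_option linter.style.haveILetI false
set_option linter.unusedSimpArgs false
set_option linter.unusedSectionVars false
set_option linter.unusedVariables false
namespace Cfsg.Agent.Lead.AutPSL
open Matrix Matrix.SpecialLinearGroup
open scoped MatrixGroups

variable {ι F : Type*} [DecidableEq ι] [Fintype ι] [Field F]

/-- coordinate root elements -/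
def xx {i j : ι} (h : i ≠ j) (t : F) : ProjectiveSpecialLinearGroup ι F :=
  pr ι F (SpecialLinearGroup.transvection h t)

lemma isRt_xx {i j : ι} (h : i ≠ j) (t : F) : IsRt (xx h t) (t • ee F i) (ee F j) :=
  ⟨_, transvection_tvM h t, rfl⟩

lemma eq_xx_of_isRt [Nonempty ι] {i j : ι} (h : i ≠ j) {t : F} {y : ProjectiveSpecialLinearGroup ι F}
    (hy : IsRt y (t • ee F i) (ee F j)) : y = xx h t := by
  obtain ⟨s, hs, rfl⟩ := hy
  congr 1
  apply Subtype.ext
  rw [hs, transvection_tvM]

lemma mem_X_iff [Nonempty ι] {i j : ι} (h : i ≠ j) {y : ProjectiveSpecialLinearGroup ι F} :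
    y ∈ RG (ee F i) (ee F j) ↔ ∃ t, y = xx h t := by
  constructor
  · rintro ⟨t, ht⟩
    exact ⟨t, eq_xx_of_isRt h ht⟩
  · rintro ⟨t, rfl⟩
    exact ⟨t, isRt_xx h t⟩

lemma xx_add {i j : ι} (h : i ≠ j) (a b : F) : xx h (a + b) = xx h a * xx h b := by
  rw [xx, xx, xx, ← map_mul]
  congr 1
  apply Subtype.ext
  change Matrix.transvection i j (a + b) = Matrix.transvection i j a * Matrix.transvection i j b
  rw [Matrix.transvection_mul_transvection_same _ _ h]

lemma xx_zero {i j : ι} (h : i ≠ j) : xx h (0 : F) = 1 := by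
  rw [xx, SpecialLinearGroup.transvection_coeff_zero, map_one]

lemma xx_neg {i j : ι} (h : i ≠ j) (a : F) : xx h (-a) = (xx h a)⁻¹ := by
  rw [eq_inv_iff_mul_eq_one, ← xx_add, neg_add_cancel, xx_zero]

lemma xx_inj [Nonempty ι] {i j : ι} (h : i ≠ j) {a b : F} (hab : xx h a = xx h b) : a = b := by
  have h1 := (isRt_xx h a).eq_of_pr (hab ▸ isRt_xx h b)
  have h2 := congrFun (congrFun h1 i) j
  simpa [vecMulVec_apply, h] using h2

/-- automorphisms are determined on coordinate root elements -/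
lemma aut_ext [Nontrivial ι] {β β' : MulAut (ProjectiveSpecialLinearGroup ι F)}
    (hh : ∀ (i j : ι) (h : i ≠ j) (t : F), β (xx h t) = β' (xx h t)) : β = β' := by
  ext x
  induction x using QuotientGroup.induction_on with
  | H s =>
    refine transvection_induction' (fun s => β (pr ι F s) = β' (pr ι F s)) ?_ ?_ s
    · intro i j h c
      exact hh i j h c
    · intro A B hA hB
      rw [map_mul, map_mul, map_mul, hA, hB]

/-- commutator relation -/
lemma xx_comm {i j k : ι} (hij : i ≠ j) (hjk : j ≠ k) (hik : i ≠ k) (a b : F) :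
    xx hij a * xx hjk b = xx hik (a * b) * xx hjk b * xx hij a := by
  rw [xx, xx, xx, ← map_mul, ← map_mul, ← map_mul]
  congr 1
  apply Subtype.ext
  change ((SpecialLinearGroup.transvection hij a : SpecialLinearGroup ι F) : Matrix ι ι F) *
      ((SpecialLinearGroup.transvection hjk b : SpecialLinearGroup ι F) : Matrix ι ι F) =
    ((SpecialLinearGroup.transvection hik (a * b) : SpecialLinearGroup ι F) : Matrix ι ι F) *
      ((SpecialLinearGroup.transvection hjk b : SpecialLinearGroup ι F) : Matrix ι ι F) *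
      ((SpecialLinearGroup.transvection hij a : SpecialLinearGroup ι F) : Matrix ι ι F)
  simp only [SpecialLinearGroup.transvection_coe, mul_add, add_mul, mul_one, one_mul]
  have e1 : Matrix.single i j a * Matrix.single j k b = Matrix.single i k (a * b) :=
    Matrix.single_mul_single_same _ _ _ _ _
  have e2 : Matrix.single i k (a * b) * Matrix.single j k b = 0 :=
    Matrix.single_mul_single_of_ne _ _ _ _ (Ne.symm hjk) _
  have e3 : Matrix.single i k (a * b) * Matrix.single i j a = 0 :=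
    Matrix.single_mul_single_of_ne _ _ _ _ (Ne.symm hik) _
  have e4 : Matrix.single j k b * Matrix.single i j a = 0 :=
    Matrix.single_mul_single_of_ne _ _ _ _ (Ne.symm hik) _
  rw [e1, e2, e3, e4, zero_mul]
  abel

/-- the diagonal matrices -/
def dg : (ι → Fˣ) →* GL ι F where
  toFun d := ⟨diagonal (fun i => (d i : F)), diagonal (fun i => (((d i)⁻¹ : Fˣ) : F)), by
      rw [diagonal_mul_diagonal]; simp, by
      rw [diagonal_mul_diagonal]; simp⟩
  map_one' := by
    apply Units.ext
    simp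
  map_mul' a b := by
    apply Units.ext
    simp [diagonal_mul_diagonal]

lemma dg_coe (d : ι → Fˣ) : ((dg d : GL ι F) : Matrix ι ι F) = diagonal (fun i => (d i : F)) := rfl
lemma dg_inv_coe (d : ι → Fˣ) : (((dg d)⁻¹ : GL ι F) : Matrix ι ι F) = diagonal (fun i => (((d i)⁻¹ : Fˣ) : F)) := rfl

lemma cc_dg_xx [Nonempty ι] (d : ι → Fˣ) {i j : ι} (h : i ≠ j) (t : F) :
    cc (dg d) (xx h t) = xx h ((d i : F) * (((d j)⁻¹ : Fˣ) : F) * t) := by
  apply eq_xx_of_isRt
  refine ((isRt_xx h t).cc (dg d)).congr' ?_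
  rw [dg_coe, dg_inv_coe]
  ext a b
  simp only [vecMulVec_apply, mulVec_diagonal, vecMul_diagonal, Pi.smul_apply, smul_eq_mul, Pi.single_apply]
  by_cases ha : a = i <;> by_cases hb : b = j
  · subst ha; subst hb; simp; ring
  · subst ha; simp [hb]
  · subst hb; simp [ha]
  · simp [ha, hb]

lemma fld_xx [Nonempty ι] (σ : F ≃+* F) {i j : ι} (h : i ≠ j) (t : F) :
    fld σ (xx h t) = xx h (σ t) := by
  apply eq_xx_of_isRt
  refine ((isRt_xx h t).fld σ).congr' ?_
  ext a b
  simp only [vecMulVec_apply, Pi.smul_apply, smul_eq_mul, Pi.single_apply, map_mul]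
  by_cases ha : a = i <;> by_cases hb : b = j <;> simp [ha, hb]

/-- `β` fixes all coordinate root groups -/
def Stab (β : MulAut (ProjectiveSpecialLinearGroup ι F)) : Prop :=
  ∀ (i j : ι) (h : i ≠ j) (t : F), ∃ t', β (xx h t) = xx h t'

/-- the algebra of the family `τ` -/
lemma tau_algebra {n : ℕ} (hn : 3 ≤ n) (τ : ∀ i j : Fin n, i ≠ j → F → F)
    (hrel : ∀ (i j k : Fin n) (hij : i ≠ j) (hjk : j ≠ k) (hik : i ≠ k) (a b : F),
      τ i j hij a * τ j k hjk b = τ i k hik (a * b))
    (h1 : ∀ (j : Fin n) (h : (⟨0, by omega⟩ : Fin n) ≠ j), τ ⟨0, by omega⟩ j h 1 = 1) :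
    ∃ σ : F → F, ∀ (i j : Fin n) (h : i ≠ j) (t : F), τ i j h t = σ t := by
  set r : Fin n := ⟨0, by omega⟩ with hr
  let j₀ : Fin n := ⟨1, by omega⟩
  have hj₀ : r ≠ j₀ := by
    intro h
    have := congrArg Fin.val h
    simp [hr, j₀] at this
  -- step 1: `τ j k = τ r k` for `j ≠ r, k`
  have s1 : ∀ (j k : Fin n) (hrj : r ≠ j) (hjk : j ≠ k) (hrk : r ≠ k) (b : F), τ j k hjk b = τ r k hrk b := by
    intro j k hrj hjk hrk b
    have := hrel r j k hrj hjk hrk 1 b
    rw [h1 j hrj, one_mul, one_mul] at this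
    exact this
  -- step 2: `τ j k 1 = 1` for `k ≠ r`
  have s2 : ∀ (j k : Fin n) (hjk : j ≠ k) (hrk : r ≠ k), τ j k hjk 1 = 1 := by
    intro j k hjk hrk
    by_cases hrj : r = j
    · subst hrj
      exact h1 k hjk
    · rw [s1 j k hrj hjk hrk 1]
      exact h1 k hrk
  -- step 3: all `τ r k` coincide
  have s3 : ∀ (j k : Fin n) (hrj : r ≠ j) (hrk : r ≠ k) (a : F), τ r j hrj a = τ r k hrk a := by
    intro j k hrj hrk a
    by_cases hjk : j = k
    · subst hjk; rfl
    · have := hrel r j k hrj hjk hrk a 1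
      rw [s2 j k hjk hrk, mul_one, mul_one] at this
      exact this
  refine ⟨τ r j₀ hj₀, ?_⟩
  intro i j h t
  by_cases hri : r = i
  · subst hri
    exact s3 j j₀ h hj₀ t
  by_cases hrj : r = j
  · -- `τ i r`: pick `k ∉ {r, i}`
    subst hrj
    obtain ⟨k, hk1, hk2⟩ : ∃ k : Fin n, k ≠ r ∧ k ≠ i := by
      by_contra hcon
      push Not at hcon
      have hc : (Finset.univ : Finset (Fin n)) ⊆ {r, i} := by
        intro x _
        by_cases hx : x = r
        · simp [hx]
        · simp [hcon x hx]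
      have := Finset.card_le_card hc
      rw [Finset.card_univ, Fintype.card_fin] at this
      have h2 : ({r, i} : Finset (Fin n)).card ≤ 2 := Finset.card_le_two
      omega
    have h3 := hrel i r k h (Ne.symm hk1) (Ne.symm hk2) t 1
    rw [h1 k (Ne.symm hk1), mul_one, mul_one, s1 i k hri (Ne.symm hk2) (Ne.symm hk1) t] at h3
    rw [h3]
    exact s3 k j₀ (Ne.symm hk1) hj₀ t
  · rw [s1 i j hri h hrj t]
    exact s3 j j₀ hrj hj₀ t

/-- Hua's identity -/
lemma hua_identity {a b : F} (ha : a ≠ 0) (hb : b ≠ 0) (hab : a * b ≠ 1) :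
    a - (a⁻¹ + (b⁻¹ - a)⁻¹)⁻¹ = a * a * b := by
  have h1 : 1 - a * b ≠ 0 := sub_ne_zero.mpr (Ne.symm hab)
  have e1 : b⁻¹ - a = (1 - a * b) / b := by field_simp
  have e2 : a⁻¹ + (b⁻¹ - a)⁻¹ = 1 / (a * (1 - a * b)) := by
    rw [e1, inv_div]
    field_simp
    ring
  rw [e2, one_div, inv_inv]
  ring

/-- Hua's theorem over a finite field -/
lemma hua [Finite F] (σ : F → F) (hadd : ∀ a b, σ (a + b) = σ a + σ b) (h1 : σ 1 = 1)
    (hinv : ∀ x, x ≠ 0 → σ x * σ x⁻¹ = 1) (hinj : Function.Injective σ) :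
    ∀ a b, σ (a * b) = σ a * σ b := by
  have h0 : σ 0 = 0 := by
    have := hadd 0 0
    simpa using this
  have hneg : ∀ a, σ (-a) = -σ a := by
    intro a
    have := hadd a (-a)
    rw [add_neg_cancel, h0] at this
    exact (neg_eq_of_add_eq_zero_right this.symm).symm
  have hsub : ∀ a b, σ (a - b) = σ a - σ b := by
    intro a b
    rw [sub_eq_add_neg, hadd, hneg, sub_eq_add_neg]
  have hne : ∀ x, x ≠ 0 → σ x ≠ 0 := fun x hx h => hx (hinj (h.trans h0.symm))
  have hinv' : ∀ x, σ x⁻¹ = (σ x)⁻¹ := by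
    intro x
    by_cases hx : x = 0
    · subst hx; simp [h0]
    · exact eq_inv_of_mul_eq_one_right (hinv x hx)
  have key : ∀ x y, σ (x * x * y) = σ x * σ x * σ y := by
    intro x y
    by_cases hx : x = 0
    · subst hx; simp [h0]
    by_cases hy : y = 0
    · subst hy; simp [h0]
    by_cases hxy : x * y = 1
    · have hy' : y = x⁻¹ := eq_inv_of_mul_eq_one_right hxy
      subst hy'
      have e : x * x * x⁻¹ = x := by field_simp
      rw [e, hinv']
      field_simp [hne x hx]
    · have hab : σ x * σ y ≠ 1 := by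
        intro h
        apply hxy
        have h2 : σ y = σ x⁻¹ := by
          rw [hinv']
          exact eq_inv_of_mul_eq_one_right h
        rw [hinj h2, mul_inv_cancel₀ hx]
      rw [← hua_identity hx hy hxy, ← hua_identity (hne x hx) (hne y hy) hab, hsub, hinv', hadd, hinv', hinv', hsub, hinv']
  have hsq : ∀ x, σ (x * x) = σ x * σ x := by
    intro x
    have := key x 1
    rwa [mul_one, h1, mul_one] at this
  intro a b
  by_cases h2 : ringChar F = 2
  · haveI : Fintype F := Fintype.ofFinite F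
    obtain ⟨c, hc⟩ := FiniteField.isSquare_of_char_two h2 a
    rw [hc, key, hsq]
  · have h2' : (2 : F) ≠ 0 := Ring.two_ne_zero h2
    have e := hsq (a + b)
    have e1 : (a + b) * (a + b) = a * a + (a * b + a * b) + b * b := by ring
    rw [e1, hadd, hadd, hadd, hsq, hsq, hadd a b] at e
    have e2 : 2 * σ (a * b) = 2 * (σ a * σ b) := by
      linear_combination e
    exact mul_left_cancel₀ h2' e2

/-- a family given by one multiplicative function is a field automorphism -/
lemma fld_of_family [Finite F] [Nontrivial ι] {β : MulAut (ProjectiveSpecialLinearGroup ι F)} (σ : F → F)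
    (hσ : ∀ (i j : ι) (h : i ≠ j) (t : F), β (xx h t) = xx h (σ t))
    (σ1 : σ 1 = 1) (σm : ∀ a b, σ (a * b) = σ a * σ b) :
    ∃ σ' : F ≃+* F, β = fld σ' := by
  obtain ⟨i, j, hij⟩ := exists_pair_ne ι
  have hadd : ∀ a b, σ (a + b) = σ a + σ b := by
    intro a b
    apply xx_inj hij
    rw [← hσ, xx_add, map_mul, hσ, hσ, xx_add]
  have hinj : Function.Injective σ := by
    intro a b hab
    apply xx_inj hij
    apply β.injective
    rw [hσ, hσ, hab]
  let f : F →+* F := { toFun := σ, map_one' := σ1, map_mul' := σm, map_zero' := by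
                          have := hadd 0 0
                          simpa using this
                       , map_add' := hadd }
  have hbij : Function.Bijective f := Finite.injective_iff_bijective.mp hinj
  refine ⟨RingEquiv.ofBijective f hbij, ?_⟩
  apply aut_ext
  intro a b h t
  rw [hσ, fld_xx]
  rfl

/-- normalisation by a diagonal matrix -/
lemma stab_norm {n : ℕ} (hn : 1 ≤ n) [Nonempty (Fin n)] {β : MulAut (ProjectiveSpecialLinearGroup (Fin n) F)} (hβ : Stab β) :
    ∃ D : GL (Fin n) F, Stab (cc D * β) ∧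
      ∀ (j : Fin n) (h : (⟨0, hn⟩ : Fin n) ≠ j), (cc D * β) (xx h 1) = xx h 1 := by
  classical
  choose τ hτ using hβ
  have hne : ∀ (i j : Fin n) (h : i ≠ j), τ i j h 1 ≠ 0 := by
    intro i j h h0
    have h1 := hτ i j h 1
    rw [h0, xx_zero] at h1
    have h2 : xx h (1 : F) = xx h 0 := by
      apply β.injective
      rw [h1, xx_zero, map_one]
    exact one_ne_zero (xx_inj h h2)
  let d : Fin n → Fˣ := fun j => if h : (⟨0, hn⟩ : Fin n) = j then 1 else Units.mk0 (τ ⟨0, hn⟩ j h 1) (hne _ _ _)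
  refine ⟨dg d, ?_, ?_⟩
  · intro i j h t
    refine ⟨(d i : F) * (((d j)⁻¹ : Fˣ) : F) * τ i j h t, ?_⟩
    change cc (dg d) (β (xx h t)) = _
    rw [hτ, cc_dg_xx]
  · intro j h
    change cc (dg d) (β (xx h 1)) = _
    rw [hτ, cc_dg_xx]
    congr 1
    have h1 : d ⟨0, hn⟩ = 1 := by simp [d]
    have h2 : d j = Units.mk0 (τ ⟨0, hn⟩ j h 1) (hne _ _ _) := by simp [d, h]
    rw [h1, h2]
    simp [hne]

/-- consequences of `Stab` for the coordinates -/
lemma stab_rel [Nonempty ι] {β : MulAut (ProjectiveSpecialLinearGroup ι F)} (τ : ∀ i j : ι, i ≠ j → F → F)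
    (hτ : ∀ (i j : ι) (h : i ≠ j) (t : F), β (xx h t) = xx h (τ i j h t))
    (i j k : ι) (hij : i ≠ j) (hjk : j ≠ k) (hik : i ≠ k) (a b : F) :
    τ i j hij a * τ j k hjk b = τ i k hik (a * b) := by
  have h1 := congrArg β (xx_comm hij hjk hik a b)
  simp only [map_mul, hτ] at h1
  rw [xx_comm hij hjk hik (τ i j hij a) (τ j k hjk b)] at h1
  have h2 := mul_right_cancel (mul_right_cancel h1)
  exact xx_inj hik h2

/-- automorphisms fixing the coordinate root groups, rank at least two -/
theorem stab_three {n : ℕ} (hn : 3 ≤ n) [Finite F] {β : MulAut (ProjectiveSpecialLinearGroup (Fin n) F)} (hβ : Stab β) :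
    ∃ (D : GL (Fin n) F) (σ : F ≃+* F), β = cc D * fld σ := by
  classical
  haveI : Nonempty (Fin n) := ⟨⟨0, by omega⟩⟩
  haveI : Nontrivial (Fin n) := ⟨⟨⟨0, by omega⟩, ⟨1, by omega⟩, by simp [Fin.ext_iff]⟩⟩
  obtain ⟨D, hS, hN⟩ := stab_norm (n := n) (by omega) hβ
  choose τ hτ using hS
  have hrel := stab_rel τ hτ
  have h1 : ∀ (j : Fin n) (h : (⟨0, by omega⟩ : Fin n) ≠ j), τ ⟨0, by omega⟩ j h 1 = 1 := by
    intro j h
    apply xx_inj h
    rw [← hτ, hN j h]
  obtain ⟨σ, hσ⟩ := tau_algebra hn τ hrel h1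
  have hr1 : (⟨0, by omega⟩ : Fin n) ≠ ⟨1, by omega⟩ := by simp [Fin.ext_iff]
  have hr2 : (⟨0, by omega⟩ : Fin n) ≠ ⟨2, by omega⟩ := by simp [Fin.ext_iff]
  have hr3 : (⟨1, by omega⟩ : Fin n) ≠ ⟨2, by omega⟩ := by simp [Fin.ext_iff]
  obtain ⟨σ', hσ'⟩ := fld_of_family (β := cc D * β) σ
    (fun i j h t => by rw [hτ, hσ])
    (by rw [← hσ _ _ hr1, h1 _ hr1])
    (fun a b => by
      have := hrel _ _ _ hr1 hr3 hr2 a b
      rw [hσ, hσ, hσ] at this
      exact this.symm)
  refine ⟨D⁻¹, σ', ?_⟩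
  rw [map_inv, ← hσ', inv_mul_cancel_left]

section Two

lemma h01 : (0 : Fin 2) ≠ 1 := by decide
lemma h10 : (1 : Fin 2) ≠ 0 := by decide

/-- the swap criterion -/
lemma swap_crit {a b y z : F} (hy : y ≠ 0)
    (hV : (xx h01 a * xx h10 (-b) * xx h01 a) * xx h01 y * (xx h01 a * xx h10 (-b) * xx h01 a)⁻¹ = xx h10 z) :
    a * b = 1 := by
  let s : SpecialLinearGroup (Fin 2) F := SpecialLinearGroup.transvection h01 a * SpecialLinearGroup.transvection h10 (-b) *
    SpecialLinearGroup.transvection h01 a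
  have hs : xx h01 a * xx h10 (-b) * xx h01 a = pr (Fin 2) F s := by
    simp only [xx, map_mul, s]
  rw [hs] at hV
  have h1 : IsRt (cc (toG s) (xx h01 y)) _ _ := (isRt_xx h01 y).cc (toG s)
  have h2 : cc (toG s) (xx h01 y) = xx h10 z := by
    rw [cc_toG, MulAut.conj_apply]
    exact hV
  rw [h2] at h1
  have hfl : Flag (y • ee F (0 : Fin 2)) (ee F (1 : Fin 2)) := by
    refine ⟨?_, (flag_ee h01).right, ?_⟩
    · intro h0
      have := congrFun h0 0
      simp [hy] at this
    · have := (flag_ee (F := F) h01).dot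
      rw [dotProduct_smul, this, smul_zero]
  have hfl2 := hfl.cc (toG s)
  have h3 := h1.eq_of_pr (isRt_xx h10 z)
  obtain ⟨c, hc, h4, -⟩ := vecMulVec_eq_imp hfl2.left hfl2.right h3
  have h5 := congrFun h4 0
  have hs00 : (s : Matrix (Fin 2) (Fin 2) F) 0 0 = 1 - a * b := by
    simp only [s, Matrix.SpecialLinearGroup.coe_mul, SpecialLinearGroup.transvection_coe]
    simp [Matrix.mul_apply, Fin.sum_univ_two, Matrix.single_apply, Matrix.one_apply]
    ring
  have h6 : ((toG s : GL _ F) : Matrix (Fin 2) (Fin 2) F) = (s : Matrix (Fin 2) (Fin 2) F) := rfl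
  rw [h6] at h5
  simp only [Pi.smul_apply, smul_eq_mul, mulVec_smul, Pi.single_apply, mulVec_single_one, Matrix.col_apply] at h5
  simp [hc, hy, hs00, h01] at h5
  exact (sub_eq_zero.mp h5).symm

/-- conjugation by the Weyl element -/
lemma conj_W {x : F} (hx : x ≠ 0) (y : F) :
    (xx h01 x * xx h10 (-x⁻¹) * xx h01 x) * xx h01 y * (xx h01 x * xx h10 (-x⁻¹) * xx h01 x)⁻¹ =
      xx h10 (-(x⁻¹ * x⁻¹) * y) := by
  rw [mul_inv_eq_iff_eq_mul]
  simp only [xx, ← map_mul]
  congr 1
  apply Subtype.ext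
  simp only [Matrix.SpecialLinearGroup.coe_mul, SpecialLinearGroup.transvection_coe]
  ext i j
  fin_cases i <;> fin_cases j <;>
    simp [Matrix.mul_apply, Fin.sum_univ_two, Matrix.single_apply, Matrix.one_apply]
  all_goals try field_simp
  all_goals try ring
  all_goals simp

theorem stab_two [Finite F] {β : MulAut (ProjectiveSpecialLinearGroup (Fin 2) F)} (hβ : Stab β) :
    ∃ (D : GL (Fin 2) F) (σ : F ≃+* F), β = cc D * fld σ := by
  classical
  obtain ⟨D, hS, hN⟩ := stab_norm (n := 2) (by omega) hβ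
  choose τ hτ using hS
  set β' := cc D * β with hβ'
  let A : F → F := τ 0 1 h01
  let B : F → F := τ 1 0 h10
  have hA : ∀ t, β' (xx h01 t) = xx h01 (A t) := fun t => hτ 0 1 h01 t
  have hB : ∀ t, β' (xx h10 t) = xx h10 (B t) := fun t => hτ 1 0 h10 t
  have hA1 : A 1 = 1 := by
    apply xx_inj h01
    rw [← hA]
    exact hN 1 h01
  have hAadd : ∀ a b, A (a + b) = A a + A b := by
    intro a b
    apply xx_inj h01
    rw [← hA, xx_add, map_mul, hA, hA, xx_add]
  have hBadd : ∀ a b, B (a + b) = B a + B b := by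
    intro a b
    apply xx_inj h10
    rw [← hB, xx_add, map_mul, hB, hB, xx_add]
  have hB0 : B 0 = 0 := by
    have := hBadd 0 0
    simpa using this
  have hBneg : ∀ a, B (-a) = -B a := by
    intro a
    have := hBadd a (-a)
    rw [add_neg_cancel, hB0] at this
    exact (neg_eq_of_add_eq_zero_right this.symm).symm
  have hAinj : Function.Injective A := by
    intro a b hab
    apply xx_inj h01
    apply β'.injective
    rw [hA, hA, hab]
  -- the image of the Weyl relation
  have hW : ∀ x : F, x ≠ 0 → ∀ y, (xx h01 (A x) * xx h10 (-(B x⁻¹)) * xx h01 (A x)) * xx h01 (A y) *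
      (xx h01 (A x) * xx h10 (-(B x⁻¹)) * xx h01 (A x))⁻¹ = xx h10 (B (-(x⁻¹ * x⁻¹) * y)) := by
    intro x hx y
    have := congrArg β' (conj_W hx y)
    simp only [map_mul, map_inv, hA, hB, hBneg] at this
    exact this
  have hAB : ∀ x : F, x ≠ 0 → A x * B x⁻¹ = 1 := by
    intro x hx
    have := hW x hx 1
    rw [hA1] at this
    exact swap_crit one_ne_zero this
  have hB1 : B 1 = 1 := by
    have := hAB 1 one_ne_zero
    rwa [inv_one, hA1, one_mul] at this
  have hAB' : ∀ y, A y = B y := by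
    intro y
    have h1 := hW 1 one_ne_zero y
    rw [inv_one, hB1, hA1] at h1
    have h2 := conj_W (one_ne_zero (α := F)) (A y)
    rw [inv_one] at h2
    have h3 := h1.symm.trans h2
    have h4 := xx_inj h10 h3
    simp only [mul_one, neg_mul, one_mul] at h4
    rw [hBneg] at h4
    exact (neg_injective h4).symm
  have hmul := hua A hAadd hA1 (fun x hx => by rw [hAB' x⁻¹]; exact hAB x hx) hAinj
  obtain ⟨σ', hσ'⟩ := fld_of_family (β := β') A (by
      intro i j h t
      fin_cases i <;> fin_cases j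
      · exact absurd rfl h
      · exact hA t
      · rw [hAB' t]; exact hB t
      · exact absurd rfl h) hA1 hmul
  refine ⟨D⁻¹, σ', ?_⟩
  rw [map_inv, ← hσ', hβ', inv_mul_cancel_left]

/-- automorphisms fixing the coordinate root groups -/
theorem stab_all {n : ℕ} (hn : 2 ≤ n) [Finite F] {β : MulAut (ProjectiveSpecialLinearGroup (Fin n) F)} (hβ : Stab β) :
    ∃ (D : GL (Fin n) F) (σ : F ≃+* F), β = cc D * fld σ := by
  by_cases h3 : 3 ≤ n
  · exact stab_three h3 hβ
  · obtain rfl : n = 2 := by omega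
    exact stab_two hβ

end Two

end Cfsg.Agent.Lead.AutPSL


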