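import Cfsg.Agent.Lib.Lead.AutPSLBase
/-! Standard automorphisms of `PSL_n(F)` and their action on root groups. -/
set_option autoImplicit false
set_option linter.style.haveILetI false
set_option linter.unusedSimpArgs false
set_option linter.unusedSectionVars false
set_option linter.unusedVariables false
namespace Cfsg.Agent.Lead.AutPSL
open Matrix Matrix.SpecialLinearGroup
open scoped MatrixGroups

variable {ι F : Type*} [DecidableEq ι] [Fintype ι] [Field F]

/-- automorphisms of `SL` descend to `PSL` -/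
noncomputable def liftAut : MulAut (SpecialLinearGroup ι F) →* MulAut (ProjectiveSpecialLinearGroup ι F) where
  toFun e := QuotientGroup.congr _ _ e
    (Subgroup.characteristic_iff_map_eq.mp inferInstance e)
  map_one' := by
    ext x
    induction x using QuotientGroup.induction_on with
    | H s => rfl
  map_mul' e e' := by
    ext x
    induction x using QuotientGroup.induction_on with
    | H s => rfl

@[simp] lemma liftAut_pr (e : MulAut (SpecialLinearGroup ι F)) (s : SpecialLinearGroup ι F) :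
    liftAut e (pr ι F s) = pr ι F (e s) := rfl

/-- conjugation by an element of `GL` on `SL` -/
def cSL : GL ι F →* MulAut (SpecialLinearGroup ι F) where
  toFun g :=
    { toFun := fun s => ⟨(g : Matrix ι ι F) * (s : Matrix ι ι F) * ((g⁻¹ : GL ι F) : Matrix ι ι F), by
        have h1 : ((g : Matrix ι ι F) * ((g⁻¹ : GL ι F) : Matrix ι ι F)) = 1 := by
          rw [← Units.val_mul, mul_inv_cancel, Units.val_one]
        rw [det_mul, det_mul, s.2, mul_one, ← det_mul, h1, det_one]⟩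
      invFun := fun s => ⟨((g⁻¹ : GL ι F) : Matrix ι ι F) * (s : Matrix ι ι F) * (g : Matrix ι ι F), by
        have h1 : (((g⁻¹ : GL ι F) : Matrix ι ι F) * (g : Matrix ι ι F)) = 1 := by
          rw [← Units.val_mul, inv_mul_cancel, Units.val_one]
        rw [det_mul, det_mul, s.2, mul_one, ← det_mul, h1, det_one]⟩
      left_inv := fun s => by
        apply Subtype.ext
        have h1 : (((g⁻¹ : GL ι F) : Matrix ι ι F) * (g : Matrix ι ι F)) = 1 := by
          rw [← Units.val_mul, inv_mul_cancel, Units.val_one]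
        change ((g⁻¹ : GL ι F) : Matrix ι ι F) * ((g : Matrix ι ι F) * (s : Matrix ι ι F) * ((g⁻¹ : GL ι F) : Matrix ι ι F)) * (g : Matrix ι ι F) = s
        calc _ = (((g⁻¹ : GL ι F) : Matrix ι ι F) * (g : Matrix ι ι F)) * (s : Matrix ι ι F) * (((g⁻¹ : GL ι F) : Matrix ι ι F) * (g : Matrix ι ι F)) := by
              simp only [Matrix.mul_assoc]
          _ = _ := by rw [h1, one_mul, mul_one]
      right_inv := fun s => by
        apply Subtype.ext
        have h1 : ((g : Matrix ι ι F) * ((g⁻¹ : GL ι F) : Matrix ι ι F)) = 1 := by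
          rw [← Units.val_mul, mul_inv_cancel, Units.val_one]
        change (g : Matrix ι ι F) * (((g⁻¹ : GL ι F) : Matrix ι ι F) * (s : Matrix ι ι F) * (g : Matrix ι ι F)) * ((g⁻¹ : GL ι F) : Matrix ι ι F) = s
        calc _ = ((g : Matrix ι ι F) * ((g⁻¹ : GL ι F) : Matrix ι ι F)) * (s : Matrix ι ι F) * ((g : Matrix ι ι F) * ((g⁻¹ : GL ι F) : Matrix ι ι F)) := by
              simp only [Matrix.mul_assoc]
          _ = _ := by rw [h1, one_mul, mul_one]
      map_mul' := fun s t => by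
        apply Subtype.ext
        have h1 : (((g⁻¹ : GL ι F) : Matrix ι ι F) * (g : Matrix ι ι F)) = 1 := by
          rw [← Units.val_mul, inv_mul_cancel, Units.val_one]
        change (g : Matrix ι ι F) * ((s : Matrix ι ι F) * (t : Matrix ι ι F)) * ((g⁻¹ : GL ι F) : Matrix ι ι F) =
          ((g : Matrix ι ι F) * (s : Matrix ι ι F) * ((g⁻¹ : GL ι F) : Matrix ι ι F)) * ((g : Matrix ι ι F) * (t : Matrix ι ι F) * ((g⁻¹ : GL ι F) : Matrix ι ι F))
        calc _ = (g : Matrix ι ι F) * ((s : Matrix ι ι F) * 1 * (t : Matrix ι ι F)) * ((g⁻¹ : GL ι F) : Matrix ι ι F) := by rw [mul_one]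
          _ = _ := by rw [← h1]; simp only [Matrix.mul_assoc] }
  map_one' := MulEquiv.ext fun s => Subtype.ext (by
    change ((1 : GL ι F) : Matrix ι ι F) * (s : Matrix ι ι F) * (((1 : GL ι F)⁻¹ : GL ι F) : Matrix ι ι F) = s
    simp)
  map_mul' g h := MulEquiv.ext fun s => Subtype.ext (by
    change ((g * h : GL ι F) : Matrix ι ι F) * (s : Matrix ι ι F) * (((g * h)⁻¹ : GL ι F) : Matrix ι ι F) =
      ((g : Matrix ι ι F) * ((h : Matrix ι ι F) * (s : Matrix ι ι F) * ((h⁻¹ : GL ι F) : Matrix ι ι F)) * ((g⁻¹ : GL ι F) : Matrix ι ι F))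
    rw [_root_.mul_inv_rev, Units.val_mul, Units.val_mul]
    simp only [Matrix.mul_assoc])

@[simp] lemma cSL_coe (g : GL ι F) (s : SpecialLinearGroup ι F) :
    ((cSL g s : SpecialLinearGroup ι F) : Matrix ι ι F) =
      (g : Matrix ι ι F) * (s : Matrix ι ι F) * ((g⁻¹ : GL ι F) : Matrix ι ι F) := rfl

/-- conjugation by an element of `GL` on `PSL` -/
noncomputable def cc : GL ι F →* MulAut (ProjectiveSpecialLinearGroup ι F) := liftAut.comp cSL

lemma cc_pr (g : GL ι F) (s : SpecialLinearGroup ι F) : cc g (pr ι F s) = pr ι F (cSL g s) := rfl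

/-- entrywise action of a field automorphism -/
def fldSL : (F ≃+* F) →* MulAut (SpecialLinearGroup ι F) where
  toFun σ :=
    { toFun := Matrix.SpecialLinearGroup.map (σ : F →+* F)
      invFun := Matrix.SpecialLinearGroup.map (σ.symm : F →+* F)
      left_inv := fun s => by
        ext i j
        simp [Matrix.SpecialLinearGroup.map_apply_coe]
      right_inv := fun s => by
        ext i j
        simp [Matrix.SpecialLinearGroup.map_apply_coe]
      map_mul' := map_mul _ }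
  map_one' := MulEquiv.ext fun s => by
    ext i j
    simp [Matrix.SpecialLinearGroup.map_apply_coe]
  map_mul' σ τ := MulEquiv.ext fun s => by
    ext i j
    simp [Matrix.SpecialLinearGroup.map_apply_coe]

@[simp] lemma fldSL_coe (σ : F ≃+* F) (s : SpecialLinearGroup ι F) :
    ((fldSL σ s : SpecialLinearGroup ι F) : Matrix ι ι F) = (s : Matrix ι ι F).map σ := rfl

/-- field automorphisms on `PSL` -/
noncomputable def fld : (F ≃+* F) →* MulAut (ProjectiveSpecialLinearGroup ι F) := liftAut.comp fldSL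

lemma fld_pr (σ : F ≃+* F) (s : SpecialLinearGroup ι F) : fld σ (pr ι F s) = pr ι F (fldSL σ s) := rfl

lemma coe_inv_mul' (s : SpecialLinearGroup ι F) :
    ((s⁻¹ : SpecialLinearGroup ι F) : Matrix ι ι F) * (s : Matrix ι ι F) = 1 := by
  have := congrArg (fun x : SpecialLinearGroup ι F => (x : Matrix ι ι F)) (inv_mul_cancel s)
  simpa only [Matrix.SpecialLinearGroup.coe_mul, Matrix.SpecialLinearGroup.coe_one] using this

lemma coe_mul_inv' (s : SpecialLinearGroup ι F) :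
    (s : Matrix ι ι F) * ((s⁻¹ : SpecialLinearGroup ι F) : Matrix ι ι F) = 1 := by
  have := congrArg (fun x : SpecialLinearGroup ι F => (x : Matrix ι ι F)) (mul_inv_cancel s)
  simpa only [Matrix.SpecialLinearGroup.coe_mul, Matrix.SpecialLinearGroup.coe_one] using this

/-- inverse transpose on `SL` -/
def gamSL : MulAut (SpecialLinearGroup ι F) where
  toFun s := ⟨((s⁻¹ : SpecialLinearGroup ι F) : Matrix ι ι F)ᵀ, by rw [det_transpose]; exact (s⁻¹).2⟩
  invFun s := ⟨((s⁻¹ : SpecialLinearGroup ι F) : Matrix ι ι F)ᵀ, by rw [det_transpose]; exact (s⁻¹).2⟩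
  left_inv s := by
    apply Subtype.ext
    change (((⟨((s⁻¹ : SpecialLinearGroup ι F) : Matrix ι ι F)ᵀ, _⟩ : SpecialLinearGroup ι F)⁻¹ : SpecialLinearGroup ι F) : Matrix ι ι F)ᵀ = s
    have : ((⟨((s⁻¹ : SpecialLinearGroup ι F) : Matrix ι ι F)ᵀ, by rw [det_transpose]; exact (s⁻¹).2⟩ : SpecialLinearGroup ι F)⁻¹ : SpecialLinearGroup ι F) =
        ⟨(s : Matrix ι ι F)ᵀ, by rw [det_transpose]; exact s.2⟩ := by
      apply inv_eq_of_mul_eq_one_left
      apply Subtype.ext
      change (s : Matrix ι ι F)ᵀ * ((s⁻¹ : SpecialLinearGroup ι F) : Matrix ι ι F)ᵀ = 1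
      rw [← transpose_mul, coe_inv_mul', transpose_one]
    rw [this]
    simp
  right_inv s := by
    apply Subtype.ext
    change (((⟨((s⁻¹ : SpecialLinearGroup ι F) : Matrix ι ι F)ᵀ, _⟩ : SpecialLinearGroup ι F)⁻¹ : SpecialLinearGroup ι F) : Matrix ι ι F)ᵀ = s
    have : ((⟨((s⁻¹ : SpecialLinearGroup ι F) : Matrix ι ι F)ᵀ, by rw [det_transpose]; exact (s⁻¹).2⟩ : SpecialLinearGroup ι F)⁻¹ : SpecialLinearGroup ι F) =
        ⟨(s : Matrix ι ι F)ᵀ, by rw [det_transpose]; exact s.2⟩ := by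
      apply inv_eq_of_mul_eq_one_left
      apply Subtype.ext
      change (s : Matrix ι ι F)ᵀ * ((s⁻¹ : SpecialLinearGroup ι F) : Matrix ι ι F)ᵀ = 1
      rw [← transpose_mul, coe_inv_mul', transpose_one]
    rw [this]
    simp
  map_mul' s t := by
    apply Subtype.ext
    change (((s * t)⁻¹ : SpecialLinearGroup ι F) : Matrix ι ι F)ᵀ =
      ((s⁻¹ : SpecialLinearGroup ι F) : Matrix ι ι F)ᵀ * ((t⁻¹ : SpecialLinearGroup ι F) : Matrix ι ι F)ᵀ
    rw [← transpose_mul]
    congr 1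
    rw [_root_.mul_inv_rev]
    rfl

@[simp] lemma gamSL_coe (s : SpecialLinearGroup ι F) :
    ((gamSL s : SpecialLinearGroup ι F) : Matrix ι ι F) = ((s⁻¹ : SpecialLinearGroup ι F) : Matrix ι ι F)ᵀ := rfl

/-- inverse transpose on `PSL` -/
noncomputable def gam : MulAut (ProjectiveSpecialLinearGroup ι F) := liftAut gamSL

lemma gam_pr (s : SpecialLinearGroup ι F) : gam (pr ι F s) = pr ι F (gamSL s) := rfl

lemma gamSL_sq : (gamSL * gamSL : MulAut (SpecialLinearGroup ι F)) = 1 :=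
  MulEquiv.ext fun s => gamSL.left_inv s

lemma gam_sq : (gam * gam : MulAut (ProjectiveSpecialLinearGroup ι F)) = 1 := by
  rw [gam, ← map_mul, gamSL_sq, map_one]

/-- `σ` commutes with `γ` -/
lemma fldSL_gamSL (σ : F ≃+* F) : (fldSL σ * gamSL : MulAut (SpecialLinearGroup ι F)) = gamSL * fldSL σ := by
  apply MulEquiv.ext
  intro s
  apply Subtype.ext
  change (((s⁻¹ : SpecialLinearGroup ι F) : Matrix ι ι F)ᵀ).map σ = ((fldSL σ s)⁻¹ : SpecialLinearGroup ι F).1ᵀ
  rw [← map_inv]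
  rfl

lemma fld_gam (σ : F ≃+* F) : (fld σ * gam : MulAut (ProjectiveSpecialLinearGroup ι F)) = gam * fld σ := by
  change liftAut (fldSL σ) * liftAut gamSL = liftAut gamSL * liftAut (fldSL σ)
  rw [← map_mul, ← map_mul, fldSL_gamSL]

/-- `σ c_g σ⁻¹ = c_{σ g}` -/
lemma fldSL_cSL (σ : F ≃+* F) (g : GL ι F) :
    (fldSL σ * cSL g : MulAut (SpecialLinearGroup ι F)) =
      cSL (Matrix.GeneralLinearGroup.map (σ : F →+* F) g) * fldSL σ := by
  apply MulEquiv.ext
  intro s
  apply Subtype.ext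
  change ((g : Matrix ι ι F) * (s : Matrix ι ι F) * ((g⁻¹ : GL ι F) : Matrix ι ι F)).map σ =
    ((Matrix.GeneralLinearGroup.map (σ : F →+* F) g : GL ι F) : Matrix ι ι F) * ((s : Matrix ι ι F).map σ) *
      (((Matrix.GeneralLinearGroup.map (σ : F →+* F) g)⁻¹ : GL ι F) : Matrix ι ι F)
  rw [← map_inv]
  have e : ∀ A B : Matrix ι ι F, (A * B).map σ = A.map σ * B.map σ := fun A B => Matrix.map_mul (f := (σ : F →+* F))
  rw [e, e]
  rfl

lemma fld_cc (σ : F ≃+* F) (g : GL ι F) :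
    (fld σ * cc g : MulAut (ProjectiveSpecialLinearGroup ι F)) =
      cc (Matrix.GeneralLinearGroup.map (σ : F →+* F) g) * fld σ := by
  change liftAut (fldSL σ) * liftAut (cSL g) = liftAut (cSL _) * liftAut (fldSL σ)
  rw [← map_mul, ← map_mul, fldSL_cSL]

/-- the inverse transpose of an element of `GL` -/
def invT (g : GL ι F) : GL ι F :=
  ⟨((g⁻¹ : GL ι F) : Matrix ι ι F)ᵀ, (g : Matrix ι ι F)ᵀ, by
      rw [← transpose_mul, ← Units.val_mul, mul_inv_cancel]; simp, by
      rw [← transpose_mul, ← Units.val_mul, inv_mul_cancel]; simp⟩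

/-- `γ c_g γ⁻¹ = c_{g⁻ᵀ}` -/
lemma gamSL_cSL (g : GL ι F) :
    (gamSL * cSL g : MulAut (SpecialLinearGroup ι F)) = cSL (invT g) * gamSL := by
  apply MulEquiv.ext
  intro s
  apply Subtype.ext
  have h1 : ((cSL g s)⁻¹ : SpecialLinearGroup ι F) = cSL g s⁻¹ := (map_inv (cSL g) s).symm
  change (((cSL g s)⁻¹ : SpecialLinearGroup ι F) : Matrix ι ι F)ᵀ =
    ((invT g : GL ι F) : Matrix ι ι F) * ((s⁻¹ : SpecialLinearGroup ι F) : Matrix ι ι F)ᵀ * (((invT g)⁻¹ : GL ι F) : Matrix ι ι F)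
  rw [h1, cSL_coe, transpose_mul, transpose_mul]
  have h2 : (((invT g)⁻¹ : GL ι F) : Matrix ι ι F) = (g : Matrix ι ι F)ᵀ := rfl
  have h3 : ((invT g : GL ι F) : Matrix ι ι F) = ((g⁻¹ : GL ι F) : Matrix ι ι F)ᵀ := rfl
  rw [h2, h3, Matrix.mul_assoc]

lemma gam_cc (g : GL ι F) :
    (gam * cc g : MulAut (ProjectiveSpecialLinearGroup ι F)) = cc (invT g) * gam := by
  change liftAut gamSL * liftAut (cSL g) = liftAut (cSL _) * liftAut gamSL
  rw [← map_mul, ← map_mul, gamSL_cSL]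

/-! ### Action on root elements -/

lemma mul_vecMulVec_mul (A B : Matrix ι ι F) (v w : ι → F) :
    A * vecMulVec v w * B = vecMulVec (A *ᵥ v) (w ᵥ* B) := by
  rw [Matrix.mul_vecMulVec, Matrix.vecMulVec_mul]

lemma gl_inv_mul (g : GL ι F) : ((g⁻¹ : GL ι F) : Matrix ι ι F) * (g : Matrix ι ι F) = 1 := by
  rw [← Units.val_mul, inv_mul_cancel, Units.val_one]
lemma gl_mul_inv (g : GL ι F) : (g : Matrix ι ι F) * ((g⁻¹ : GL ι F) : Matrix ι ι F) = 1 := by
  rw [← Units.val_mul, mul_inv_cancel, Units.val_one]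

lemma IsRt.cc {x : ProjectiveSpecialLinearGroup ι F} {v w : ι → F} (g : GL ι F) (h : IsRt x v w) :
    IsRt (cc g x) ((g : Matrix ι ι F) *ᵥ v) (w ᵥ* ((g⁻¹ : GL ι F) : Matrix ι ι F)) := by
  obtain ⟨s, hs, rfl⟩ := h
  refine ⟨cSL g s, ?_, rfl⟩
  rw [cSL_coe, hs, tvM, tvM, mul_add, add_mul, mul_one, gl_mul_inv, mul_vecMulVec_mul]

lemma IsRt.fld {x : ProjectiveSpecialLinearGroup ι F} {v w : ι → F} (σ : F ≃+* F) (h : IsRt x v w) :
    IsRt (fld σ x) (fun i => σ (v i)) (fun i => σ (w i)) := by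
  obtain ⟨s, hs, rfl⟩ := h
  refine ⟨fldSL σ s, ?_, rfl⟩
  rw [fldSL_coe, hs, tvM, tvM]
  ext i j
  simp [Matrix.one_apply, vecMulVec_apply]

lemma IsRt.gam {x : ProjectiveSpecialLinearGroup ι F} {v w : ι → F} (h : IsRt x v w) :
    IsRt (gam x) (-w) v := by
  obtain ⟨s, hs, rfl⟩ := h
  refine ⟨gamSL s, ?_, rfl⟩
  have hdot := det_eq_one_of_tvM hs
  have h1 : ((s⁻¹ : SpecialLinearGroup ι F) : Matrix ι ι F) = tvM (-v) w := by
    have : (s⁻¹ : SpecialLinearGroup ι F) = mkT (-v) w (by rw [dotProduct_neg, hdot, neg_zero]) := by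
      apply inv_eq_of_mul_eq_one_left
      apply Subtype.ext
      change tvM (-v) w * (s : Matrix ι ι F) = 1
      rw [hs, tvM_mul, hdot, zero_smul, add_zero]
      have : vecMulVec (-v) w = - vecMulVec v w := by
        ext i j
        simp [vecMulVec_apply]
      rw [this]
      abel
    rw [this]
    rfl
  rw [gamSL_coe, h1, tvM, tvM]
  ext i j
  simp only [transpose_apply, Matrix.add_apply, Matrix.one_apply, vecMulVec_apply, Pi.neg_apply, neg_mul]
  simp only [eq_comm (a := j) (b := i)]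
  ring

lemma cc_RG (g : GL ι F) (v w : ι → F) :
    (cc g) '' RG v w = RG ((g : Matrix ι ι F) *ᵥ v) (w ᵥ* ((g⁻¹ : GL ι F) : Matrix ι ι F)) := by
  ext y
  constructor
  · rintro ⟨x, ⟨t, ht⟩, rfl⟩
    refine ⟨t, ?_⟩
    have := ht.cc g
    rwa [mulVec_smul] at this
  · rintro ⟨t, ht⟩
    refine ⟨cc g⁻¹ y, ⟨t, ?_⟩, ?_⟩
    · have := ht.cc g⁻¹
      rw [mulVec_smul, mulVec_mulVec, gl_inv_mul, one_mulVec, vecMul_vecMul, inv_inv, gl_inv_mul, vecMul_one] at this
      exact this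
    · change (cc g * cc g⁻¹) y = y
      rw [← map_mul, mul_inv_cancel, map_one]
      rfl

lemma Flag.cc {v w : ι → F} (h : Flag v w) (g : GL ι F) :
    Flag ((g : Matrix ι ι F) *ᵥ v) (w ᵥ* ((g⁻¹ : GL ι F) : Matrix ι ι F)) := by
  refine ⟨?_, ?_, ?_⟩
  · intro h0
    apply h.left
    have := congrArg (fun u => ((g⁻¹ : GL ι F) : Matrix ι ι F) *ᵥ u) h0
    simpa only [mulVec_mulVec, gl_inv_mul, one_mulVec, mulVec_zero] using this
  · intro h0
    apply h.right
    have := congrArg (fun u => u ᵥ* (g : Matrix ι ι F)) h0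
    simpa only [vecMul_vecMul, gl_inv_mul, vecMul_one, zero_vecMul] using this
  · rw [← dotProduct_mulVec, mulVec_mulVec, gl_inv_mul, one_mulVec]
    exact h.dot

lemma IsRt.congr' {x : ProjectiveSpecialLinearGroup ι F} {v w v' w' : ι → F} (h : IsRt x v w)
    (he : vecMulVec v w = vecMulVec v' w') : IsRt x v' w' := by
  obtain ⟨s, hs, hx⟩ := h
  exact ⟨s, by rw [hs, tvM, tvM, he], hx⟩

/-- the image of `RG` under `γ` -/
lemma gam_RG (v w : ι → F) : gam '' RG v w = RG w v := by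
  ext y
  constructor
  · rintro ⟨x, ⟨t, ht⟩, rfl⟩
    refine ⟨-t, ht.gam.congr' ?_⟩
    ext i j
    simp [vecMulVec_apply]
    ring
  · rintro ⟨t, ht⟩
    refine ⟨gam y, ⟨-t, ht.gam.congr' ?_⟩, ?_⟩
    · ext i j
      simp [vecMulVec_apply]
      ring
    · change ((gam * gam : MulAut (ProjectiveSpecialLinearGroup ι F)) y = y)
      rw [gam_sq]
      rfl

lemma fld_RG (σ : F ≃+* F) (v w : ι → F) :
    fld σ '' RG v w = RG (fun i => σ (v i)) (fun i => σ (w i)) := by
  ext y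
  constructor
  · rintro ⟨x, ⟨t, ht⟩, rfl⟩
    refine ⟨σ t, (ht.fld σ).congr' ?_⟩
    ext i j
    simp [vecMulVec_apply]
  · rintro ⟨t, ht⟩
    refine ⟨fld σ⁻¹ y, ⟨σ.symm t, (ht.fld σ⁻¹).congr' ?_⟩, ?_⟩
    · ext i j
      have e : ∀ a : F, (σ⁻¹ : F ≃+* F) (σ a) = a := fun a => σ.symm_apply_apply a
      have e2 : (σ⁻¹ : F ≃+* F) t = σ.symm t := rfl
      simp only [vecMulVec_apply, Pi.smul_apply, smul_eq_mul, map_mul, e, e2]
    · change ((fld σ * fld σ⁻¹ : MulAut (ProjectiveSpecialLinearGroup ι F)) y = y)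
      rw [← map_mul, mul_inv_cancel, map_one]
      rfl

/-! ### Separation and transitivity -/

lemma exists_dot_of_not_par {v v' : ι → F} (hv : v ≠ 0) (hn : ∀ c : F, v' ≠ c • v) (a b : F) :
    ∃ x : ι → F, x ⬝ᵥ v = a ∧ x ⬝ᵥ v' = b := by
  obtain ⟨i, hi⟩ : ∃ i, v i ≠ 0 := by
    by_contra hcon
    push Not at hcon
    exact hv (funext hcon)
  have h1 : v' - (v' i / v i) • v ≠ 0 := by
    intro h0
    exact hn (v' i / v i) (sub_eq_zero.mp h0)
  obtain ⟨j, hj⟩ : ∃ j, (v' - (v' i / v i) • v) j ≠ 0 := by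
    by_contra hcon
    push Not at hcon
    exact h1 (funext hcon)
  have hD : v i * v' j - v j * v' i ≠ 0 := by
    intro h0
    apply hj
    simp only [Pi.sub_apply, Pi.smul_apply, smul_eq_mul]
    field_simp
    linear_combination h0
  refine ⟨((a * v' j - b * v j) / (v i * v' j - v j * v' i)) • Pi.single i 1 +
      ((b * v i - a * v' i) / (v i * v' j - v j * v' i)) • Pi.single j 1, ?_, ?_⟩
  · simp only [add_dotProduct, smul_dotProduct, single_one_dotProduct, smul_eq_mul]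
    rw [div_mul_eq_mul_div, div_mul_eq_mul_div, ← add_div, div_eq_iff hD]
    ring
  · simp only [add_dotProduct, smul_dotProduct, single_one_dotProduct, smul_eq_mul]
    rw [div_mul_eq_mul_div, div_mul_eq_mul_div, ← add_div, div_eq_iff hD]
    ring

lemma tvM_mulVec (a b v : ι → F) : tvM a b *ᵥ v = v + (b ⬝ᵥ v) • a := by
  rw [tvM, add_mulVec, one_mulVec, vecMulVec_mulVec]
  congr 1
  ext i
  simp [mul_comm]

lemma vecMul_tvM (a b w : ι → F) : w ᵥ* tvM a b = w + (w ⬝ᵥ a) • b := by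
  rw [tvM, vecMul_add, vecMul_one, vecMul_vecMulVec]

lemma mkT_inv (a b : ι → F) (h : b ⬝ᵥ a = 0) :
    (mkT a b h)⁻¹ = mkT (-a) b (by rw [dotProduct_neg, h, neg_zero]) := by
  apply inv_eq_of_mul_eq_one_left
  apply Subtype.ext
  change tvM (-a) b * tvM a b = 1
  rw [tvM_mul, h, zero_smul, add_zero]
  have : vecMulVec (-a) b = - vecMulVec a b := by
    ext i j
    simp [vecMulVec_apply]
  rw [this]
  abel

/-- `SL` is transitive on non-zero vectors, first step -/
lemma exists_SL_vec_aux {v v' : ι → F} (hv : v ≠ 0) (hn : ∀ c : F, v' ≠ c • v) :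
    ∃ s : SpecialLinearGroup ι F, (s : Matrix ι ι F) *ᵥ v = v' := by
  obtain ⟨b, hb, hb'⟩ := exists_dot_of_not_par hv hn 1 1
  have hd : b ⬝ᵥ (v' - v) = 0 := by
    rw [dotProduct_sub, hb, hb', sub_self]
  refine ⟨mkT (v' - v) b hd, ?_⟩
  rw [mkT_coe, tvM_mulVec, hb, one_smul]
  abel

lemma exists_SL_vec [Nontrivial ι] {v v' : ι → F} (hv : v ≠ 0) (hv' : v' ≠ 0) :
    ∃ s : SpecialLinearGroup ι F, (s : Matrix ι ι F) *ᵥ v = v' := by
  by_cases hn : ∀ c : F, v' ≠ c • v
  · exact exists_SL_vec_aux hv hn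
  push Not at hn
  obtain ⟨c, hc⟩ := hn
  obtain ⟨i, hi⟩ : ∃ i, v i ≠ 0 := by
    by_contra hcon
    push Not at hcon
    exact hv (funext hcon)
  obtain ⟨j, hj⟩ := exists_ne i
  have hc0 : c ≠ 0 := by
    rintro rfl
    rw [zero_smul] at hc
    exact hv' hc
  have h1 : ∀ d : F, (Pi.single j 1 : ι → F) ≠ d • v := by
    intro d h
    have h2 := congrFun h i
    simp only [Pi.single_apply, if_neg (Ne.symm hj), Pi.smul_apply, smul_eq_mul] at h2
    have hd : d = 0 := by
      rcases mul_eq_zero.mp h2.symm with h | h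
      · exact h
      · exact absurd h hi
    rw [hd, zero_smul] at h
    have h3 := congrFun h j
    simp at h3
  have he : (Pi.single j 1 : ι → F) ≠ 0 := by
    intro h
    have h3 := congrFun h j
    simp at h3
  have h2 : ∀ d : F, v' ≠ d • (Pi.single j 1 : ι → F) := by
    intro d h
    have h3 := congrFun h i
    rw [hc] at h3
    simp only [Pi.smul_apply, smul_eq_mul, Pi.single_apply, if_neg (Ne.symm hj), mul_zero] at h3
    exact (mul_ne_zero hc0 hi) h3
  obtain ⟨s₁, hs₁⟩ := exists_SL_vec_aux hv h1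
  obtain ⟨s₂, hs₂⟩ := exists_SL_vec_aux he h2
  refine ⟨s₂ * s₁, ?_⟩
  rw [Matrix.SpecialLinearGroup.coe_mul, ← mulVec_mulVec, hs₁, hs₂]

/-- the stabiliser of a vector is transitive on the lines in the annihilator -/
lemma exists_SL_cov {v w w' : ι → F} (hw : w ≠ 0) (h1 : w ⬝ᵥ v = 0) (h2 : w' ⬝ᵥ v = 0) (hw' : w' ≠ 0) :
    ∃ s : SpecialLinearGroup ι F, (s : Matrix ι ι F) *ᵥ v = v ∧
      Par (w ᵥ* ((s⁻¹ : SpecialLinearGroup ι F) : Matrix ι ι F)) w' := by
  by_cases hn : ∀ c : F, w' ≠ c • w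
  · obtain ⟨a, ha, ha'⟩ := exists_dot_of_not_par hw hn 1 1
    have ha1 : w ⬝ᵥ a = 1 := by rw [dotProduct_comm]; exact ha
    have ha2 : w' ⬝ᵥ a = 1 := by rw [dotProduct_comm]; exact ha'
    have hd : (w - w') ⬝ᵥ a = 0 := by
      rw [sub_dotProduct, ha1, ha2, sub_self]
    refine ⟨mkT a (w - w') hd, ?_, ?_⟩
    · rw [mkT_coe, tvM_mulVec, sub_dotProduct, h1, h2, sub_self, zero_smul, add_zero]
    · rw [mkT_inv, mkT_coe, vecMul_tvM, dotProduct_neg, ha1]
      refine ⟨1, one_ne_zero, ?_⟩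
      rw [one_smul, neg_smul, one_smul, sub_eq_add_neg, neg_add, neg_neg]
      abel
  · push Not at hn
    obtain ⟨c, hc⟩ := hn
    have hc0 : c ≠ 0 := by
      rintro rfl
      rw [zero_smul] at hc
      exact hw' hc
    refine ⟨1, by simp, ?_⟩
    simp only [inv_one, Matrix.SpecialLinearGroup.coe_one, vecMul_one]
    exact ⟨c, hc0, hc⟩

/-- `SL` is transitive on flags -/
lemma exists_flag_map [Nontrivial ι] {v w v' w' : ι → F} (h : Flag v w) (h' : Flag v' w') :
    ∃ s : SpecialLinearGroup ι F, (s : Matrix ι ι F) *ᵥ v = v' ∧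
      Par (w ᵥ* ((s⁻¹ : SpecialLinearGroup ι F) : Matrix ι ι F)) w' := by
  obtain ⟨s₁, hs₁⟩ := exists_SL_vec h.left h'.left
  have hinv : ((s₁⁻¹ : SpecialLinearGroup ι F) : Matrix ι ι F) * (s₁ : Matrix ι ι F) = 1 := coe_inv_mul' s₁
  have hw1 : w ᵥ* ((s₁⁻¹ : SpecialLinearGroup ι F) : Matrix ι ι F) ≠ 0 := by
    intro h0
    apply h.right
    have := congrArg (fun u => u ᵥ* (s₁ : Matrix ι ι F)) h0
    simpa only [vecMul_vecMul, hinv, vecMul_one, zero_vecMul] using this
  have hd1 : (w ᵥ* ((s₁⁻¹ : SpecialLinearGroup ι F) : Matrix ι ι F)) ⬝ᵥ v' = 0 := by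
    rw [← hs₁, ← dotProduct_mulVec, mulVec_mulVec, hinv, one_mulVec]
    exact h.dot
  obtain ⟨s₂, hs₂, hp⟩ := exists_SL_cov hw1 hd1 h'.dot h'.right
  refine ⟨s₂ * s₁, ?_, ?_⟩
  · rw [Matrix.SpecialLinearGroup.coe_mul, ← mulVec_mulVec, hs₁, hs₂]
  · rw [vecMul_vecMul] at hp
    rw [_root_.mul_inv_rev, Matrix.SpecialLinearGroup.coe_mul]
    exact hp

/-! ### Adjacency of root groups -/

/-- `x` is the class of a transvection or trivial -/
def IsRE (x : ProjectiveSpecialLinearGroup ι F) : Prop := ∃ v w, IsRt x v w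

/-- commuting with root-element products -/
def Adj (A B : Set (ProjectiveSpecialLinearGroup ι F)) : Prop :=
  ∀ a ∈ A, ∀ b ∈ B, a * b = b * a ∧ IsRE (a * b)

lemma commute_of_pr [Nonempty ι] {s s' : SpecialLinearGroup ι F} (hs' : IsUni (s' : Matrix ι ι F))
    (h : pr ι F s * pr ι F s' = pr ι F s' * pr ι F s) : s * s' = s' * s := by
  have h1 : pr ι F (s * s' * s⁻¹) = pr ι F s' := by
    rw [map_mul, map_mul, h, map_inv]
    group
  have h2 : IsUni ((s * s' * s⁻¹ : SpecialLinearGroup ι F) : Matrix ι ι F) := by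
    rw [Matrix.SpecialLinearGroup.coe_mul, Matrix.SpecialLinearGroup.coe_mul]
    exact isUni_conj hs' _ _ (coe_inv_mul' s)
  have h3 := eq_of_uni h2 hs' h1
  calc s * s' = (s * s' * s⁻¹) * s := by group
    _ = s' * s := by rw [h3]

/-- commuting root elements have vanishing cross pairings -/
lemma dots_of_commute [Nonempty ι] {x y : ProjectiveSpecialLinearGroup ι F} {v w v' w' : ι → F}
    (hx : IsRt x v w) (hy : IsRt y v' w') (hv : v ≠ 0) (hw : w ≠ 0) (hv' : v' ≠ 0) (hw' : w' ≠ 0)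
    (hc : x * y = y * x) : w ⬝ᵥ v' = 0 ∧ w' ⬝ᵥ v = 0 := by
  obtain ⟨s, hs, rfl⟩ := hx
  obtain ⟨s', hs', rfl⟩ := hy
  have h1 := commute_of_pr (isUni_of_tvM hs') hc
  have h2 : (s : Matrix ι ι F) * (s' : Matrix ι ι F) = (s' : Matrix ι ι F) * (s : Matrix ι ι F) := by
    have := congrArg (fun x : SpecialLinearGroup ι F => (x : Matrix ι ι F)) h1
    simpa only [Matrix.SpecialLinearGroup.coe_mul] using this
  rw [hs, hs', tvM_mul, tvM_mul] at h2
  have h3 : (w ⬝ᵥ v') • vecMulVec v w' = (w' ⬝ᵥ v) • vecMulVec v' w := by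
    have h4 : (1 + vecMulVec v w + vecMulVec v' w') + (w ⬝ᵥ v') • vecMulVec v w' =
        (1 + vecMulVec v w + vecMulVec v' w') + (w' ⬝ᵥ v) • vecMulVec v' w := by
      rw [h2]
      abel
    exact add_left_cancel h4
  have hdot := det_eq_one_of_tvM hs
  have hne : ∀ {a b : ι → F}, a ≠ 0 → b ≠ 0 → vecMulVec a b ≠ 0 := by
    intro a b ha hb h0
    obtain ⟨i, hi⟩ : ∃ i, a i ≠ 0 := by
      by_contra hcon
      push Not at hcon
      exact ha (funext hcon)
    obtain ⟨j, hj⟩ : ∃ j, b j ≠ 0 := by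
      by_contra hcon
      push Not at hcon
      exact hb (funext hcon)
    have := congrFun (congrFun h0 i) j
    simp [vecMulVec_apply, hi, hj] at this
  have key : w ⬝ᵥ v' = 0 := by
    by_contra ha
    have h5 : vecMulVec v w' = vecMulVec (((w' ⬝ᵥ v) / (w ⬝ᵥ v')) • v') w := by
      ext i j
      have := congrFun (congrFun h3 i) j
      simp only [Matrix.smul_apply, smul_eq_mul, vecMulVec_apply, Pi.smul_apply] at this ⊢
      field_simp
      linear_combination this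
    obtain ⟨c, hc0, hc1, hc2⟩ := vecMulVec_eq_imp hv hw' h5
    -- `v'` is a multiple of `v`
    have hb : (w' ⬝ᵥ v) / (w ⬝ᵥ v') ≠ 0 := by
      intro hb0
      rw [hb0, zero_smul] at hc1
      exact hv (by
        have := hc1.symm
        exact (smul_eq_zero.mp this).resolve_left hc0)
    have h6 : v' = (((w' ⬝ᵥ v) / (w ⬝ᵥ v'))⁻¹ * c) • v := by
      rw [← smul_smul, ← hc1, smul_smul, inv_mul_cancel₀ hb, one_smul]
    apply ha
    rw [h6, dotProduct_smul, hdot, smul_zero]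
  refine ⟨key, ?_⟩
  rw [key, zero_smul] at h3
  have h7 := h3.symm
  rcases smul_eq_zero.mp h7 with h8 | h8
  · exact h8
  · exact absurd h8 (hne hv' hw)

lemma commute_of_dots {x y : ProjectiveSpecialLinearGroup ι F} {v w v' w' : ι → F}
    (hx : IsRt x v w) (hy : IsRt y v' w') (h1 : w ⬝ᵥ v' = 0) (h2 : w' ⬝ᵥ v = 0) : x * y = y * x := by
  obtain ⟨s, hs, rfl⟩ := hx
  obtain ⟨s', hs', rfl⟩ := hy
  rw [← map_mul, ← map_mul]
  congr 1
  apply Subtype.ext
  change (s : Matrix ι ι F) * (s' : Matrix ι ι F) = (s' : Matrix ι ι F) * (s : Matrix ι ι F)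
  rw [hs, hs', tvM_mul, tvM_mul, h1, h2, zero_smul, zero_smul, add_zero, add_zero]
  abel

lemma isRt_mul {x y : ProjectiveSpecialLinearGroup ι F} {v w v' w' : ι → F}
    (hx : IsRt x v w) (hy : IsRt y v' w') (h1 : w ⬝ᵥ v' = 0) :
    ∃ s : SpecialLinearGroup ι F, (s : Matrix ι ι F) = 1 + vecMulVec v w + vecMulVec v' w' ∧ pr ι F s = x * y := by
  obtain ⟨s, hs, rfl⟩ := hx
  obtain ⟨s', hs', rfl⟩ := hy
  refine ⟨s * s', ?_, map_mul _ _ _⟩
  rw [Matrix.SpecialLinearGroup.coe_mul, hs, hs', tvM_mul, h1, zero_smul, add_zero]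

/-- adjacency of root groups -/
lemma adj_iff [Nonempty ι] {v w v' w' : ι → F} (h : Flag v w) (h' : Flag v' w') :
    Adj (RG v w) (RG v' w') ↔ Par v v' ∨ Par w w' := by
  constructor
  · intro hadj
    obtain ⟨x, hx⟩ : ∃ x : ProjectiveSpecialLinearGroup ι F, IsRt x v w := exists_isRt h.dot
    obtain ⟨y, hy⟩ : ∃ x : ProjectiveSpecialLinearGroup ι F, IsRt x v' w' := exists_isRt h'.dot
    obtain ⟨hc, v₂, w₂, hz⟩ := hadj x (mem_RG_of_isRt hx) y (mem_RG_of_isRt hy)
    obtain ⟨h1, h2⟩ := dots_of_commute hx hy h.left h.right h'.left h'.right hc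
    obtain ⟨s, hs, hpr⟩ := isRt_mul hx hy h1
    obtain ⟨s₂, hs₂, hpr₂⟩ := hz
    have hu : IsUni (s : Matrix ι ι F) := by
      rw [hs]
      unfold IsUni
      have e : (1 + vecMulVec v w + vecMulVec v' w' - 1 : Matrix ι ι F) = vecMulVec v w + vecMulVec v' w' := by abel
      rw [e]
      simp only [mul_add, add_mul, vecMulVec_mul_vecMulVec', h.dot, h'.dot, h1, h2, zero_smul, add_zero]
    have heq : s = s₂ := eq_of_uni hu (isUni_of_tvM hs₂) (hpr.trans hpr₂.symm)
    subst heq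
    have h3 : vecMulVec v w + vecMulVec v' w' = vecMulVec v₂ w₂ := by
      have := hs.symm.trans hs₂
      rw [tvM, add_assoc] at this
      exact add_left_cancel this
    by_contra hcon
    push Not at hcon
    obtain ⟨hn1, hn2⟩ := hcon
    have hnv : ∀ c : F, v' ≠ c • v := by
      intro c hc'
      apply hn1
      refine ⟨c, ?_, hc'⟩
      rintro rfl
      rw [zero_smul] at hc'
      exact h'.left hc'
    obtain ⟨a, ha, ha'⟩ := exists_dot_of_not_par h.left hnv 0 1
    obtain ⟨b, hb, hb'⟩ := exists_dot_of_not_par h.left hnv 1 0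
    have e1 : w' = (a ⬝ᵥ v₂) • w₂ := by
      have := congrArg (fun M => a ᵥ* M) h3
      simp only [vecMul_add, vecMul_vecMulVec, ha, ha', zero_smul, zero_add, one_smul] at this
      exact this
    have e2 : w = (b ⬝ᵥ v₂) • w₂ := by
      have := congrArg (fun M => b ᵥ* M) h3
      simp only [vecMul_add, vecMul_vecMulVec, hb, hb', zero_smul, add_zero, one_smul] at this
      exact this
    apply hn2
    have hb0 : b ⬝ᵥ v₂ ≠ 0 := by
      intro h0
      rw [h0, zero_smul] at e2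
      exact h.right e2
    have ha0 : a ⬝ᵥ v₂ ≠ 0 := by
      intro h0
      rw [h0, zero_smul] at e1
      exact h'.right e1
    refine ⟨(a ⬝ᵥ v₂) * (b ⬝ᵥ v₂)⁻¹, mul_ne_zero ha0 (inv_ne_zero hb0), ?_⟩
    rw [e1, e2, smul_smul, mul_assoc, inv_mul_cancel₀ hb0, mul_one]
  · rintro (hp | hp)
    · obtain ⟨c, hc, rfl⟩ := hp
      rintro a ⟨t, ht⟩ b ⟨u, hu⟩
      have h1 : w ⬝ᵥ u • c • v = 0 := by
        rw [dotProduct_smul, dotProduct_smul, h.dot, smul_zero, smul_zero]
      have hd' : w' ⬝ᵥ v = 0 := by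
        have := h'.dot
        rw [dotProduct_smul] at this
        exact (smul_eq_zero.mp this).resolve_left hc
      have h2 : w' ⬝ᵥ t • v = 0 := by
        rw [dotProduct_smul, hd', smul_zero]
      refine ⟨commute_of_dots ht hu h1 h2, ?_⟩
      obtain ⟨s, hs, hpr⟩ := isRt_mul ht hu h1
      refine ⟨v, t • w + (u * c) • w', s, ?_, hpr⟩
      rw [hs, tvM]
      ext i j
      simp [vecMulVec_apply]
      ring
    · obtain ⟨c, hc, rfl⟩ := hp
      rintro a ⟨t, ht⟩ b ⟨u, hu⟩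
      have h1 : w ⬝ᵥ u • v' = 0 := by
        have := h'.dot
        rw [smul_dotProduct] at this
        have h3 := (smul_eq_zero.mp this).resolve_left hc
        rw [dotProduct_smul, h3, smul_zero]
      have h2 : (c • w) ⬝ᵥ t • v = 0 := by
        rw [smul_dotProduct, dotProduct_smul, h.dot, smul_zero, smul_zero]
      refine ⟨commute_of_dots ht hu h1 h2, ?_⟩
      obtain ⟨s, hs, hpr⟩ := isRt_mul ht hu h1
      refine ⟨t • v + (u * c) • v', w, s, ?_, hpr⟩
      rw [hs, tvM]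
      ext i j
      simp [vecMulVec_apply]
      ring

lemma IsRE.one : IsRE (1 : ProjectiveSpecialLinearGroup ι F) := ⟨0, 0, isRt_one 0⟩

end Cfsg.Agent.Lead.AutPSL
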