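import Cfsg.Agent.Lib.Lead.AutPSLStab
/-! Every automorphism of `PSL_n(F)` is semilinear, up to the inverse transpose. -/
set_option autoImplicit false
set_option linter.style.haveILetI false
set_option linter.unusedSimpArgs false
set_option linter.unusedSectionVars false
set_option linter.unusedVariables false
namespace Cfsg.Agent.Lead.AutPSL
open Matrix Matrix.SpecialLinearGroup
open scoped MatrixGroups

variable {F : Type*} [Field F] {n : ℕ}

lemma Flag.of_par {ι : Type*} [DecidableEq ι] [Fintype ι] {a b a' b' : ι → F} (h : Flag a b) (ha : Par a a') (hb : Par b b') : Flag a' b' := by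
  obtain ⟨c, hc, rfl⟩ := ha
  obtain ⟨d, hd, rfl⟩ := hb
  refine ⟨smul_ne_zero hc h.left, smul_ne_zero hd h.right, ?_⟩
  rw [smul_dotProduct, dotProduct_smul, h.dot, smul_zero, smul_zero]

/-- coordinates -/
theorem coord_thm (hn : 2 ≤ n) [Finite F] (α : MulAut (ProjectiveSpecialLinearGroup (Fin n) F))
    (v ψ : Fin n → Fin n → F) (hv : ∀ i, v i ≠ 0) (hψ : ∀ j, ψ j ≠ 0)
    (hd : ∀ i j, i ≠ j → ψ j ⬝ᵥ v i = 0) (hdd : ∀ j, ψ j ⬝ᵥ v j ≠ 0)
    (him : ∀ i j (_ : i ≠ j), α '' RG (ee F i) (ee F j) = RG (v i) (ψ j)) :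
    ∃ (D : GL (Fin n) F) (σ : F ≃+* F), α = cc D * fld σ := by
  classical
  haveI : Nonempty (Fin n) := ⟨⟨0, by omega⟩⟩
  haveI : Nontrivial (Fin n) := ⟨⟨⟨0, by omega⟩, ⟨1, by omega⟩, by simp [Fin.ext_iff]⟩⟩
  let M : Matrix (Fin n) (Fin n) F := Matrix.of fun r c => v c r
  let N : Matrix (Fin n) (Fin n) F := Matrix.of fun r c => ψ r c
  have hNM : N * M = diagonal (fun j => ψ j ⬝ᵥ v j) := by
    ext r c
    simp only [Matrix.mul_apply, N, M, Matrix.of_apply]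
    by_cases hrc : r = c
    · subst hrc
      simp [dotProduct]
    · rw [diagonal_apply_ne _ hrc]
      exact hd c r (Ne.symm hrc)
  have hdet : M.det ≠ 0 := by
    intro h0
    have h1 : (N * M).det = 0 := by rw [det_mul, h0, mul_zero]
    rw [hNM, det_diagonal] at h1
    obtain ⟨j, -, hj⟩ := Finset.prod_eq_zero_iff.mp h1
    exact hdd j hj
  let g : GL (Fin n) F := Matrix.GeneralLinearGroup.mkOfDetNeZero M hdet
  have hgM : (g : Matrix (Fin n) (Fin n) F) = M := rfl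
  have hge : ∀ i, (g : Matrix (Fin n) (Fin n) F) *ᵥ ee F i = v i := by
    intro i
    rw [hgM]
    ext r
    simp [M, Matrix.mulVec_single_one]
  have hψg : ∀ j, ψ j ᵥ* (g : Matrix (Fin n) (Fin n) F) = (ψ j ⬝ᵥ v j) • ee F j := by
    intro j
    rw [hgM]
    ext c
    have h1 := congrFun (congrFun hNM j) c
    simp only [Matrix.mul_apply, N, M, Matrix.of_apply] at h1
    change ∑ x, ψ j x * v c x = ((ψ j ⬝ᵥ v j) • ee F j) c
    rw [h1]
    by_cases hjc : j = c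
    · subst hjc; simp [dotProduct]
    · rw [diagonal_apply_ne _ hjc]; simp [hjc, Ne.symm hjc]
  -- `β = c_g⁻¹ α` stabilises the root groups
  have hX : ∀ i j (h : i ≠ j), (cc g⁻¹ * α) '' RG (ee F i) (ee F j) = RG (ee F i) (ee F j) := by
    intro i j h
    have h1 : (cc g⁻¹ * α) '' RG (ee F i) (ee F j) = cc g⁻¹ '' (α '' RG (ee F i) (ee F j)) := by
      rw [Set.image_image]
      rfl
    rw [h1, him i j h, cc_RG, inv_inv]
    have h2 : ((g⁻¹ : GL (Fin n) F) : Matrix (Fin n) (Fin n) F) *ᵥ v i = ee F i := by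
      rw [← hge i, mulVec_mulVec, gl_inv_mul, one_mulVec]
    rw [h2, hψg]
    exact RG_eq_of_par (Par.refl' _) (Par.symm' ⟨_, hdd j, rfl⟩)
  have hS : Stab (cc g⁻¹ * α) := by
    intro i j h t
    have h1 : (cc g⁻¹ * α) (xx h t) ∈ (cc g⁻¹ * α) '' RG (ee F i) (ee F j) := ⟨_, ⟨t, isRt_xx h t⟩, rfl⟩
    rw [hX i j h] at h1
    obtain ⟨t', ht'⟩ := (mem_X_iff h).mp h1
    exact ⟨t', ht'⟩
  obtain ⟨D, σ, hDσ⟩ := stab_all hn hS
  refine ⟨g * D, σ, ?_⟩
  rw [map_mul, mul_assoc, ← hDσ, map_inv, mul_inv_cancel_left]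

/-! ### Images of root groups -/

section Image

variable {m : ℕ} [Fintype F] {p f : ℕ} [Fact p.Prime]

local notation "V" => Fin (m + 2) → F
local notation "G" => ProjectiveSpecialLinearGroup (Fin (m + 2)) F

/-- the image relation -/
def Im (α : MulAut G) (v w a b : V) : Prop := Flag a b ∧ α '' RG v w = RG a b

lemma IsRE.image (hq : Fintype.card F = p ^ f) (hf : 1 ≤ f) (α : MulAut G) {x : G} (h : IsRE x) : IsRE (α x) := by
  obtain ⟨v, w, hx⟩ := h
  by_cases hv : v = 0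
  · subst hv
    obtain ⟨s, hs, rfl⟩ := hx
    have : s = 1 := by
      apply Subtype.ext
      rw [hs, tvM_zero_left]
      rfl
    subst this
    rw [map_one, map_one]
    exact IsRE.one
  by_cases hw : w = 0
  · subst hw
    obtain ⟨s, hs, rfl⟩ := hx
    have : s = 1 := by
      apply Subtype.ext
      rw [hs, tvM]
      simp
    subst this
    rw [map_one, map_one]
    exact IsRE.one
  have hd : w ⬝ᵥ v = 0 := by
    obtain ⟨s, hs, -⟩ := hx
    exact det_eq_one_of_tvM hs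
  obtain ⟨a, b, hab, himg⟩ := image_RG hq hf α (⟨hv, hw, hd⟩ : Flag v w)
  have h1 : α x ∈ α '' RG v w := ⟨x, mem_RG_of_isRt hx, rfl⟩
  rw [himg] at h1
  obtain ⟨t, ht⟩ := h1
  exact ⟨_, _, ht⟩

lemma adj_image (hq : Fintype.card F = p ^ f) (hf : 1 ≤ f) (α : MulAut G) {A B : Set G} (h : Adj A B) :
    Adj (α '' A) (α '' B) := by
  rintro _ ⟨a, ha, rfl⟩ _ ⟨b, hb, rfl⟩
  obtain ⟨h1, h2⟩ := h a ha b hb
  refine ⟨by rw [← map_mul, ← map_mul, h1], ?_⟩
  rw [← map_mul]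
  exact h2.image hq hf α

lemma adj_image_iff (hq : Fintype.card F = p ^ f) (hf : 1 ≤ f) (α : MulAut G) {A B : Set G} :
    Adj (α '' A) (α '' B) ↔ Adj A B := by
  refine ⟨fun h => ?_, adj_image hq hf α⟩
  have := adj_image hq hf α⁻¹ h
  have e : ∀ S : Set G, (⇑(α⁻¹ : MulAut G)) '' (α '' S) = S := by
    intro S
    rw [Set.image_image]
    simp
  rwa [e, e] at this

/-- images of adjacent flags are adjacent -/
lemma im_adj (hq : Fintype.card F = p ^ f) (hf : 1 ≤ f) {α : MulAut G} {v₁ w₁ a₁ b₁ v₂ w₂ a₂ b₂ : V}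
    (h₁ : Flag v₁ w₁) (h₂ : Flag v₂ w₂) (i₁ : Im α v₁ w₁ a₁ b₁) (i₂ : Im α v₂ w₂ a₂ b₂) :
    (Par v₁ v₂ ∨ Par w₁ w₂) ↔ (Par a₁ a₂ ∨ Par b₁ b₂) := by
  rw [← adj_iff h₁ h₂, ← adj_iff i₁.1 i₂.1, ← i₁.2, ← i₂.2, adj_image_iff hq hf]

/-- images of distinct flags are distinct -/
lemma im_ne {α : MulAut G} {v₁ w₁ a₁ b₁ v₂ w₂ a₂ b₂ : V}
    (h₁ : Flag v₁ w₁) (h₂ : Flag v₂ w₂) (i₁ : Im α v₁ w₁ a₁ b₁) (i₂ : Im α v₂ w₂ a₂ b₂)
    (ha : Par a₁ a₂) (hb : Par b₁ b₂) : Par v₁ v₂ ∧ Par w₁ w₂ := by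
  apply par_of_RG_eq h₁ h₂
  have h3 : α '' RG v₁ w₁ = α '' RG v₂ w₂ := by
    rw [i₁.2, i₂.2]
    exact RG_eq_of_par ha hb
  exact (Set.image_injective.mpr α.injective) h3

lemma im_unique {α : MulAut G} {v w a b a' b' : V} (i₁ : Im α v w a b) (i₂ : Im α v w a' b') :
    Par a a' ∧ Par b b' :=
  par_of_RG_eq i₁.1 i₂.1 (i₁.2.symm.trans i₂.2)

end Image

/-- the clique dichotomy -/
lemma clique_dich {ι S : Type*} [DecidableEq ι] [Fintype ι] (a b : S → ι → F)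
    (h : ∀ i j, Par (a i) (a j) ∨ Par (b i) (b j)) :
    (∀ i j, Par (a i) (a j)) ∨ (∀ i j, Par (b i) (b j)) := by
  by_cases hC : ∀ i j, Par (a i) (a j)
  · exact Or.inl hC
  push Not at hC
  obtain ⟨x, y, hxy⟩ := hC
  have hbxy : Par (b x) (b y) := (h x y).resolve_left hxy
  have key : ∀ z, Par (b z) (b x) := by
    intro z
    by_cases hz : Par (a z) (a x)
    · have h1 : ¬ Par (a z) (a y) := fun h2 => hxy (hz.symm'.trans' h2)
      exact ((h z y).resolve_left h1).trans' hbxy.symm'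
    · exact (h z x).resolve_left hz
  exact Or.inr fun i j => (key i).trans' (key j).symm'

section TypeArg

variable {m : ℕ} [Fintype F] {p f : ℕ} [Fact p.Prime]

local notation "V" => Fin (m + 2) → F
local notation "G" => ProjectiveSpecialLinearGroup (Fin (m + 2)) F

/-- images of the star of `v` have a common centre -/
def CC (α : MulAut G) (v : V) : Prop :=
  ∀ w₁ w₂ a₁ b₁ a₂ b₂, Flag v w₁ → Flag v w₂ → Im α v w₁ a₁ b₁ → Im α v w₂ a₂ b₂ → Par a₁ a₂
/-- images of the star of `v` have a common axis -/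
def AA (α : MulAut G) (v : V) : Prop :=
  ∀ w₁ w₂ a₁ b₁ a₂ b₂, Flag v w₁ → Flag v w₂ → Im α v w₁ a₁ b₁ → Im α v w₂ a₂ b₂ → Par b₁ b₂
/-- images of the costar of `w` have a common centre -/
def CC' (α : MulAut G) (w : V) : Prop :=
  ∀ v₁ v₂ a₁ b₁ a₂ b₂, Flag v₁ w → Flag v₂ w → Im α v₁ w a₁ b₁ → Im α v₂ w a₂ b₂ → Par a₁ a₂
/-- images of the costar of `w` have a common axis -/
def AA' (α : MulAut G) (w : V) : Prop :=
  ∀ v₁ v₂ a₁ b₁ a₂ b₂, Flag v₁ w → Flag v₂ w → Im α v₁ w a₁ b₁ → Im α v₂ w a₂ b₂ → Par b₁ b₂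

lemma star_dich (hq : Fintype.card F = p ^ f) (hf : 1 ≤ f) (α : MulAut G) (v : V) : CC α v ∨ AA α v := by
  let S := {t : V × V × V // Flag v t.1 ∧ Im α v t.1 t.2.1 t.2.2}
  have := clique_dich (S := S) (fun t => t.1.2.1) (fun t => t.1.2.2) (fun i j =>
    (im_adj hq hf i.2.1 j.2.1 i.2.2 j.2.2).mp (Or.inl (Par.refl' v)))
  rcases this with h | h
  · left
    intro w₁ w₂ a₁ b₁ a₂ b₂ h1 h2 i1 i2
    exact h ⟨(w₁, a₁, b₁), h1, i1⟩ ⟨(w₂, a₂, b₂), h2, i2⟩
  · right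
    intro w₁ w₂ a₁ b₁ a₂ b₂ h1 h2 i1 i2
    exact h ⟨(w₁, a₁, b₁), h1, i1⟩ ⟨(w₂, a₂, b₂), h2, i2⟩

lemma costar_dich (hq : Fintype.card F = p ^ f) (hf : 1 ≤ f) (α : MulAut G) (w : V) : CC' α w ∨ AA' α w := by
  let S := {t : V × V × V // Flag t.1 w ∧ Im α t.1 w t.2.1 t.2.2}
  have := clique_dich (S := S) (fun t => t.1.2.1) (fun t => t.1.2.2) (fun i j =>
    (im_adj hq hf i.2.1 j.2.1 i.2.2 j.2.2).mp (Or.inr (Par.refl' w)))
  rcases this with h | h
  · left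
    intro w₁ w₂ a₁ b₁ a₂ b₂ h1 h2 i1 i2
    exact h ⟨(w₁, a₁, b₁), h1, i1⟩ ⟨(w₂, a₂, b₂), h2, i2⟩
  · right
    intro w₁ w₂ a₁ b₁ a₂ b₂ h1 h2 i1 i2
    exact h ⟨(w₁, a₁, b₁), h1, i1⟩ ⟨(w₂, a₂, b₂), h2, i2⟩

lemma exists_common (hm : 3 ≤ m + 2) (v₁ v₂ : V) : ∃ w : V, w ≠ 0 ∧ w ⬝ᵥ v₁ = 0 ∧ w ⬝ᵥ v₂ = 0 := by
  let A : Matrix (Fin 2) (Fin (m + 2)) F := Matrix.of ![v₁, v₂]
  have hlt : Module.finrank F (Fin 2 → F) < Module.finrank F V := by
    simp only [Module.finrank_fintype_fun_eq_card, Fintype.card_fin]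
    omega
  have hker := LinearMap.ker_ne_bot_of_finrank_lt (f := A.mulVecLin) hlt
  obtain ⟨w, hw, hw0⟩ := (Submodule.ne_bot_iff _).mp hker
  have h1 : A *ᵥ w = 0 := by simpa using hw
  refine ⟨w, hw0, ?_, ?_⟩
  · have := congrFun h1 0
    rw [dotProduct_comm]
    simpa [A, mulVec, Matrix.of_apply] using this
  · have := congrFun h1 1
    rw [dotProduct_comm]
    simpa [A, mulVec, Matrix.of_apply] using this

lemma exists_dot_ne {w : V} (hw : w ≠ 0) : ∃ y : V, w ⬝ᵥ y ≠ 0 := by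
  obtain ⟨j, hj⟩ : ∃ j, w j ≠ 0 := by
    by_contra hcon
    push Not at hcon
    exact hw (funext hcon)
  exact ⟨Pi.single j 1, by simpa using hj⟩

lemma Flag.symm' {v w : V} (h : Flag v w) : Flag w v :=
  ⟨h.right, h.left, by rw [dotProduct_comm]; exact h.dot⟩

lemma not_both (hm : 3 ≤ m + 2) (hq : Fintype.card F = p ^ f) (hf : 1 ≤ f) (α : MulAut G) {v w : V} (h : Flag v w) :
    ¬ (CC α v ∧ CC' α w) ∧ ¬ (AA α v ∧ AA' α w) := by
  obtain ⟨y, hy⟩ := exists_dot_ne h.right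
  obtain ⟨w₁, hw₁, hw₁v, hw₁y⟩ := exists_common hm v y
  have hnw : ¬ Par w₁ w := by
    rintro ⟨c, hc, rfl⟩
    exact hy (by rw [smul_dotProduct, hw₁y, smul_zero])
  obtain ⟨y', hy'⟩ := exists_dot_ne h.left
  obtain ⟨v₁, hv₁, hv₁w, hv₁y⟩ := exists_common hm w y'
  have hnv : ¬ Par v₁ v := by
    rintro ⟨c, hc, rfl⟩
    exact hy' (by rw [smul_dotProduct, hv₁y, smul_zero])
  have F1 : Flag v w₁ := ⟨h.left, hw₁, hw₁v⟩
  have F2 : Flag v₁ w := ⟨hv₁, h.right, by rw [dotProduct_comm]; exact hv₁w⟩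
  obtain ⟨a₁, b₁, i₁⟩ := image_RG hq hf α F1
  obtain ⟨a, b, i⟩ := image_RG hq hf α h
  obtain ⟨a₂, b₂, i₂⟩ := image_RG hq hf α F2
  constructor
  · rintro ⟨hC, hC'⟩
    have h1 := hC w₁ w a₁ b₁ a b F1 h i₁ i
    have h2 := hC' v v₁ a b a₂ b₂ h F2 i i₂
    rcases (im_adj hq hf F1 F2 i₁ i₂).mpr (Or.inl (h1.trans' h2)) with h3 | h3
    · exact hnv h3.symm'
    · exact hnw h3
  · rintro ⟨hC, hC'⟩
    have h1 := hC w₁ w a₁ b₁ a b F1 h i₁ i
    have h2 := hC' v v₁ a b a₂ b₂ h F2 i i₂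
    rcases (im_adj hq hf F1 F2 i₁ i₂).mpr (Or.inr (h1.trans' h2)) with h3 | h3
    · exact hnv h3.symm'
    · exact hnw h3

lemma type_dich (hm : 3 ≤ m + 2) (hq : Fintype.card F = p ^ f) (hf : 1 ≤ f) (α : MulAut G) :
    ((∀ v : V, v ≠ 0 → CC α v) ∧ (∀ w : V, w ≠ 0 → AA' α w)) ∨
    ((∀ v : V, v ≠ 0 → AA α v) ∧ (∀ w : V, w ≠ 0 → CC' α w)) := by
  have hv0 : ee F (0 : Fin (m + 2)) ≠ 0 := (flag_ee (F := F) (i := (0 : Fin (m + 2))) (j := Fin.last (m + 1)) (ne_of_lt Fin.last_pos)).left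
  have hker : ∀ w : V, ∃ v : V, v ≠ 0 ∧ w ⬝ᵥ v = 0 := by
    intro w
    obtain ⟨v, hv, h1, -⟩ := exists_common hm w w
    exact ⟨v, hv, by rw [dotProduct_comm]; exact h1⟩
  rcases star_dich hq hf α (ee F (0 : Fin (m + 2))) with h0 | h0
  · left
    have h1 : ∀ v : V, v ≠ 0 → CC α v := by
      intro v hv
      obtain ⟨w, hw, hw1, hw2⟩ := exists_common hm (ee F (0 : Fin (m + 2))) v
      have h2 : AA' α w := (costar_dich hq hf α w).resolve_left fun h3 =>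
        (not_both hm hq hf α (⟨hv0, hw, hw1⟩ : Flag _ w)).1 ⟨h0, h3⟩
      exact (star_dich hq hf α v).resolve_right fun h3 =>
        (not_both hm hq hf α (⟨hv, hw, hw2⟩ : Flag v w)).2 ⟨h3, h2⟩
    refine ⟨h1, fun w hw => ?_⟩
    obtain ⟨v, hv, hd⟩ := hker w
    exact (costar_dich hq hf α w).resolve_left fun h3 =>
      (not_both hm hq hf α (⟨hv, hw, hd⟩ : Flag v w)).1 ⟨h1 v hv, h3⟩
  · right
    have h1 : ∀ v : V, v ≠ 0 → AA α v := by
      intro v hv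
      obtain ⟨w, hw, hw1, hw2⟩ := exists_common hm (ee F (0 : Fin (m + 2))) v
      have h2 : CC' α w := (costar_dich hq hf α w).resolve_right fun h3 =>
        (not_both hm hq hf α (⟨hv0, hw, hw1⟩ : Flag _ w)).2 ⟨h0, h3⟩
      exact (star_dich hq hf α v).resolve_left fun h3 =>
        (not_both hm hq hf α (⟨hv, hw, hw2⟩ : Flag v w)).1 ⟨h3, h2⟩
    refine ⟨h1, fun w hw => ?_⟩
    obtain ⟨v, hv, hd⟩ := hker w
    exact (costar_dich hq hf α w).resolve_right fun h3 =>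
      (not_both hm hq hf α (⟨hv, hw, hd⟩ : Flag v w)).2 ⟨h1 v hv, h3⟩

/-- the type-preserving case -/
theorem type_C (hm : 3 ≤ m + 2) (hq : Fintype.card F = p ^ f) (hf : 1 ≤ f) (α : MulAut G)
    (hC : ∀ v : V, v ≠ 0 → CC α v) (hA : ∀ w : V, w ≠ 0 → AA' α w) :
    ∃ (D : GL (Fin (m + 2)) F) (σ : F ≃+* F), α = cc D * fld σ := by
  classical
  have hex : ∀ (i j : Fin (m + 2)) (h : i ≠ j), ∃ a b, Im α (ee F i) (ee F j) a b :=
    fun i j h => image_RG hq hf α (flag_ee h)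
  choose a b hab using hex
  have hnx : ∀ i : Fin (m + 2), ∃ j, i ≠ j := fun i => (exists_ne i).imp fun _ h => h.symm
  choose nx hnx using hnx
  have hnx' : ∀ i : Fin (m + 2), nx i ≠ i := fun i => (hnx i).symm
  let v : Fin (m + 2) → V := fun i => a i (nx i) (hnx i)
  let ψ : Fin (m + 2) → V := fun j => b (nx j) j (hnx' j)
  have hpa : ∀ i j (h : i ≠ j), Par (a i j h) (v i) := fun i j h =>
    hC _ (flag_ee h).left _ _ _ _ _ _ (flag_ee h) (flag_ee (hnx i)) (hab i j h) (hab i (nx i) (hnx i))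
  have hpb : ∀ i j (h : i ≠ j), Par (b i j h) (ψ j) := fun i j h =>
    hA _ (flag_ee h).right _ _ _ _ _ _ (flag_ee h) (flag_ee (hnx' j)) (hab i j h) (hab (nx j) j (hnx' j))
  have hfl : ∀ i j (h : i ≠ j), Flag (v i) (ψ j) := fun i j h =>
    (hab i j h).1.of_par (hpa i j h) (hpb i j h)
  have him : ∀ i j (_ : i ≠ j), α '' RG (ee F i) (ee F j) = RG (v i) (ψ j) := fun i j h => by
    rw [(hab i j h).2]
    exact RG_eq_of_par (hpa i j h) (hpb i j h)
  refine coord_thm (by omega) α v ψ (fun i => (hfl i (nx i) (hnx i)).left) (fun j => (hfl (nx j) j (hnx' j)).right)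
    (fun i j h => (hfl i j h).dot) ?_ him
  intro j h0
  -- choose `i, k` different from `j` and from each other
  obtain ⟨i, hij⟩ := hnx' j |>.symm |> fun h => (⟨nx j, h.symm⟩ : ∃ i, i ≠ j)
  obtain ⟨k, hkj, hki⟩ : ∃ k : Fin (m + 2), k ≠ j ∧ k ≠ i := by
    by_contra hcon
    push Not at hcon
    have hc : (Finset.univ : Finset (Fin (m + 2))) ⊆ {j, i} := by
      intro x _
      by_cases hx : x = j
      · simp [hx]
      · simp [hcon x hx]
    have := Finset.card_le_card hc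
    rw [Finset.card_univ, Fintype.card_fin] at this
    have h2 : ({j, i} : Finset (Fin (m + 2))).card ≤ 2 := Finset.card_le_two
    omega
  have hjk : j ≠ k := hkj.symm
  have hik : i ≠ k := hki.symm
  have hx : α (xx hij (1 : F)) ∈ RG (v i) (ψ j) := by
    rw [← him i j hij]
    exact ⟨_, ⟨1, isRt_xx hij 1⟩, rfl⟩
  have hy : α (xx hjk (1 : F)) ∈ RG (v j) (ψ k) := by
    rw [← him j k hjk]
    exact ⟨_, ⟨1, isRt_xx hjk 1⟩, rfl⟩
  obtain ⟨t, ht⟩ := hx
  obtain ⟨u, hu⟩ := hy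
  have hc := commute_of_dots ht hu (by rw [dotProduct_smul, h0, smul_zero])
    (by rw [dotProduct_smul, (hfl i k hik).dot, smul_zero])
  have hc' : xx hij (1 : F) * xx hjk (1 : F) = xx hjk (1 : F) * xx hij (1 : F) := by
    apply α.injective
    rw [map_mul, map_mul, hc]
  have hfij := flag_ee (F := F) hij
  have hfjk := flag_ee (F := F) hjk
  have := (dots_of_commute (isRt_xx hij (1 : F)) (isRt_xx hjk (1 : F))
    (by rw [one_smul]; exact hfij.left) hfij.right (by rw [one_smul]; exact hfjk.left) hfjk.right hc').1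
  simp at this

/-- the type-swapping case reduces to the type-preserving one -/
lemma im_gam {α : MulAut G} {v w a b : V} (h : Im (α * gam) v w a b) : Im α w v a b := by
  refine ⟨h.1, ?_⟩
  rw [← h.2, ← gam_RG, Set.image_image]
  rfl

theorem type_A (hm : 3 ≤ m + 2) (hq : Fintype.card F = p ^ f) (hf : 1 ≤ f) (α : MulAut G)
    (hC : ∀ v : V, v ≠ 0 → AA α v) (hA : ∀ w : V, w ≠ 0 → CC' α w) :
    ∃ (D : GL (Fin (m + 2)) F) (σ : F ≃+* F), α * gam = cc D * fld σ := by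
  apply type_C hm hq hf
  · intro v hv w₁ w₂ a₁ b₁ a₂ b₂ h1 h2 i1 i2
    exact hA v hv _ _ _ _ _ _ h1.symm' h2.symm' (im_gam i1) (im_gam i2)
  · intro w hw v₁ v₂ a₁ b₁ a₂ b₂ h1 h2 i1 i2
    exact hC w hw _ _ _ _ _ _ h1.symm' h2.symm' (im_gam i1) (im_gam i2)

theorem aut_form_ge3 (hm : 3 ≤ m + 2) (hq : Fintype.card F = p ^ f) (hf : 1 ≤ f) (α : MulAut G) :
    ∃ (D : GL (Fin (m + 2)) F) (σ : F ≃+* F), α = cc D * fld σ ∨ α * gam = cc D * fld σ := by
  rcases type_dich hm hq hf α with ⟨h1, h2⟩ | ⟨h1, h2⟩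
  · obtain ⟨D, σ, h⟩ := type_C hm hq hf α h1 h2
    exact ⟨D, σ, Or.inl h⟩
  · obtain ⟨D, σ, h⟩ := type_A hm hq hf α h1 h2
    exact ⟨D, σ, Or.inr h⟩

end TypeArg

lemma two_dim_par {v b b' : Fin 2 → F} (hv : v ≠ 0) (hb : b ≠ 0) (hb' : b' ≠ 0) (h : b ⬝ᵥ v = 0) (h' : b' ⬝ᵥ v = 0) :
    Par b b' := by
  simp only [dotProduct, Fin.sum_univ_two] at h h'
  have hD : b 0 * b' 1 - b 1 * b' 0 = 0 := by
    by_contra hD
    apply hv
    have h0 : v 0 = 0 := by
      have : (b 0 * b' 1 - b 1 * b' 0) * v 0 = 0 := by linear_combination b' 1 * h - b 1 * h'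
      exact (mul_eq_zero.mp this).resolve_left hD
    have h1 : v 1 = 0 := by
      have : (b 0 * b' 1 - b 1 * b' 0) * v 1 = 0 := by linear_combination b 0 * h' - b' 0 * h
      exact (mul_eq_zero.mp this).resolve_left hD
    funext i
    fin_cases i
    · exact h0
    · exact h1
  have hnz : b 0 ≠ 0 ∨ b 1 ≠ 0 := by
    by_contra hcon
    push Not at hcon
    apply hb
    funext i
    fin_cases i
    · exact hcon.1
    · exact hcon.2
  rcases hnz with h0 | h1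
  · have e : b' = (b' 0 / b 0) • b := by
      funext i
      fin_cases i
      · simp; field_simp
      · simp; field_simp; linear_combination hD
    refine ⟨b' 0 / b 0, ?_, e⟩
    intro hc
    rw [hc, zero_smul] at e
    exact hb' e
  · have e : b' = (b' 1 / b 1) • b := by
      funext i
      fin_cases i
      · simp; field_simp; linear_combination -hD
      · simp; field_simp
    refine ⟨b' 1 / b 1, ?_, e⟩
    intro hc
    rw [hc, zero_smul] at e
    exact hb' e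

theorem aut_form_two [Fintype F] {p f : ℕ} [Fact p.Prime] (hq : Fintype.card F = p ^ f) (hf : 1 ≤ f)
    (α : MulAut (ProjectiveSpecialLinearGroup (Fin 2) F)) :
    ∃ (D : GL (Fin 2) F) (σ : F ≃+* F), α = cc D * fld σ := by
  classical
  have hf01 : Flag (ee F (0 : Fin 2)) (ee F (1 : Fin 2)) := flag_ee h01
  have hf10 : Flag (ee F (1 : Fin 2)) (ee F (0 : Fin 2)) := flag_ee h10
  obtain ⟨a, b, hab⟩ := image_RG (m := 0) hq hf α hf01
  obtain ⟨a', b', hab'⟩ := image_RG (m := 0) hq hf α hf10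
  have hx : α (xx h01 (1 : F)) ∈ RG a b := by
    rw [← hab.2]
    exact ⟨_, ⟨1, isRt_xx h01 1⟩, rfl⟩
  have hy : α (xx h10 (1 : F)) ∈ RG a' b' := by
    rw [← hab'.2]
    exact ⟨_, ⟨1, isRt_xx h10 1⟩, rfl⟩
  obtain ⟨t, ht⟩ := hx
  obtain ⟨u, hu⟩ := hy
  have hnc : ¬ (b ⬝ᵥ a' = 0 ∧ b' ⬝ᵥ a = 0) := by
    rintro ⟨h1, h2⟩
    have hc := commute_of_dots ht hu (by rw [dotProduct_smul, h1, smul_zero]) (by rw [dotProduct_smul, h2, smul_zero])
    have hc' : xx h01 (1 : F) * xx h10 (1 : F) = xx h10 (1 : F) * xx h01 (1 : F) := by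
      apply α.injective
      rw [map_mul, map_mul, hc]
    have := (dots_of_commute (isRt_xx h01 (1 : F)) (isRt_xx h10 (1 : F))
      (by rw [one_smul]; exact hf01.left) hf01.right (by rw [one_smul]; exact hf10.left) hf10.right hc').1
    simp at this
  have h1 : b ⬝ᵥ a' ≠ 0 := by
    intro h0
    apply hnc
    refine ⟨h0, ?_⟩
    obtain ⟨c, hc, e⟩ := two_dim_par hab'.1.left hab'.1.right hab.1.right hab'.1.dot h0
    have hd := hab.1.dot
    rw [e, smul_dotProduct] at hd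
    exact (smul_eq_zero.mp hd).resolve_left hc
  have h2 : b' ⬝ᵥ a ≠ 0 := by
    intro h0
    apply hnc
    refine ⟨?_, h0⟩
    obtain ⟨c, hc, e⟩ := two_dim_par hab.1.left hab.1.right hab'.1.right hab.1.dot h0
    have hd := hab'.1.dot
    rw [e, smul_dotProduct] at hd
    exact (smul_eq_zero.mp hd).resolve_left hc
  refine coord_thm le_rfl α ![a, a'] ![b', b] ?_ ?_ ?_ ?_ ?_
  · intro i
    fin_cases i
    · exact hab.1.left
    · exact hab'.1.left
  · intro i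
    fin_cases i
    · exact hab'.1.right
    · exact hab.1.right
  · intro i j hij
    fin_cases i <;> fin_cases j
    · exact absurd rfl hij
    · exact hab.1.dot
    · exact hab'.1.dot
    · exact absurd rfl hij
  · intro j
    fin_cases j
    · exact h2
    · exact h1
  · intro i j hij
    fin_cases i <;> fin_cases j
    · exact absurd rfl hij
    · exact hab.2
    · exact hab'.2
    · exact absurd rfl hij

end Cfsg.Agent.Lead.AutPSL

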