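import Cfsg.Agent.Lib.Lead.OrthoFrames
/-! Siegel--Eichler transformations and reflections of a quadratic space over a finite field. -/
set_option autoImplicit false
set_option linter.unusedSimpArgs false
set_option linter.style.haveILetI false
set_option linter.unusedSectionVars false
set_option linter.unusedVariables false
namespace Cfsg.Agent.Lead.Omega
open Matrix Cfsg.Agent.Lead.Ortho
open scoped commutatorElement

variable {F : Type*} [Field F] [Fintype F] {ι : Type} [Fintype ι] [DecidableEq ι]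
variable {Q : (ι → F) → F} {B : (ι → F) → (ι → F) → F}

/-- The isometry group as a type. -/
abbrev OG (F : Type*) [Field F] (Q : (ι → F) → F) : Type _ := ↥(Cfsg.isometryGroup F Q)

/-- The action on vectors. -/
def act (g : OG F Q) (x : ι → F) : ι → F := ((g : GL ι F) : Matrix ι ι F) *ᵥ x

lemma act_mul (g h : OG F Q) (x : ι → F) : act (g * h) x = act g (act h x) := by
  unfold act
  rw [Matrix.mulVec_mulVec]
  rfl

lemma act_one (x : ι → F) : act (1 : OG F Q) x = x := by
  unfold act
  exact Matrix.one_mulVec x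

lemma act_inv_act (g : OG F Q) (x : ι → F) : act g⁻¹ (act g x) = x := by
  rw [← act_mul, inv_mul_cancel, act_one]

lemma act_act_inv (g : OG F Q) (x : ι → F) : act g (act g⁻¹ x) = x := by
  rw [← act_mul, mul_inv_cancel, act_one]

lemma act_add (g : OG F Q) (x y : ι → F) : act g (x + y) = act g x + act g y := by
  unfold act
  rw [Matrix.mulVec_add]

lemma act_sub (g : OG F Q) (x y : ι → F) : act g (x - y) = act g x - act g y := by
  unfold act
  rw [Matrix.mulVec_sub]

lemma act_smul (g : OG F Q) (c : F) (x : ι → F) : act g (c • x) = c • act g x := by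
  unfold act
  rw [Matrix.mulVec_smul]

lemma act_neg (g : OG F Q) (x : ι → F) : act g (-x) = - act g x := by
  unfold act
  rw [Matrix.mulVec_neg]

lemma act_zero (g : OG F Q) : act g (0 : ι → F) = 0 := by
  unfold act
  rw [Matrix.mulVec_zero]

lemma Q_act (g : OG F Q) (x : ι → F) : Q (act g x) = Q x := g.2 x x

lemma B_act (h : QF Q B) (g : OG F Q) (x y : ι → F) : B (act g x) (act g y) = B x y := by
  rw [h.polar, h.polar x y, ← act_add, Q_act (Q := Q), Q_act (Q := Q), Q_act (Q := Q)]

lemma act_injective (g : OG F Q) : Function.Injective (act g : (ι → F) → (ι → F)) := by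
  intro x y h
  have := congrArg (act g⁻¹) h
  rwa [act_inv_act, act_inv_act] at this

lemma og_ext {g h : OG F Q} (H : ∀ x : ι → F, act g x = act h x) : g = h := by
  apply Subtype.ext
  apply Units.ext
  exact Matrix.mulVec_injective (funext H)

/-- An isometry from a pair of mutually inverse linear maps. -/
noncomputable def mkO (f f' : (ι → F) →ₗ[F] (ι → F)) (h1 : ∀ x, f (f' x) = x) (h2 : ∀ x, f' (f x) = x)
    (hQ : ∀ x, Q (f x) = Q x) : OG F Q :=
  ⟨⟨LinearMap.toMatrix' f, LinearMap.toMatrix' f', by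
      rw [← LinearMap.toMatrix'_comp]
      have : f ∘ₗ f' = LinearMap.id := LinearMap.ext h1
      rw [this, LinearMap.toMatrix'_id], by
      rw [← LinearMap.toMatrix'_comp]
      have : f' ∘ₗ f = LinearMap.id := LinearMap.ext h2
      rw [this, LinearMap.toMatrix'_id]⟩, fun u _ => by
    change Q (LinearMap.toMatrix' f *ᵥ u) = Q u
    rw [LinearMap.toMatrix'_mulVec]
    exact hQ u⟩

lemma act_mkO (f f' : (ι → F) →ₗ[F] (ι → F)) (h1 : ∀ x, f (f' x) = x) (h2 : ∀ x, f' (f x) = x)
    (hQ : ∀ x, Q (f x) = Q x) (x : ι → F) : act (mkO f f' h1 h2 hQ) x = f x := by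
  unfold act mkO
  exact LinearMap.toMatrix'_mulVec f x

/-! ### Siegel transformations -/

/-- Admissible data. -/
structure Adm (Q : (ι → F) → F) (B : (ι → F) → (ι → F) → F) (u a : ι → F) : Prop where
  uu : Q u = 0
  au : B a u = 0

/-- The Siegel map. -/
def Efun (Q : (ι → F) → F) (B : (ι → F) → (ι → F) → F) (u a x : ι → F) : ι → F :=
  x + B x u • a - (B x a + Q a * B x u) • u

section E
variable (h : QF Q B)
include h

lemma Buu {u : ι → F} (hu : Q u = 0) : B u u = 0 := by
  rw [h.self, hu, mul_zero]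

lemma Efun_B {u a : ι → F} (hA : Adm Q B u a) (x : ι → F) : B (Efun Q B u a x) u = B x u := by
  unfold Efun
  rw [h.sub_left, h.add_left, h.smul_left, h.smul_left, hA.au, Buu h hA.uu]
  ring

lemma Q_Efun {u a : ι → F} (hA : Adm Q B u a) (x : ι → F) : Q (Efun Q B u a x) = Q x := by
  have key : ∀ s t : F, Q (x + s • a + t • u) = Q x + s ^ 2 * Q a + s * B x a + t * B x u := by
    intro s t
    simp only [h.add, h.add_left, h.smul_left, h.smul_right, h.smul, hA.uu, hA.au]
    ring
  unfold Efun
  rw [sub_eq_add_neg, ← neg_smul, key]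
  ring

lemma Efun_comp {u a a' : ι → F} (hA : Adm Q B u a) (hA' : Adm Q B u a') (x : ι → F) :
    Efun Q B u a (Efun Q B u a' x) = Efun Q B u (a + a') x := by
  have hua : B u a = 0 := by rw [h.symm]; exact hA.au
  have e1 := Efun_B h hA' x
  have e2 : B (Efun Q B u a' x) a = B x a + B x u * B a' a := by
    unfold Efun
    rw [h.sub_left, h.add_left, h.smul_left, h.smul_left, hua]
    ring
  have key : Efun Q B u a (Efun Q B u a' x) = Efun Q B u a' x + B x u • a -
      ((B x a + B x u * B a' a) + Q a * B x u) • u := by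
    conv_lhs => rw [Efun, e1, e2]
  rw [key]
  unfold Efun
  rw [h.add, h.add_right, h.symm a a']
  funext i
  simp only [Pi.add_apply, Pi.sub_apply, Pi.smul_apply, smul_eq_mul]
  ring

omit h in
lemma Efun_zero (h : QF Q B) (u x : ι → F) : Efun Q B u 0 x = x := by
  unfold Efun
  rw [h.zero_right, h.Q_zero]
  simp

lemma adm_neg {u a : ι → F} (hA : Adm Q B u a) : Adm Q B u (-a) :=
  ⟨hA.uu, by rw [h.neg_left, hA.au, neg_zero]⟩

lemma adm_add {u a a' : ι → F} (hA : Adm Q B u a) (hA' : Adm Q B u a') : Adm Q B u (a + a') :=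
  ⟨hA.uu, by rw [h.add_left, hA.au, hA'.au, add_zero]⟩

lemma adm_zero {u : ι → F} (hu : Q u = 0) : Adm Q B u 0 :=
  ⟨hu, h.zero_left u⟩

/-- The Siegel map as a linear map. -/
def Elin (u a : ι → F) : (ι → F) →ₗ[F] (ι → F) where
  toFun := Efun Q B u a
  map_add' x y := by
    unfold Efun
    rw [h.add_left, h.add_left]
    simp only [add_smul, mul_add]
    abel
  map_smul' c x := by
    unfold Efun
    rw [h.smul_left, h.smul_left]
    funext i
    simp only [Pi.add_apply, Pi.sub_apply, Pi.smul_apply, smul_eq_mul, RingHom.id_apply]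
    ring

/-- The Siegel transformation. -/
noncomputable def E {u a : ι → F} (hA : Adm Q B u a) : OG F Q :=
  mkO (Elin h u a) (Elin h u (-a))
    (fun x => by
      change Efun Q B u a (Efun Q B u (-a) x) = x
      rw [Efun_comp h hA (adm_neg h hA), add_neg_cancel, Efun_zero h])
    (fun x => by
      change Efun Q B u (-a) (Efun Q B u a x) = x
      rw [Efun_comp h (adm_neg h hA) hA, neg_add_cancel, Efun_zero h])
    (fun x => Q_Efun h hA x)

lemma act_E {u a : ι → F} (hA : Adm Q B u a) (x : ι → F) : act (E h hA) x = Efun Q B u a x :=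
  act_mkO _ _ _ _ _ x

lemma E_congr {u u' a a' : ι → F} (hA : Adm Q B u a) (hA' : Adm Q B u' a') (e1 : u = u') (e2 : a = a') :
    E h hA = E h hA' := by
  subst e1 e2
  rfl

lemma E_mul {u a a' : ι → F} (hA : Adm Q B u a) (hA' : Adm Q B u a') :
    E h hA * E h hA' = E h (adm_add h hA hA') := by
  apply og_ext
  intro x
  rw [act_mul, act_E, act_E, act_E, Efun_comp h hA hA']

lemma E_one {u : ι → F} (hA : Adm Q B u 0) : E h hA = 1 := by
  apply og_ext
  intro x
  rw [act_E, act_one, Efun_zero h]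

lemma E_inv {u a : ι → F} (hA : Adm Q B u a) : (E h hA)⁻¹ = E h (adm_neg h hA) := by
  apply inv_eq_of_mul_eq_one_right
  rw [E_mul]
  have h0 : Adm Q B u 0 := adm_zero h hA.uu
  rw [E_congr h _ h0 rfl (add_neg_cancel a)]
  exact E_one h h0

lemma E_comm {u a a' : ι → F} (hA : Adm Q B u a) (hA' : Adm Q B u a') :
    E h hA * E h hA' = E h hA' * E h hA := by
  rw [E_mul, E_mul]
  exact E_congr h _ _ rfl (add_comm a a')

lemma adm_conj (g : OG F Q) {u a : ι → F} (hA : Adm Q B u a) : Adm Q B (act g u) (act g a) :=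
  ⟨by rw [Q_act (Q := Q)]; exact hA.uu, by rw [B_act h]; exact hA.au⟩

lemma E_conj (g : OG F Q) {u a : ι → F} (hA : Adm Q B u a) :
    g * E h hA * g⁻¹ = E h (adm_conj h g hA) := by
  apply og_ext
  intro x
  rw [act_mul, act_mul, act_E, act_E]
  have e : ∀ w : ι → F, B (act g⁻¹ x) w = B x (act g w) := by
    intro w
    have := B_act h g (act g⁻¹ x) w
    rw [act_act_inv] at this
    exact this.symm
  unfold Efun
  rw [e, e, act_sub, act_add, act_smul, act_smul, act_act_inv, Q_act (Q := Q)]

lemma adm_scale {c : F} (hc : c ≠ 0) {x a : ι → F} (hA : Adm Q B (c • x) a) : Adm Q B x (c • a) := by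
  refine ⟨?_, ?_⟩
  · have := hA.uu
    rw [h.smul] at this
    exact (mul_eq_zero.1 this).resolve_left (pow_ne_zero _ hc)
  · have := hA.au
    rw [h.smul_right] at this
    rw [h.smul_left]
    exact this

lemma E_scale {c : F} (hc : c ≠ 0) {x a : ι → F} (hA : Adm Q B (c • x) a) :
    E h hA = E h (adm_scale h hc hA) := by
  apply og_ext
  intro y
  rw [act_E, act_E]
  unfold Efun
  rw [h.smul_right, h.smul_right, h.smul]
  funext i
  simp only [Pi.add_apply, Pi.sub_apply, Pi.smul_apply, smul_eq_mul]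
  ring

lemma Efun_fix {u a x : ι → F} (h1 : B x u = 0) (h2 : B x a = 0) : Efun Q B u a x = x := by
  unfold Efun
  rw [h1, h2]
  simp

lemma act_E_fix {u a x : ι → F} (hA : Adm Q B u a) (h1 : B x u = 0) (h2 : B x a = 0) :
    act (E h hA) x = x := by
  rw [act_E, Efun_fix h h1 h2]

/-- `E(u, c u)` is trivial. -/
lemma E_self {u : ι → F} {c : F} (hA : Adm Q B u (c • u)) : E h hA = 1 := by
  apply og_ext
  intro x
  rw [act_E, act_one]
  unfold Efun
  rw [h.smul_right, h.smul, hA.uu]
  funext i
  simp only [Pi.add_apply, Pi.sub_apply, Pi.smul_apply, smul_eq_mul]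
  ring

lemma E_zero_left {a : ι → F} (hA : Adm Q B 0 a) : E h hA = 1 := by
  apply og_ext
  intro x
  rw [act_E, act_one]
  unfold Efun
  rw [h.zero_right]
  simp

/-! ### Reflections -/

/-- The reflection map. -/
def Rlin (a : ι → F) : (ι → F) →ₗ[F] (ι → F) where
  toFun x := x - (B x a / Q a) • a
  map_add' x y := by
    rw [h.add_left]
    funext i
    simp only [Pi.add_apply, Pi.sub_apply, Pi.smul_apply, smul_eq_mul]
    ring
  map_smul' c x := by
    rw [h.smul_left]
    funext i
    simp only [Pi.smul_apply, Pi.sub_apply, smul_eq_mul, RingHom.id_apply]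
    ring

lemma Rlin_apply (a x : ι → F) : Rlin h a x = x - (B x a / Q a) • a := rfl

lemma Rlin_Rlin {a : ι → F} (ha : Q a ≠ 0) (x : ι → F) : Rlin h a (Rlin h a x) = x := by
  rw [Rlin_apply, Rlin_apply, h.sub_left, h.smul_left, h.self]
  funext i
  simp only [Pi.sub_apply, Pi.smul_apply, smul_eq_mul]
  field_simp
  ring

lemma Q_Rlin {a : ι → F} (ha : Q a ≠ 0) (x : ι → F) : Q (Rlin h a x) = Q x := by
  rw [Rlin_apply, sub_eq_add_neg, ← neg_smul, h.add, h.smul, h.smul_right]
  field_simp
  ring

/-- The reflection in an anisotropic vector. -/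
noncomputable def R (a : ι → F) (ha : Q a ≠ 0) : OG F Q :=
  mkO (Rlin h a) (Rlin h a) (Rlin_Rlin h ha) (Rlin_Rlin h ha) (Q_Rlin h ha)

lemma act_R {a : ι → F} (ha : Q a ≠ 0) (x : ι → F) : act (R h a ha) x = x - (B x a / Q a) • a :=
  act_mkO _ _ _ _ _ x

lemma R_mul_self {a : ι → F} (ha : Q a ≠ 0) : R h a ha * R h a ha = 1 := by
  apply og_ext
  intro x
  rw [act_mul, act_R, act_R, act_one]
  have := Rlin_Rlin h ha x
  rwa [Rlin_apply, Rlin_apply] at this

lemma R_inv {a : ι → F} (ha : Q a ≠ 0) : (R h a ha)⁻¹ = R h a ha :=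
  inv_eq_of_mul_eq_one_left (R_mul_self h ha)

lemma R_congr {a a' : ι → F} (ha : Q a ≠ 0) (ha' : Q a' ≠ 0) (e : a = a') : R h a ha = R h a' ha' := by
  subst e
  rfl

lemma R_conj (g : OG F Q) {a : ι → F} (ha : Q a ≠ 0) (ha' : Q (act g a) ≠ 0) :
    g * R h a ha * g⁻¹ = R h (act g a) ha' := by
  apply og_ext
  intro x
  rw [act_mul, act_mul, act_R, act_R, act_sub, act_smul, act_act_inv]
  have e : B (act g⁻¹ x) a = B x (act g a) := by
    have := B_act h g (act g⁻¹ x) a
    rw [act_act_inv] at this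
    exact this.symm
  rw [e, Q_act (Q := Q)]

lemma R_fix {a x : ι → F} (ha : Q a ≠ 0) (hx : B x a = 0) : act (R h a ha) x = x := by
  rw [act_R, hx]
  simp

/-- The product of two reflections in vectors differing by a singular vector is a Siegel element. -/
lemma R_mul_R {a w : ι → F} (ha : Q a ≠ 0) (hw : Q w = 0) (haw : B a w = 0) (ha' : Q (a + w) ≠ 0)
    (hA : Adm Q B w ((-(Q a)⁻¹) • a)) :
    R h (a + w) ha' * R h a ha = E h hA := by
  apply og_ext
  intro x
  rw [act_mul, act_R, act_R, act_E]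
  unfold Efun
  have hQ : Q (a + w) = Q a := by
    rw [h.add, hw, haw]
    ring
  rw [hQ]
  have e1 : B (x - (B x a / Q a) • a) (a + w) = B x w - B x a := by
    rw [h.sub_left, h.smul_left, h.add_right, h.add_right, haw, h.self]
    field_simp
    ring
  rw [e1, h.smul_right, h.smul]
  funext i
  simp only [Pi.add_apply, Pi.sub_apply, Pi.smul_apply, smul_eq_mul]
  field_simp
  ring

end E

end Cfsg.Agent.Lead.Omega
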