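import Cfsg.Agent.Lib.Lead.OmegaGen
/-! The commutator subgroup of the isometry group is the Siegel subgroup, and it is perfect. -/
set_option autoImplicit false
set_option linter.unusedSimpArgs false
set_option linter.style.haveILetI false
set_option linter.unusedSectionVars false
set_option linter.unusedVariables false
namespace Cfsg.Agent.Lead.Omega
open Matrix Cfsg.Agent.Lead.Ortho
open scoped commutatorElement

variable {F : Type*} [Field F] [Fintype F] {ι : Type} [Fintype ι] [DecidableEq ι]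
variable {Q : (ι → F) → F} {B : (ι → F) → (ι → F) → F}

section Good
variable (h : QF Q B) (hnd : ND B (⊤ : Submodule F (ι → F))) {m' : ℕ}
  {t₀ : Fin (m' + 1) → (ι → F) × (ι → F)} (ht₀ : IsHF Q B t₀)
  (hanis : ∀ w ∈ perpOf h t₀, Q w = 0 → w = 0)
include h hnd ht₀ hanis

lemma good_base {g : OG F Q} (hg : Fix (Fin.tail t₀) g) :
    g ∈ SS h ⊔ RS h (perpOf h (Fin.tail t₀)) := by
  obtain ⟨h1, h2, h3, h4, h5, h6⟩ := cons_tail_HF h ht₀
  have hnd1 := ND_perpOf h hnd _ h1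
  obtain ⟨u₁, hu₁⟩ : ∃ u₁, u₁ = (t₀ 0).1 := ⟨_, rfl⟩
  obtain ⟨v₁, hv₁⟩ : ∃ v₁, v₁ = (t₀ 0).2 := ⟨_, rfl⟩
  rw [← hu₁] at h2 h4 h6
  rw [← hv₁] at h3 h5 h6
  have hvu : B v₁ u₁ = 1 := by rw [h.symm]; exact h6
  have hu0 : u₁ ≠ 0 := by
    rintro rfl
    rw [h.zero_right] at hvu
    exact zero_ne_one hvu
  have hw0 : act g u₁ ≠ 0 := by
    intro h0
    apply hu0
    apply act_injective g
    rw [h0, act_zero]
  obtain ⟨r, hr, hr1⟩ := refl_trans h hnd1 (fix_mem_perp h hg h2) h2 (by rw [Q_act (Q := Q)]; exact h4) h4 hw0 hu0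
  have hrfix := RS_fix h hr
  have hg1 : Fix (Fin.tail t₀) (r * g) := hrfix.mul hg
  have hg1u : act (r * g) u₁ = u₁ := by rw [act_mul, hr1]
  have hv' : B (act (r * g) v₁) u₁ = 1 := by
    have := B_act h (r * g) v₁ u₁
    rw [hg1u] at this
    rw [this]
    exact hvu
  have hv'X := fix_mem_perp h hg1 h3
  obtain ⟨a, hA, haeq, hEv⟩ := exists_E_map h (u := u₁) (v := act (r * g) v₁) (v' := v₁) h4 (by rw [Q_act (Q := Q)]; exact h5) h5
    (by rw [hv']; exact one_ne_zero) (by rw [hv']; exact hvu)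
  have haX : a ∈ perpOf h (Fin.tail t₀) := by
    rw [haeq]
    exact (perpOf h _).smul_mem _ ((perpOf h _).sub_mem h3 hv'X)
  have hEIn := E_InT h hA h2 haX
  have hg2 : Fix t₀ (E h hA * (r * g)) := by
    intro i
    refine Fin.cases ?_ (fun j => ?_) i
    · constructor
      · rw [← hu₁, act_mul, hg1u]
        exact act_E_fix h hA (Buu h h4) (herm_symm0 h hA.au)
      · rw [← hv₁, act_mul, act_E, hEv]
    · exact (hEIn.2.mul hg1) j
  have hmem := aniso_fix h ht₀ hanis _ _ hg2 rfl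
  have hsub : perpOf h t₀ ≤ perpOf h (Fin.tail t₀) := by
    intro x hx i
    exact hx i.succ
  have hmem2 : E h hA * (r * g) ∈ RS h (perpOf h (Fin.tail t₀)) := by
    refine Subgroup.closure_mono ?_ hmem
    rintro _ ⟨a, ha, haS, rfl⟩
    exact ⟨a, ha, hsub haS, rfl⟩
  have hgeq : g = r⁻¹ * ((E h hA)⁻¹ * (E h hA * (r * g))) := by group
  rw [hgeq]
  refine Subgroup.mul_mem _ (Subgroup.mem_sup_right (Subgroup.inv_mem _ hr)) (Subgroup.mul_mem _
    (Subgroup.mem_sup_left (Subgroup.inv_mem _ (E_mem h hA))) (Subgroup.mem_sup_right hmem2))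

lemma good_step : ∀ (d j : ℕ), j + d = m' → ∀ t : Fin j → (ι → F) × (ι → F), IsHF Q B t → ∀ g : OG F Q, Fix t g →
    g ∈ SS h ⊔ RS h (perpOf h (Fin.tail t₀)) := by
  intro d
  induction d with
  | zero =>
    intro j hj t ht g hg
    obtain rfl : j = m' := by omega
    obtain ⟨h1, -⟩ := cons_tail_HF h ht₀
    obtain ⟨s, hs, e⟩ := trans_frame h hnd ht₀ j (by omega) t (Fin.tail t₀) ht h1
    have hfix : Fix (Fin.tail t₀) (s * g * s⁻¹) := by
      intro i
      constructor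
      · rw [act_mul, act_mul, ← (e i).1, act_inv_act, (hg i).1]
      · rw [act_mul, act_mul, ← (e i).2, act_inv_act, (hg i).2]
    have hmem := good_base h hnd ht₀ hanis hfix
    have hgeq : g = s⁻¹ * (s * g * s⁻¹) * s := by group
    rw [hgeq]
    exact Subgroup.mul_mem _ (Subgroup.mul_mem _ (Subgroup.mem_sup_left (Subgroup.inv_mem _ hs)) hmem)
      (Subgroup.mem_sup_left hs)
  | succ d ih =>
    intro j hj t ht g hg
    have hnd1 := ND_perpOf h hnd t ht
    obtain ⟨u, hu, hu0, huu⟩ := hasSing h ht₀ (k := j) (by omega) t ht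
    obtain ⟨v, hv, hvv, hvu⟩ := exists_partner h hnd1 hu hu0 huu
    have huv : B u v = 1 := by rw [h.symm]; exact hvu
    obtain ⟨s, hs, e1, e2⟩ := trans_pair h hnd ht₀ (k := j) (by omega) ht (fix_mem_perp h hg hu)
      (fix_mem_perp h hg hv) hu hv (by rw [Q_act (Q := Q)]; exact huu) (by rw [Q_act (Q := Q)]; exact hvv)
      huu hvv (by rw [B_act h]; exact hvu) hvu
    have hfix : Fix (Fin.cons (u, v) t : Fin (j + 1) → (ι → F) × (ι → F)) (s * g) := by
      intro i
      refine Fin.cases ?_ (fun l => ?_) i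
      · exact ⟨by simpa [act_mul] using e1, by simpa [act_mul] using e2⟩
      · simpa using (hs.2.mul hg) l
    have hmem := ih (j + 1) (by omega) _ ((isHF_cons_iff h (u, v) t).2 ⟨ht, hu, hv, huu, hvv, huv⟩) _ hfix
    have hgeq : g = s⁻¹ * (s * g) := by group
    rw [hgeq]
    exact Subgroup.mul_mem _ (Subgroup.mem_sup_left (Subgroup.inv_mem _ hs.1)) hmem

theorem all_good (g : OG F Q) : g ∈ SS h ⊔ RS h (perpOf h (Fin.tail t₀)) :=
  good_step h hnd ht₀ hanis m' 0 (by omega) Fin.elim0 (fun i => i.elim0) g (fun i => i.elim0)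

end Good

section Comm
variable (h : QF Q B)

include h in
/-- Two reflections in vectors of the same norm orthogonal to a hyperbolic pair agree modulo `SS`. -/
lemma R_equiv {u v a a' : ι → F} (huu : Q u = 0) (hvv : Q v = 0) (huv : B u v = 1) (hau : B a u = 0)
    (hav : B a v = 0) (ha'u : B a' u = 0) (ha'v : B a' v = 0) (ha : Q a ≠ 0) (ha' : Q a' ≠ 0)
    (hQ : Q a' = Q a) : R h a' ha' * R h a ha ∈ SS h := by
  have hvu : B v u = 1 := by rw [h.symm]; exact huv
  have hua : B u a = 0 := herm_symm0 h hau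
  have hua' : B u a' = 0 := herm_symm0 h ha'u
  have hadd : ∀ x : ι → F, B x u = 0 → Q (x + u) = Q x := by
    intro x hx
    rw [h.add, huu, hx]
    ring
  have ha1 : Q (a + u) ≠ 0 := by rw [hadd a hau]; exact ha
  have ha2 : Q (a' + u) ≠ 0 := by rw [hadd a' ha'u]; exact ha'
  -- first step
  have s1 : R h (a + u) ha1 * R h a ha ∈ SS h := by
    have hA : Adm Q B u ((-(Q a)⁻¹) • a) := ⟨huu, by rw [h.smul_left, hau, mul_zero]⟩
    rw [R_mul_R h ha huu hau ha1 hA]
    exact E_mem h hA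
  have s2 : R h (a' + u) ha2 * R h a' ha' ∈ SS h := by
    have hA : Adm Q B u ((-(Q a')⁻¹) • a') := ⟨huu, by rw [h.smul_left, ha'u, mul_zero]⟩
    rw [R_mul_R h ha' huu ha'u ha2 hA]
    exact E_mem h hA
  -- the connecting element
  have hb : Adm Q B v (a' - a) := ⟨hvv, by rw [h.sub_left, ha'v, hav, sub_zero]⟩
  have hmove : act (E h hb) (a + u) = a' + u := by
    rw [act_E]
    unfold Efun
    have e1 : B (a + u) v = 1 := by rw [h.add_left, hav, huv, zero_add]
    have e2 : B (a + u) (a' - a) = B a a' - 2 * Q a := by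
      rw [h.add_left, h.sub_right, h.sub_right, hua', hua, h.self]
      ring
    rw [e1, e2, Q_sub h, hQ, h.symm a' a]
    have e3 : B a a' - 2 * Q a + (Q a + Q a - B a a') * 1 = 0 := by ring
    rw [e3, zero_smul, sub_zero, one_smul]
    abel
  have s3 : R h (a' + u) ha2 = E h hb * R h (a + u) ha1 * (E h hb)⁻¹ := by
    have ha3 : Q (act (E h hb) (a + u)) ≠ 0 := by rw [hmove]; exact ha2
    rw [R_conj h (E h hb) ha1 ha3]
    exact R_congr h _ _ hmove.symm
  have s4 : R h (a' + u) ha2 * R h (a + u) ha1 ∈ SS h := by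
    rw [s3]
    have : E h hb * R h (a + u) ha1 * (E h hb)⁻¹ * R h (a + u) ha1 =
        E h hb * (R h (a + u) ha1 * (E h hb)⁻¹ * (R h (a + u) ha1)⁻¹) := by
      rw [R_inv]
      group
    rw [this]
    exact Subgroup.mul_mem _ (E_mem h hb) (SS_conj h _ _ (Subgroup.inv_mem _ (E_mem h hb)))
  have key : R h a' ha' * R h a ha =
      (R h (a' + u) ha2 * R h a' ha')⁻¹ * (R h (a' + u) ha2 * R h (a + u) ha1) * (R h (a + u) ha1 * R h a ha) := by
    rw [_root_.mul_inv_rev, R_inv, R_inv]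
    have : R h a' ha' * R h (a' + u) ha2 * (R h (a' + u) ha2 * R h (a + u) ha1) * (R h (a + u) ha1 * R h a ha) =
        R h a' ha' * (R h (a' + u) ha2 * R h (a' + u) ha2) * (R h (a + u) ha1 * R h (a + u) ha1) * R h a ha := by
      group
    rw [this, R_mul_self, R_mul_self]
    group
  rw [key]
  exact Subgroup.mul_mem _ (Subgroup.mul_mem _ (Subgroup.inv_mem _ s2) s4) s1

variable (hnd : ND B (⊤ : Submodule F (ι → F))) {m' : ℕ}
  {t₀ : Fin (m' + 1 + 1) → (ι → F) × (ι → F)} (ht₀ : IsHF Q B t₀)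
  (hanis : ∀ w ∈ perpOf h t₀, Q w = 0 → w = 0)
include h hnd ht₀ hanis

/-- The commutator subgroup of the isometry group lies in the Siegel subgroup. -/
theorem comm_le_SS : commutator (OG F Q) ≤ SS h := by
  haveI : (SS h).Normal := SS_normal h
  set π := QuotientGroup.mk' (SS h) with hπ
  obtain ⟨h1, -⟩ := cons_tail_HF h ht₀
  obtain ⟨-, -, -, hpu, hpv, hpuv⟩ := cons_tail_HF h h1
  obtain ⟨X, hX⟩ : ∃ X, X = perpOf h (Fin.tail t₀) := ⟨_, rfl⟩
  obtain ⟨u, hu⟩ : ∃ u, u = (Fin.tail t₀ 0).1 := ⟨_, rfl⟩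
  obtain ⟨v, hv⟩ : ∃ v, v = (Fin.tail t₀ 0).2 := ⟨_, rfl⟩
  rw [← hu] at hpu hpuv
  rw [← hv] at hpv hpuv
  have hXuv : ∀ x ∈ X, B x u = 0 ∧ B x v = 0 := by
    intro x hx
    rw [hX] at hx
    have := hx 0
    rw [← hu, ← hv] at this
    exact this
  let Rset : Set (OG F Q ⧸ SS h) := π '' {g | ∃ a, ∃ ha : Q a ≠ 0, a ∈ X ∧ g = R h a ha}
  have hR2 : ∀ a (ha : Q a ≠ 0), π (R h a ha) * π (R h a ha) = 1 := by
    intro a ha
    rw [← map_mul, R_mul_self, map_one]
  have hcomm : ∀ x ∈ Rset, ∀ y ∈ Rset, x * y = y * x := by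
    rintro _ ⟨_, ⟨a, ha, haX, rfl⟩, rfl⟩ _ ⟨_, ⟨b, hb, hbX, rfl⟩, rfl⟩
    have hb' : Q (act (R h b hb) a) ≠ 0 := by rw [Q_act (Q := Q)]; exact ha
    have hconj := R_conj h (R h b hb) ha hb'
    rw [R_inv] at hconj
    have hX' : act (R h b hb) a ∈ X := by
      rw [act_R]
      exact X.sub_mem haX (X.smul_mem _ hbX)
    have hS := R_equiv h hpu hpv hpuv (hXuv a haX).1 (hXuv a haX).2 (hXuv _ hX').1 (hXuv _ hX').2 ha hb'
      (Q_act _ a)
    have h3 : π (R h (act (R h b hb) a) hb') * π (R h a ha) = 1 := by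
      rw [← map_mul]
      exact (QuotientGroup.eq_one_iff _).2 hS
    have h4 : π (R h (act (R h b hb) a) hb') = π (R h a ha) := by
      have h5 := hR2 a ha
      exact mul_right_cancel (h3.trans h5.symm)
    have h6 : π (R h b hb) * π (R h a ha) * π (R h b hb) = π (R h a ha) := by
      rw [← map_mul, ← map_mul, hconj, h4]
    calc π (R h a ha) * π (R h b hb) = (π (R h b hb) * π (R h a ha) * π (R h b hb)) * π (R h b hb) := by rw [h6]
      _ = π (R h b hb) * π (R h a ha) * (π (R h b hb) * π (R h b hb)) := by group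
      _ = π (R h b hb) * π (R h a ha) := by rw [hR2, mul_one]
  have hall : ∀ g : OG F Q, π g ∈ Subgroup.closure Rset := by
    intro g
    have hle : SS h ⊔ RS h X ≤ (Subgroup.closure Rset).comap π := by
      apply sup_le
      · intro x hx
        have : π x = 1 := (QuotientGroup.eq_one_iff x).2 hx
        change π x ∈ Subgroup.closure Rset
        rw [this]
        exact Subgroup.one_mem _
      · rw [RS, Subgroup.closure_le]
        intro x hx
        exact Subgroup.subset_closure ⟨x, hx, rfl⟩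
    apply hle
    rw [hX]
    exact all_good h hnd ht₀ hanis g
  have CG := Subgroup.isMulCommutative_closure hcomm
  have hc : ∀ x y : OG F Q, π x * π y = π y * π x := by
    intro x y
    have := CG.is_comm.comm ⟨π x, hall x⟩ ⟨π y, hall y⟩
    exact congrArg Subtype.val this
  rw [commutator_def, Subgroup.commutator_le]
  intro x _ y _
  apply (QuotientGroup.eq_one_iff _).1
  change π ⁅x, y⁆ = 1
  rw [map_commutatorElement, commutatorElement_eq_one_iff_mul_comm]
  exact hc x y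

end Comm

section Perfect
variable (h : QF Q B)

include h in
lemma comm_step {g : OG F Q} (hg : g ∈ SS h) {u a : ι → F} (hgu : act g u = u) (hA : Adm Q B u a)
    (hA' : Adm Q B u (act g a - a)) : E h hA' ∈ ⁅SS h, SS h⁆ := by
  have hmem := Subgroup.commutator_mem_commutator hg (E_mem h hA)
  rw [commutatorElement_def, E_conj h, E_inv h] at hmem
  have hA2 : Adm Q B u (act g a) := by
    have := adm_conj h g hA
    rwa [hgu] at this
  rw [E_congr h _ hA2 hgu rfl, E_mul h] at hmem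
  rwa [E_congr h _ hA' rfl (by rw [sub_eq_add_neg])] at hmem

variable (hnd : ND B (⊤ : Submodule F (ι → F))) {m : ℕ}
  {t₀ : Fin m → (ι → F) × (ι → F)} (ht₀ : IsHF Q B t₀) (hm : 3 ≤ m)
include h hnd ht₀ hm

/-- Every Siegel transformation lies in the commutator subgroup of the Siegel group. -/
theorem E_mem_comm {u a : ι → F} (hA : Adm Q B u a) : E h hA ∈ ⁅SS h, SS h⁆ := by
  by_cases hu0 : u = 0
  · subst hu0
    rw [E_zero_left h]
    exact Subgroup.one_mem _
  have huu := hA.uu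
  obtain ⟨D, hD⟩ : ∃ D, D = ⁅SS h, SS h⁆ := ⟨_, rfl⟩
  rw [← hD]
  let L : (ι → F) → Prop := fun a => ∃ hA : Adm Q B u a, E h hA ∈ D
  have Ladd : ∀ {a b}, L a → L b → L (a + b) := by
    rintro a b ⟨h1, h2⟩ ⟨h3, h4⟩
    refine ⟨adm_add h h1 h3, ?_⟩
    rw [← E_mul h h1 h3]
    exact Subgroup.mul_mem _ h2 h4
  have Lneg : ∀ {a}, L a → L (-a) := by
    rintro a ⟨h1, h2⟩
    refine ⟨adm_neg h h1, ?_⟩
    rw [← E_inv h h1]
    exact Subgroup.inv_mem _ h2
  have Lsub : ∀ {a b}, L a → L b → L (a - b) := by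
    intro a b h1 h2
    rw [sub_eq_add_neg]
    exact Ladd h1 (Lneg h2)
  have Lcongr : ∀ {a b : ι → F}, a = b → L a → L b := by
    intro a b e h1
    rwa [← e]
  -- the frames
  have hON0 : IsHF Q B (Fin.elim0 : Fin 0 → (ι → F) × (ι → F)) := fun i => i.elim0
  obtain ⟨v, -, hvv, hvu⟩ := exists_partner h hnd (Submodule.mem_top (x := u)) hu0 huu
  have huv : B u v = 1 := by rw [h.symm]; exact hvu
  have hF1 : IsHF Q B (Fin.cons (u, v) Fin.elim0 : Fin 1 → (ι → F) × (ι → F)) :=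
    (isHF_cons_iff h (u, v) _).2 ⟨hON0, fun i => i.elim0, fun i => i.elim0, huu, hvv, huv⟩
  have mem1 : ∀ x, x ∈ perpOf h (Fin.cons (u, v) Fin.elim0 : Fin 1 → (ι → F) × (ι → F)) ↔
      B x u = 0 ∧ B x v = 0 := by
    intro x
    rw [perpOf_cons]
    constructor
    · rintro ⟨-, h1, h2⟩
      exact ⟨h1, h2⟩
    · rintro ⟨h1, h2⟩
      exact ⟨fun i => i.elim0, h1, h2⟩
  obtain ⟨X, hX⟩ : ∃ X, X = perpOf h (Fin.cons (u, v) Fin.elim0 : Fin 1 → (ι → F) × (ι → F)) := ⟨_, rfl⟩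
  have hndX : ND B X := by
    rw [hX]
    exact ND_perpOf h hnd _ hF1
  obtain ⟨w, hw, hw0, hww⟩ := hasSing h ht₀ (k := 1) (by omega) _ hF1
  rw [← hX] at hw
  obtain ⟨w', hw', hw'w', hw'w⟩ := exists_partner h hndX hw hw0 hww
  have hww' : B w w' = 1 := by rw [h.symm]; exact hw'w
  have hF2 : IsHF Q B (Fin.cons (w, w') (Fin.cons (u, v) Fin.elim0) : Fin 2 → (ι → F) × (ι → F)) :=
    (isHF_cons_iff h (w, w') _).2 ⟨hF1, hX ▸ hw, hX ▸ hw', hww, hw'w', hww'⟩
  have mem2 : ∀ x, x ∈ perpOf h (Fin.cons (w, w') (Fin.cons (u, v) Fin.elim0) : Fin 2 → (ι → F) × (ι → F)) ↔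
      x ∈ X ∧ B x w = 0 ∧ B x w' = 0 := by
    intro x
    rw [perpOf_cons, hX]
    rfl
  obtain ⟨Y, hY⟩ : ∃ Y, Y = perpOf h (Fin.cons (w, w') (Fin.cons (u, v) Fin.elim0) : Fin 2 → (ι → F) × (ι → F)) := ⟨_, rfl⟩
  have hndY : ND B Y := by
    rw [hY]
    exact ND_perpOf h hnd _ hF2
  obtain ⟨z, hz, hz0, hzz⟩ := hasSing h ht₀ (k := 2) (by omega) _ hF2
  rw [← hY] at hz
  obtain ⟨z', hz', hz'z', hz'z⟩ := exists_partner h hndY hz hz0 hzz
  have hzz' : B z z' = 1 := by rw [h.symm]; exact hz'z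
  have memY : ∀ x, x ∈ Y ↔ (B x u = 0 ∧ B x v = 0) ∧ B x w = 0 ∧ B x w' = 0 := by
    intro x
    rw [hY, mem2, hX, mem1]
  have hwX := (mem1 w).1 (hX ▸ hw)
  have hw'X := (mem1 w').1 (hX ▸ hw')
  -- basic elements of `L`
  have Lb1 : ∀ b ∈ Y, L (b - Q b • w) := by
    intro b hb
    obtain ⟨⟨b1, b2⟩, b3, b4⟩ := (memY b).1 hb
    have A : Adm Q B w b := ⟨hww, b3⟩
    have hgu : act (E h A) u = u :=
      act_E_fix h A (herm_symm0 h hwX.1) (herm_symm0 h b1)
    have A' : Adm Q B u w' := ⟨huu, hw'X.1⟩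
    have e : act (E h A) w' - w' = b - Q b • w := by
      rw [act_E]
      unfold Efun
      rw [hw'w, herm_symm0 h b4]
      funext i
      simp only [Pi.add_apply, Pi.sub_apply, Pi.smul_apply, smul_eq_mul]
      ring
    have A2 : Adm Q B u (act (E h A) w' - w') :=
      ⟨huu, by rw [e, h.sub_left, h.smul_left, b1, hwX.1]; ring⟩
    refine Lcongr e ⟨A2, ?_⟩
    rw [hD]
    exact comm_step h (E_mem h A) hgu A' A2
  have Lb2 : ∀ b ∈ Y, L (b - Q b • w') := by
    intro b hb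
    obtain ⟨⟨b1, b2⟩, b3, b4⟩ := (memY b).1 hb
    have A : Adm Q B w' b := ⟨hw'w', b4⟩
    have hgu : act (E h A) u = u :=
      act_E_fix h A (herm_symm0 h hw'X.1) (herm_symm0 h b1)
    have A' : Adm Q B u w := ⟨huu, hwX.1⟩
    have e : act (E h A) w - w = b - Q b • w' := by
      rw [act_E]
      unfold Efun
      rw [hww', herm_symm0 h b3]
      funext i
      simp only [Pi.add_apply, Pi.sub_apply, Pi.smul_apply, smul_eq_mul]
      ring
    have A2 : Adm Q B u (act (E h A) w - w) :=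
      ⟨huu, by rw [e, h.sub_left, h.smul_left, b1, hw'X.1]; ring⟩
    refine Lcongr e ⟨A2, ?_⟩
    rw [hD]
    exact comm_step h (E_mem h A) hgu A' A2
  have hzQ : ∀ c : F, Q (c • z') = 0 := by
    intro c
    rw [h.smul, hz'z', mul_zero]
  have hsumQ : ∀ c : F, Q (z + c • z') = c := by
    intro c
    rw [h.add, hzQ, hzz, h.smul_right, hzz']
    ring
  have Lw : ∀ c : F, L (c • w) := by
    intro c
    have l1 := Lb1 z hz
    rw [hzz, zero_smul, sub_zero] at l1
    have l2 := Lb1 (c • z') (Y.smul_mem _ hz')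
    rw [hzQ, zero_smul, sub_zero] at l2
    have l3 := Lb1 (z + c • z') (Y.add_mem hz (Y.smul_mem _ hz'))
    rw [hsumQ] at l3
    refine Lcongr ?_ (Lsub (Ladd l1 l2) l3)
    abel
  have Lw' : ∀ c : F, L (c • w') := by
    intro c
    have l1 := Lb2 z hz
    rw [hzz, zero_smul, sub_zero] at l1
    have l2 := Lb2 (c • z') (Y.smul_mem _ hz')
    rw [hzQ, zero_smul, sub_zero] at l2
    have l3 := Lb2 (z + c • z') (Y.add_mem hz (Y.smul_mem _ hz'))
    rw [hsumQ] at l3
    refine Lcongr ?_ (Lsub (Ladd l1 l2) l3)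
    abel
  have LY : ∀ b ∈ Y, L b := by
    intro b hb
    refine Lcongr ?_ (Ladd (Lb1 b hb) (Lw (Q b)))
    abel
  have LX : ∀ x ∈ X, L x := by
    intro x hx
    have hxX := (mem1 x).1 (hX ▸ hx)
    have hx0 : x - B x w' • w - B x w • w' ∈ Y := by
      rw [memY]
      refine ⟨⟨?_, ?_⟩, ?_, ?_⟩
      · rw [h.sub_left, h.sub_left, h.smul_left, h.smul_left, hxX.1, hwX.1, hw'X.1]
        ring
      · rw [h.sub_left, h.sub_left, h.smul_left, h.smul_left, hxX.2, hwX.2, hw'X.2]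
        ring
      · rw [h.sub_left, h.sub_left, h.smul_left, h.smul_left, Buu h hww, hw'w]
        ring
      · rw [h.sub_left, h.sub_left, h.smul_left, h.smul_left, hww', Buu h hw'w']
        ring
    refine Lcongr ?_ (Ladd (Ladd (LY _ hx0) (Lw (B x w'))) (Lw' (B x w)))
    abel
  have hau := hA.au
  have ha₁ : a - B a v • u ∈ X := by
    rw [hX, mem1]
    constructor
    · rw [h.sub_left, h.smul_left, Buu h huu, hau]
      ring
    · rw [h.sub_left, h.smul_left, huv]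
      ring
  have Lu : L (B a v • u) := by
    have A : Adm Q B u (B a v • u) := ⟨huu, by rw [h.smul_left, Buu h huu, mul_zero]⟩
    refine ⟨A, ?_⟩
    rw [E_self h]
    exact Subgroup.one_mem _
  obtain ⟨A3, h3⟩ := Lcongr (by abel : (a - B a v • u) + B a v • u = a) (Ladd (LX _ ha₁) Lu)
  exact h3

theorem SS_le_comm : SS h ≤ ⁅SS h, SS h⁆ := by
  rw [SS, Subgroup.closure_le]
  rintro _ ⟨u, a, hA, rfl⟩
  have := E_mem_comm h hnd ht₀ hm hA
  rwa [SS] at this

end Perfect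

end Cfsg.Agent.Lead.Omega
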