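import Cfsg.Agent.Lib.Lead.OmegaBase
/-! Frames, Witt cancellation, transitivity of the Siegel subgroup; generation. -/
set_option autoImplicit false
set_option linter.unusedSimpArgs false
set_option linter.style.haveILetI false
set_option linter.unusedSectionVars false
set_option linter.unusedVariables false
namespace Cfsg.Agent.Lead.Omega
open Matrix Cfsg.Agent.Lead.Ortho
open scoped commutatorElement

variable {F : Type*} [Field F] [Fintype F] {ι : Type} [Fintype ι] [DecidableEq ι]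
variable {Q : (ι → F) → F} {B : (ι → F) → (ι → F) → F}

section Frames
variable (h : QF Q B)
include h

lemma perpOf_zero (t : Fin 0 → (ι → F) × (ι → F)) : perpOf h t = ⊤ := by
  ext x
  simp only [Submodule.mem_top, iff_true]
  exact fun i => i.elim0

lemma cons_tail_HF {k : ℕ} {t : Fin (k + 1) → (ι → F) × (ι → F)} (ht : IsHF Q B t) :
    IsHF Q B (Fin.tail t) ∧ (t 0).1 ∈ perpOf h (Fin.tail t) ∧ (t 0).2 ∈ perpOf h (Fin.tail t) ∧
      Q (t 0).1 = 0 ∧ Q (t 0).2 = 0 ∧ B (t 0).1 (t 0).2 = 1 := by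
  have hp : IsHF Q B (Fin.cons (t 0) (Fin.tail t) : Fin (k + 1) → (ι → F) × (ι → F)) := by
    rw [Fin.cons_self_tail]
    exact ht
  exact (isHF_cons_iff h _ _).1 hp

lemma perpOf_eq_cons {k : ℕ} (t : Fin (k + 1) → (ι → F) × (ι → F)) :
    perpOf h t = perp2 h (perpOf h (Fin.tail t)) (t 0).1 (t 0).2 := by
  conv_lhs => rw [← Fin.cons_self_tail t]
  rw [perpOf_cons]

lemma ND_perpOf (hnd : ND B (⊤ : Submodule F (ι → F))) {k : ℕ} (t : Fin k → (ι → F) × (ι → F))
    (ht : IsHF Q B t) : ND B (perpOf h t) := by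
  induction k with
  | zero => rw [perpOf_zero]; exact hnd
  | succ k ih =>
    obtain ⟨h1, h2, h3, h4, h5, h6⟩ := cons_tail_HF h ht
    rw [perpOf_eq_cons]
    exact ND_perp2 h (ih _ h1) h2 h3 h4 h5 h6

/-- Witt cancellation in numerical form. -/
lemma perp_count {k : ℕ} (t t' : Fin k → (ι → F) × (ι → F)) (ht : IsHF Q B t) (ht' : IsHF Q B t') :
    Nat.card (perpOf h t) = Nat.card (perpOf h t') ∧ cntS Q (perpOf h t) 0 = cntS Q (perpOf h t') 0 := by
  induction k with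
  | zero => rw [perpOf_zero, perpOf_zero]; exact ⟨rfl, rfl⟩
  | succ k ih =>
    obtain ⟨h1, h2, h3, h4, h5, h6⟩ := cons_tail_HF h ht
    obtain ⟨h1', h2', h3', h4', h5', h6'⟩ := cons_tail_HF h ht'
    obtain ⟨i1, i2⟩ := ih _ _ h1 h1'
    have c1 := card_pair h h2 h3 h4 h5 h6
    have c1' := card_pair h h2' h3' h4' h5' h6'
    have c2 := cnt_rec h h2 h3 h4 h5 h6 0
    have c2' := cnt_rec h h2' h3' h4' h5' h6' 0
    rw [perpOf_eq_cons h t, perpOf_eq_cons h t']
    have hq0 : 0 < Fintype.card F := Fintype.card_pos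
    have e1 : Nat.card (perp2 h (perpOf h (Fin.tail t)) (t 0).1 (t 0).2) =
        Nat.card (perp2 h (perpOf h (Fin.tail t')) (t' 0).1 (t' 0).2) := by
      rw [i1] at c1
      rw [c1'] at c1
      exact (Nat.eq_of_mul_eq_mul_left (by positivity) c1).symm
    refine ⟨e1, ?_⟩
    rw [i2, c2', e1] at c2
    have : Fintype.card F * cntS Q (perp2 h (perpOf h (Fin.tail t)) (t 0).1 (t 0).2) 0 =
        Fintype.card F * cntS Q (perp2 h (perpOf h (Fin.tail t')) (t' 0).1 (t' 0).2) 0 := by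
      omega
    exact Nat.eq_of_mul_eq_mul_left hq0 this

lemma one_lt_cnt_iff (S : Submodule F (ι → F)) :
    1 < cntS Q S 0 ↔ ∃ w ∈ S, w ≠ 0 ∧ Q w = 0 := by
  constructor
  · intro hc
    haveI : Finite {x : ι → F // x ∈ S ∧ Q x = 0} := inferInstance
    have hnt := (Finite.one_lt_card_iff_nontrivial).1 hc
    obtain ⟨x, hx⟩ := exists_ne (⟨0, S.zero_mem, h.Q_zero⟩ : {x : ι → F // x ∈ S ∧ Q x = 0})
    refine ⟨x.1, x.2.1, ?_, x.2.2⟩
    intro h0
    exact hx (Subtype.ext h0)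
  · rintro ⟨w, hw, hw0, hQw⟩
    apply Finite.one_lt_card_iff_nontrivial.2
    refine ⟨⟨⟨0, S.zero_mem, h.Q_zero⟩, ⟨w, hw, hQw⟩, ?_⟩⟩
    intro he
    exact hw0 (congrArg Subtype.val he).symm

lemma Q_sub (x y : ι → F) : Q (x - y) = Q x + Q y - B x y := by
  have : x - y = x + (-1 : F) • y := by simp [sub_eq_add_neg]
  rw [this, h.add, h.smul, h.smul_right]
  ring

lemma herm_symm0 {x y : ι → F} (e : B x y = 0) : B y x = 0 := by rw [h.symm]; exact e

/-- A frame of length less than the Witt index leaves a singular vector. -/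
lemma hasSing {m : ℕ} {t₀ : Fin m → (ι → F) × (ι → F)} (ht₀ : IsHF Q B t₀) {k : ℕ} (hk : k < m)
    (t : Fin k → (ι → F) × (ι → F)) (ht : IsHF Q B t) :
    ∃ w ∈ perpOf h t, w ≠ 0 ∧ Q w = 0 := by
  rw [← one_lt_cnt_iff h]
  let τ : Fin k → (ι → F) × (ι → F) := fun i => t₀ (Fin.castLE hk.le i)
  have hτ : IsHF Q B τ := by
    intro i j
    have := ht₀ (Fin.castLE hk.le i) (Fin.castLE hk.le j)
    simpa [τ, Fin.castLE_inj] using this
  rw [(perp_count h t τ ht hτ).2, one_lt_cnt_iff h]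
  refine ⟨(t₀ ⟨k, hk⟩).1, ?_, ?_, (ht₀ ⟨k, hk⟩ ⟨k, hk⟩).2.2.1⟩
  · intro i
    have hne : Fin.castLE hk.le i ≠ (⟨k, hk⟩ : Fin m) := by
      intro he
      have := congrArg Fin.val he
      simp only [Fin.val_castLE] at this
      exact absurd this (Nat.ne_of_lt i.2)
    constructor
    · rw [h.symm]
      exact ((ht₀ (Fin.castLE hk.le i) ⟨k, hk⟩).2.1 hne).1
    · have e := (ht₀ ⟨k, hk⟩ (Fin.castLE hk.le i)).1
      rw [if_neg hne.symm] at e
      exact e
  · intro h0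
    have e := (ht₀ ⟨k, hk⟩ ⟨k, hk⟩).1
    rw [if_pos rfl, h0, h.zero_left] at e
    exact zero_ne_one e

lemma iso_adjust {u y : ι → F} (huu : Q u = 0) (hy : B y u ≠ 0) : ∃ μ : F, Q (y + μ • u) = 0 := by
  refine ⟨-(Q y) / B y u, ?_⟩
  rw [h.add, h.smul, huu, h.smul_right]
  field_simp
  ring

lemma exists_perp_ne' {S : Submodule F (ι → F)} (hS : ND B S) {x : ι → F} (hx : x ∈ S) (hx0 : x ≠ 0) :
    ∃ y ∈ S, B y x ≠ 0 := by
  obtain ⟨y, hy, hxy⟩ := hS x hx hx0
  exact ⟨y, hy, by rw [h.symm]; exact hxy⟩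

/-- Partners. -/
lemma exists_partner {S : Submodule F (ι → F)} (hS : ND B S) {u : ι → F} (hu : u ∈ S) (hu0 : u ≠ 0)
    (huu : Q u = 0) : ∃ v ∈ S, Q v = 0 ∧ B v u = 1 := by
  obtain ⟨y, hy, hyu⟩ := exists_perp_ne' h hS hu hu0
  obtain ⟨μ, hμ⟩ := iso_adjust h huu hyu
  have hz : y + μ • u ∈ S := S.add_mem hy (S.smul_mem _ hu)
  have hzu : B (y + μ • u) u = B y u := by
    rw [h.add_left, h.smul_left, Buu h huu]
    ring
  refine ⟨(B y u)⁻¹ • (y + μ • u), S.smul_mem _ hz, ?_, ?_⟩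
  · rw [h.smul, hμ, mul_zero]
  · rw [h.smul_left, hzu, inv_mul_cancel₀ hyu]

/-- A third singular vector. -/
lemma exists_third {S : Submodule F (ι → F)} (hS : ND B S) {u w : ι → F} (hu : u ∈ S) (hw : w ∈ S)
    (huu : Q u = 0) (hu0 : u ≠ 0) (hw0 : w ≠ 0) (hwu : B w u = 0) :
    ∃ z ∈ S, Q z = 0 ∧ B z u ≠ 0 ∧ B z w ≠ 0 := by
  obtain ⟨y₁, hy₁, hy₁u⟩ := exists_perp_ne' h hS hu hu0
  obtain ⟨y₂, hy₂, hy₂w⟩ := exists_perp_ne' h hS hw hw0
  obtain ⟨y, hy, hyu, hyw⟩ : ∃ y ∈ S, B y u ≠ 0 ∧ B y w ≠ 0 := by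
    by_cases h1 : B y₁ w = 0
    · by_cases h2 : B y₂ u = 0
      · refine ⟨y₁ + y₂, S.add_mem hy₁ hy₂, ?_, ?_⟩
        · rw [h.add_left, h2, add_zero]
          exact hy₁u
        · rw [h.add_left, h1, zero_add]
          exact hy₂w
      · exact ⟨y₂, hy₂, h2, hy₂w⟩
    · exact ⟨y₁, hy₁, hy₁u, h1⟩
  obtain ⟨μ, hμ⟩ := iso_adjust h huu hyu
  have huw : B u w = 0 := herm_symm0 h hwu
  refine ⟨y + μ • u, S.add_mem hy (S.smul_mem _ hu), hμ, ?_, ?_⟩
  · rw [h.add_left, h.smul_left, Buu h huu, mul_zero, add_zero]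
    exact hyu
  · rw [h.add_left, h.smul_left, huw, mul_zero, add_zero]
    exact hyw

/-- Values of the form on the complement of a short frame. -/
lemma exists_univ (hnd : ND B (⊤ : Submodule F (ι → F))) {m : ℕ} {t₀ : Fin m → (ι → F) × (ι → F)}
    (ht₀ : IsHF Q B t₀) {k : ℕ} (hk : k < m)
    (t : Fin k → (ι → F) × (ι → F)) (ht : IsHF Q B t) (c : F) :
    ∃ a ∈ perpOf h t, Q a = c := by
  obtain ⟨z, hz, hz0, hQz⟩ := hasSing h ht₀ hk t ht
  obtain ⟨z', hz', hQz', hzz'⟩ := exists_partner h (ND_perpOf h hnd t ht) hz hz0 hQz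
  refine ⟨c • z + z', (perpOf h t).add_mem ((perpOf h t).smul_mem _ hz) hz', ?_⟩
  rw [h.add, h.smul, hQz, hQz', h.smul_left, h.symm z z', hzz']
  ring

end Frames

/-- The subgroup generated by Siegel transformations. -/
def SS (h : QF Q B) : Subgroup (OG F Q) :=
  Subgroup.closure {g | ∃ u a, ∃ hA : Adm Q B u a, g = E h hA}

section Sie
variable (h : QF Q B)

lemma E_mem {u a : ι → F} (hA : Adm Q B u a) : E h hA ∈ SS h :=
  Subgroup.subset_closure ⟨u, a, hA, rfl⟩

lemma SS_conj (g x : OG F Q) (hx : x ∈ SS h) : g * x * g⁻¹ ∈ SS h := by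
  induction hx using Subgroup.closure_induction with
  | mem x hx =>
    obtain ⟨u, a, hA, rfl⟩ := hx
    rw [E_conj h]
    exact E_mem h _
  | one => simp [Subgroup.one_mem]
  | mul x y _ _ h1 h2 =>
    have : g * (x * y) * g⁻¹ = (g * x * g⁻¹) * (g * y * g⁻¹) := by group
    rw [this]
    exact Subgroup.mul_mem _ h1 h2
  | inv x _ h1 =>
    have : g * x⁻¹ * g⁻¹ = (g * x * g⁻¹)⁻¹ := by group
    rw [this]
    exact Subgroup.inv_mem _ h1

instance SS_normal : (SS h).Normal := ⟨fun x hx g => SS_conj h g x hx⟩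

/-- Pointwise fixing a frame. -/
def Fix {k : ℕ} (t : Fin k → (ι → F) × (ι → F)) (g : OG F Q) : Prop :=
  ∀ i, act g (t i).1 = (t i).1 ∧ act g (t i).2 = (t i).2

lemma Fix.mul {k : ℕ} {t : Fin k → (ι → F) × (ι → F)} {g g' : OG F Q} (h1 : Fix t g) (h2 : Fix t g') :
    Fix t (g * g') := fun i => ⟨by rw [act_mul, (h2 i).1, (h1 i).1], by rw [act_mul, (h2 i).2, (h1 i).2]⟩

lemma Fix.inv {k : ℕ} {t : Fin k → (ι → F) × (ι → F)} {g : OG F Q} (h1 : Fix t g) : Fix t g⁻¹ :=
  fun i => ⟨by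
    have := act_inv_act g (t i).1
    rwa [(h1 i).1] at this, by
    have := act_inv_act g (t i).2
    rwa [(h1 i).2] at this⟩

/-- Elements of `SS` fixing a frame. -/
def InT {k : ℕ} (t : Fin k → (ι → F) × (ι → F)) (g : OG F Q) : Prop :=
  g ∈ SS h ∧ Fix t g

include h in
lemma InT.mul {k : ℕ} {t : Fin k → (ι → F) × (ι → F)} {g g' : OG F Q} (h1 : InT h t g) (h2 : InT h t g') :
    InT h t (g * g') := ⟨Subgroup.mul_mem _ h1.1 h2.1, h1.2.mul h2.2⟩

include h in
lemma perp_mem_symm {k : ℕ} {t : Fin k → (ι → F) × (ι → F)} {x : ι → F} (hx : x ∈ perpOf h t) (i : Fin k) :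
    B (t i).1 x = 0 ∧ B (t i).2 x = 0 :=
  ⟨by rw [h.symm]; exact (hx i).1, by rw [h.symm]; exact (hx i).2⟩

include h in
lemma E_InT {k : ℕ} {t : Fin k → (ι → F) × (ι → F)} {u a : ι → F} (hA : Adm Q B u a) (hu : u ∈ perpOf h t)
    (ha : a ∈ perpOf h t) : InT h t (E h hA) :=
  ⟨E_mem h hA, fun i => ⟨act_E_fix h hA (perp_mem_symm h hu i).1 (perp_mem_symm h ha i).1,
    act_E_fix h hA (perp_mem_symm h hu i).2 (perp_mem_symm h ha i).2⟩⟩

include h in
lemma fix_mem_perp {k : ℕ} {t : Fin k → (ι → F) × (ι → F)} {g : OG F Q} (hg : Fix t g) {x : ι → F}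
    (hx : x ∈ perpOf h t) : act g x ∈ perpOf h t := by
  intro i
  constructor
  · have := B_act h g x (t i).1
    rw [(hg i).1] at this
    rw [this]
    exact (hx i).1
  · have := B_act h g x (t i).2
    rw [(hg i).2] at this
    rw [this]
    exact (hx i).2

include h in
/-- Moving partners by Siegel transformations. -/
lemma exists_E_map {u v v' : ι → F} (huu : Q u = 0) (hvv : Q v = 0) (hv'v' : Q v' = 0)
    (hc0 : B v u ≠ 0) (hc : B v' u = B v u) :
    ∃ a, ∃ hA : Adm Q B u a, a = (B v u)⁻¹ • (v' - v) ∧ Efun Q B u a v = v' := by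
  obtain ⟨c, hcdef⟩ : ∃ c, c = B v u := ⟨_, rfl⟩
  rw [← hcdef] at hc0 hc ⊢
  obtain ⟨a, ha⟩ : ∃ a, a = c⁻¹ • (v' - v) := ⟨_, rfl⟩
  have hau : B a u = 0 := by
    rw [ha, h.smul_left, h.sub_left, hc, ← hcdef, sub_self, mul_zero]
  have hva : B v a = c⁻¹ * B v v' := by
    rw [ha, h.smul_right, h.sub_right, Buu h hvv, sub_zero]
  have hQa : Q a = -(c⁻¹ ^ 2 * B v v') := by
    rw [ha, h.smul, Q_sub h, hvv, hv'v', h.symm v' v]
    ring
  refine ⟨a, ⟨huu, hau⟩, ha, ?_⟩
  unfold Efun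
  rw [← hcdef, hva, hQa, ha, smul_smul, mul_comm c, inv_mul_cancel₀ hc0, one_smul]
  have e1 : c⁻¹ * B v v' + -(c⁻¹ ^ 2 * B v v') * c = 0 := by
    field_simp
    ring
  rw [e1, zero_smul, sub_zero]
  abel

variable (hnd : ND B (⊤ : Submodule F (ι → F))) {m : ℕ} {t₀ : Fin m → (ι → F) × (ι → F)}
  (ht₀ : IsHF Q B t₀)
include h hnd ht₀

lemma trans_nonperp {k : ℕ} (hk : k + 2 ≤ m) {t : Fin k → (ι → F) × (ι → F)} (ht : IsHF Q B t)
    {u w : ι → F} (hu : u ∈ perpOf h t) (hw : w ∈ perpOf h t) (huu : Q u = 0) (hww : Q w = 0)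
    (hwu : B w u ≠ 0) : ∃ g, InT h t g ∧ act g u = w := by
  obtain ⟨c, hc⟩ : ∃ c, c = B w u := ⟨_, rfl⟩
  rw [← hc] at hwu
  obtain ⟨v, hv⟩ : ∃ v, v = c⁻¹ • w := ⟨_, rfl⟩
  have hvX : v ∈ perpOf h t := by rw [hv]; exact (perpOf h t).smul_mem _ hw
  have hvv : Q v = 0 := by rw [hv, h.smul, hww, mul_zero]
  have hvu : B v u = 1 := by rw [hv, h.smul_left, ← hc, inv_mul_cancel₀ hwu]
  have huv : B u v = 1 := by rw [h.symm, hvu]
  have hcv : c • v = w := by rw [hv, smul_smul, mul_inv_cancel₀ hwu, one_smul]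
  have ht' : IsHF Q B (Fin.cons (u, v) t : Fin (k + 1) → (ι → F) × (ι → F)) :=
    (isHF_cons_iff h (u, v) t).2 ⟨ht, hu, hvX, huu, hvv, huv⟩
  obtain ⟨a', ha', hQa'⟩ := exists_univ h hnd ht₀ (k := k + 1) (by omega) _ ht' (-c)
  rw [perpOf_cons] at ha'
  obtain ⟨ha'X, ha'u, ha'v⟩ := ha'
  simp only at ha'u ha'v
  have hua' : B u a' = 0 := herm_symm0 h ha'u
  have hva' : B v a' = 0 := herm_symm0 h ha'v
  have A1 : Adm Q B v a' := ⟨hvv, ha'v⟩
  obtain ⟨a₂, ha₂⟩ : ∃ a₂, a₂ = (-c⁻¹) • a' := ⟨_, rfl⟩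
  have ha₂X : a₂ ∈ perpOf h t := by rw [ha₂]; exact (perpOf h t).smul_mem _ ha'X
  have ha₂u : B a₂ u = 0 := by rw [ha₂, h.smul_left, ha'u, mul_zero]
  have hua₂ : B u a₂ = 0 := herm_symm0 h ha₂u
  have hva₂ : B v a₂ = 0 := by rw [ha₂, h.smul_right, hva', mul_zero]
  have A2 : Adm Q B u a₂ := ⟨huu, ha₂u⟩
  refine ⟨E h A2 * E h A1, (E_InT h A2 hu ha₂X).mul h (E_InT h A1 hvX ha'X), ?_⟩
  rw [act_mul, act_E, act_E]
  have y1 : Efun Q B v a' u = u + a' + c • v := by
    unfold Efun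
    rw [huv, hua', hQa']
    funext i
    simp only [Pi.add_apply, Pi.sub_apply, Pi.smul_apply, smul_eq_mul]
    ring
  rw [y1]
  have y2 : B (u + a' + c • v) u = c := by
    rw [h.add_left, h.add_left, h.smul_left, Buu h huu, ha'u, hvu]
    ring
  have y3 : B (u + a' + c • v) a₂ = 2 := by
    rw [h.add_left, h.add_left, h.smul_left, hua₂, hva₂, ha₂, h.smul_right, h.self, hQa']
    field_simp
    ring
  have y4 : Q a₂ = - c⁻¹ := by
    rw [ha₂, h.smul, hQa']
    field_simp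
  unfold Efun
  rw [y2, y3, y4, ← hcv, ha₂]
  funext i
  simp only [Pi.add_apply, Pi.sub_apply, Pi.smul_apply, smul_eq_mul]
  field_simp
  ring

lemma trans_X {k : ℕ} (hk : k + 2 ≤ m) {t : Fin k → (ι → F) × (ι → F)} (ht : IsHF Q B t)
    {u w : ι → F} (hu : u ∈ perpOf h t) (hw : w ∈ perpOf h t) (huu : Q u = 0) (hww : Q w = 0)
    (hu0 : u ≠ 0) (hw0 : w ≠ 0) : ∃ g, InT h t g ∧ act g u = w := by
  by_cases hwu : B w u = 0
  · obtain ⟨z, hz, hQz, hzu, hzw⟩ := exists_third h (ND_perpOf h hnd t ht) hu hw huu hu0 hw0 hwu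
    have hwz : B w z ≠ 0 := by rw [h.symm]; exact hzw
    obtain ⟨g₁, hg₁, e1⟩ := trans_nonperp h hnd ht₀ hk ht hu hz huu hQz hzu
    obtain ⟨g₂, hg₂, e2⟩ := trans_nonperp h hnd ht₀ hk ht hz hw hQz hww hwz
    exact ⟨g₂ * g₁, hg₂.mul h hg₁, by rw [act_mul, e1, e2]⟩
  · exact trans_nonperp h hnd ht₀ hk ht hu hw huu hww hwu

/-- Transitivity on hyperbolic pairs. -/
lemma trans_pair {k : ℕ} (hk : k + 2 ≤ m) {t : Fin k → (ι → F) × (ι → F)} (ht : IsHF Q B t)
    {u v u' v' : ι → F} (hu : u ∈ perpOf h t) (hv : v ∈ perpOf h t) (hu' : u' ∈ perpOf h t)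
    (hv' : v' ∈ perpOf h t) (huu : Q u = 0) (hvv : Q v = 0) (hu'u' : Q u' = 0) (hv'v' : Q v' = 0)
    (hvu : B v u = 1) (hv'u' : B v' u' = 1) : ∃ g, InT h t g ∧ act g u = u' ∧ act g v = v' := by
  have hu0 : u ≠ 0 := by
    rintro rfl
    rw [h.zero_right] at hvu
    exact zero_ne_one hvu
  have hu'0 : u' ≠ 0 := by
    rintro rfl
    rw [h.zero_right] at hv'u'
    exact zero_ne_one hv'u'
  obtain ⟨g₁, hg₁, e1⟩ := trans_X h hnd ht₀ hk ht hu hu' huu hu'u' hu0 hu'0
  have hv₁ : B (act g₁ v) u' = 1 := by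
    rw [← e1, B_act h]
    exact hvu
  have hv₁X := fix_mem_perp h hg₁.2 hv
  have hv₁Q : Q (act g₁ v) = 0 := by rw [Q_act (Q := Q)]; exact hvv
  obtain ⟨a, hA, haeq, hEv⟩ := exists_E_map h hu'u' hv₁Q hv'v' (by rw [hv₁]; exact one_ne_zero)
    (by rw [hv₁]; exact hv'u')
  have haX : a ∈ perpOf h t := by
    rw [haeq]
    exact (perpOf h t).smul_mem _ ((perpOf h t).sub_mem hv' hv₁X)
  refine ⟨E h hA * g₁, (E_InT h hA hu' haX).mul h hg₁, ?_, ?_⟩
  · rw [act_mul, e1]
    exact act_E_fix h hA (Buu h hu'u') (herm_symm0 h hA.au)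
  · rw [act_mul, act_E, hEv]

/-- Transitivity on frames of length less than the Witt index. -/
lemma trans_frame : ∀ (k : ℕ), k + 1 ≤ m → ∀ t t' : Fin k → (ι → F) × (ι → F), IsHF Q B t → IsHF Q B t' →
    ∃ s ∈ SS h, ∀ i, act s (t i).1 = (t' i).1 ∧ act s (t i).2 = (t' i).2 := by
  intro k
  induction k with
  | zero =>
    intro _ t t' _ _
    exact ⟨1, Subgroup.one_mem _, fun i => i.elim0⟩
  | succ k ih =>
    intro hk t t' ht ht'
    obtain ⟨h1, h2, h3, h4, h5, h6⟩ := cons_tail_HF h ht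
    obtain ⟨h1', h2', h3', h4', h5', h6'⟩ := cons_tail_HF h ht'
    obtain ⟨s₁, hs₁, e1⟩ := ih (by omega) _ _ h1 h1'
    have mem1 : ∀ x ∈ perpOf h (Fin.tail t), act s₁ x ∈ perpOf h (Fin.tail t') := by
      intro x hx i
      constructor
      · have := B_act h s₁ x (Fin.tail t i).1
        rw [(e1 i).1] at this
        rw [this]
        exact (hx i).1
      · have := B_act h s₁ x (Fin.tail t i).2
        rw [(e1 i).2] at this
        rw [this]
        exact (hx i).2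
    obtain ⟨g, hg, g1, g2⟩ := trans_pair h hnd ht₀ (k := k) (by omega) h1' (mem1 _ h2) (mem1 _ h3) h2' h3'
      (by rw [Q_act (Q := Q)]; exact h4) (by rw [Q_act (Q := Q)]; exact h5) h4' h5'
      (by rw [B_act h, h.symm]; exact h6) (by rw [h.symm]; exact h6')
    refine ⟨g * s₁, Subgroup.mul_mem _ hg.1 hs₁, fun i => ?_⟩
    refine Fin.cases ?_ (fun j => ?_) i
    · exact ⟨by rw [act_mul, g1], by rw [act_mul, g2]⟩
    · constructor
      · rw [act_mul]
        have e2 := (e1 j).1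
        change act s₁ (t j.succ).1 = (t' j.succ).1 at e2
        rw [e2]
        exact (hg.2 j).1
      · rw [act_mul]
        have e2 := (e1 j).2
        change act s₁ (t j.succ).2 = (t' j.succ).2 at e2
        rw [e2]
        exact (hg.2 j).2

end Sie

section Refl
variable (h : QF Q B)

/-- The group generated by reflections in vectors of a subspace. -/
def RS (S : Submodule F (ι → F)) : Subgroup (OG F Q) :=
  Subgroup.closure {g | ∃ a, ∃ ha : Q a ≠ 0, a ∈ S ∧ g = R h a ha}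

include h in
lemma R_mem_RS {S : Submodule F (ι → F)} {a : ι → F} (ha : Q a ≠ 0) (haS : a ∈ S) : R h a ha ∈ RS h S :=
  Subgroup.subset_closure ⟨a, ha, haS, rfl⟩

include h in
lemma RS_fix {k : ℕ} {t : Fin k → (ι → F) × (ι → F)} {g : OG F Q} (hg : g ∈ RS h (perpOf h t)) : Fix t g := by
  induction hg using Subgroup.closure_induction with
  | mem x hx =>
    obtain ⟨a, ha, haS, rfl⟩ := hx
    intro i
    exact ⟨R_fix h ha (perp_mem_symm h haS i).1, R_fix h ha (perp_mem_symm h haS i).2⟩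
  | one => intro i; exact ⟨act_one _, act_one _⟩
  | mul x y _ _ h1 h2 => exact h1.mul h2
  | inv x _ h1 => exact h1.inv

include h in
/-- A reflection moving one singular vector to another, not orthogonal to it. -/
lemma refl_nonperp {S : Submodule F (ι → F)} {x y : ι → F} (hx : x ∈ S) (hy : y ∈ S) (hxx : Q x = 0)
    (hyy : Q y = 0) (hxy : B x y ≠ 0) : ∃ r ∈ RS h S, act r x = y := by
  have hQ : Q (x - y) = - B x y := by
    rw [Q_sub h, hxx, hyy]
    ring
  have ha : Q (x - y) ≠ 0 := by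
    rw [hQ]
    exact neg_ne_zero.2 hxy
  refine ⟨R h (x - y) ha, R_mem_RS h ha (S.sub_mem hx hy), ?_⟩
  rw [act_R, hQ, h.sub_right, Buu h hxx]
  have : (0 - B x y) / -B x y = 1 := by
    field_simp
    ring
  rw [this, one_smul]
  abel

include h in
lemma refl_trans {S : Submodule F (ι → F)} (hS : ND B S) {x y : ι → F} (hx : x ∈ S) (hy : y ∈ S)
    (hxx : Q x = 0) (hyy : Q y = 0) (hx0 : x ≠ 0) (hy0 : y ≠ 0) : ∃ r ∈ RS h S, act r x = y := by
  by_cases hxy : B x y = 0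
  · have hyx : B y x = 0 := herm_symm0 h hxy
    obtain ⟨z, hz, hQz, hzx, hzy⟩ := exists_third h hS hx hy hxx hx0 hy0 hyx
    have hxz : B x z ≠ 0 := by rw [h.symm]; exact hzx
    obtain ⟨r₁, hr₁, e1⟩ := refl_nonperp h hx hz hxx hQz hxz
    obtain ⟨r₂, hr₂, e2⟩ := refl_nonperp h hz hy hQz hyy hzy
    exact ⟨r₂ * r₁, Subgroup.mul_mem _ hr₂ hr₁, by rw [act_mul, e1, e2]⟩
  · exact refl_nonperp h hx hy hxx hyy hxy

include h in
/-- A frame and its complement span. -/
lemma perp_decomp {k : ℕ} {t : Fin k → (ι → F) × (ι → F)} (ht : IsHF Q B t) (x : ι → F) :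
    x - ∑ i, (B x (t i).2 • (t i).1 + B x (t i).1 • (t i).2) ∈ perpOf h t := by
  classical
  intro j
  have e1 : ∀ i, B (t i).1 (t j).1 = 0 := by
    intro i
    by_cases hij : i = j
    · subst hij
      exact Buu h (ht i i).2.2.1
    · exact ((ht i j).2.1 hij).1
  have e2 : ∀ i, B (t i).2 (t j).2 = 0 := by
    intro i
    by_cases hij : i = j
    · subst hij
      exact Buu h (ht i i).2.2.2
    · exact ((ht i j).2.1 hij).2
  have e3 : ∀ i, B (t i).2 (t j).1 = if i = j then 1 else 0 := by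
    intro i
    rw [h.symm, (ht j i).1]
    simp only [eq_comm]
  have e4 : ∀ i, B (t i).1 (t j).2 = if i = j then 1 else 0 := fun i => (ht i j).1
  constructor
  · rw [h.sub_left, h.sum_left]
    simp only [h.add_left, h.smul_left, e1, e3, mul_zero, zero_add, mul_ite, mul_one,
      Finset.sum_ite_eq', Finset.mem_univ, if_true]
    ring
  · rw [h.sub_left, h.sum_left]
    simp only [h.add_left, h.smul_left, e2, e4, mul_zero, add_zero, mul_ite, mul_one,
      Finset.sum_ite_eq', Finset.mem_univ, if_true]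
    ring

include h in
/-- An isometry fixing a frame and its complement is trivial. -/
lemma fix_all_eq_one {k : ℕ} {t : Fin k → (ι → F) × (ι → F)} (ht : IsHF Q B t) {g : OG F Q} (hg : Fix t g)
    (hW : ∀ z ∈ perpOf h t, act g z = z) : g = 1 := by
  apply og_ext
  intro x
  rw [act_one]
  have h1 := hW _ (perp_decomp h ht x)
  obtain ⟨y, hy⟩ : ∃ y, y = ∑ i, (B x (t i).2 • (t i).1 + B x (t i).1 • (t i).2) := ⟨_, rfl⟩
  rw [← hy] at h1
  have h2 : act g y = y := by
    have key : ∀ (s : Finset (Fin k)), act g (∑ i ∈ s, (B x (t i).2 • (t i).1 + B x (t i).1 • (t i).2)) =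
        ∑ i ∈ s, (B x (t i).2 • (t i).1 + B x (t i).1 • (t i).2) := by
      intro s
      classical
      induction s using Finset.induction_on with
      | empty => simpa using act_zero g
      | insert a s ha ih =>
        rw [Finset.sum_insert ha, act_add, ih, act_add, act_smul, act_smul, (hg a).1, (hg a).2]
    rw [hy]
    exact key _
  have h3 : x = (x - y) + y := by abel
  rw [h3, act_add, h1, h2]

include h in
/-- An isometry fixing a frame with anisotropic complement is a product of reflections. -/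
lemma aniso_fix {k : ℕ} {t : Fin k → (ι → F) × (ι → F)} (ht : IsHF Q B t)
    (hanis : ∀ w ∈ perpOf h t, Q w = 0 → w = 0) :
    ∀ (n : ℕ) (g : OG F Q), Fix t g → Nat.card {z : ι → F // z ∈ perpOf h t ∧ act g z ≠ z} = n →
      g ∈ RS h (perpOf h t) := by
  intro n
  induction n using Nat.strong_induction_on with
  | _ n ih =>
    intro g hg hn
    by_cases hM : ∃ z ∈ perpOf h t, act g z ≠ z
    · obtain ⟨z, hz, hgz⟩ := hM
      obtain ⟨y, hy⟩ : ∃ y, y = act g z - z := ⟨_, rfl⟩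
      have hyW : y ∈ perpOf h t := by
        rw [hy]
        exact (perpOf h t).sub_mem (fix_mem_perp h hg hz) hz
      have hy0 : y ≠ 0 := by
        rw [hy]
        exact sub_ne_zero.2 hgz
      have hQy : Q y ≠ 0 := fun h0 => hy0 (hanis y hyW h0)
      -- the reflection sends `g z` to `z`
      have hrz : act (R h y hQy) (act g z) = z := by
        rw [act_R]
        have e1 : B (act g z) y = Q y := by
          have e2 : Q (act g z) = Q z := Q_act g z
          rw [hy, h.sub_right, Q_sub h, h.self (act g z), e2]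
          ring
        rw [e1, div_self hQy, one_smul, hy]
        abel
      have hfix : ∀ b, act g b = b → act (R h y hQy) (act g b) = b := by
        intro b hb
        rw [hb]
        apply R_fix h hQy
        rw [hy, h.sub_right]
        have := B_act h g b z
        rw [hb] at this
        rw [this]
        ring
      have hg' : Fix t (R h y hQy * g) :=
        Fix.mul (RS_fix h (R_mem_RS h hQy hyW)) hg
      have hlt : Nat.card {z : ι → F // z ∈ perpOf h t ∧ act (R h y hQy * g) z ≠ z} < n := by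
        rw [← hn]
        classical
        haveI : Fintype {z : ι → F // z ∈ perpOf h t ∧ act (R h y hQy * g) z ≠ z} := Fintype.ofFinite _
        haveI : Fintype {z : ι → F // z ∈ perpOf h t ∧ act g z ≠ z} := Fintype.ofFinite _
        rw [Nat.card_eq_fintype_card, Nat.card_eq_fintype_card]
        refine Fintype.card_lt_of_injective_of_notMem
          (fun p => ⟨p.1, p.2.1, fun hb => p.2.2 (by rw [act_mul]; exact hfix _ hb)⟩)
          (fun p p' e => Subtype.ext (congrArg (fun q => q.1) e)) (b := ⟨z, hz, hgz⟩) ?_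
        rintro ⟨p, hp⟩
        have e := congrArg (fun q => q.1) hp
        simp only at e
        subst e
        exact p.2.2 (by rw [act_mul]; exact hrz)
      have hmem := ih _ hlt (R h y hQy * g) hg' rfl
      have hgeq : g = R h y hQy * (R h y hQy * g) := by
        rw [← mul_assoc, R_mul_self, one_mul]
      rw [hgeq]
      exact Subgroup.mul_mem _ (R_mem_RS h hQy hyW) hmem
    · push Not at hM
      rw [fix_all_eq_one h ht hg hM]
      exact Subgroup.one_mem _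

end Refl

end Cfsg.Agent.Lead.Omega
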