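import Cfsg.Agent.Lib.Lead.OmegaComm
/-! Simplicity of `PΩ`. -/
set_option autoImplicit false
set_option linter.unusedSimpArgs false
set_option linter.style.haveILetI false
set_option linter.unusedSectionVars false
set_option linter.unusedVariables false
namespace Cfsg.Agent.Lead.Omega
open Matrix Cfsg.Agent.Lead.Ortho
open scoped commutatorElement

variable {F : Type*} [Field F] [Fintype F] {ι : Type} [Fintype ι] [DecidableEq ι]
variable {Q : (ι → F) → F} {B : (ι → F) → (ι → F) → F}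

section Eigen
variable (h : QF Q B) (hnd : ND B (⊤ : Submodule F (ι → F))) {m : ℕ}
  {t₀ : Fin m → (ι → F) × (ι → F)} (ht₀ : IsHF Q B t₀) (hm : 3 ≤ m)

include h in
lemma eigen_perp {g : OG F Q} (H : ∀ v, Q v = 0 → v ≠ 0 → ∃ t : F, act g v = t • v) {u x : ι → F} {α : F}
    (huu : Q u = 0) (hu0 : u ≠ 0) (hxx : Q x = 0) (hx0 : x ≠ 0) (hxu : B x u = 0) (hu : act g u = α • u) :
    act g x = α • x := by
  by_cases hs : x + u = 0
  · have : x = (-1 : F) • u := by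
      rw [neg_one_smul]
      exact eq_neg_of_add_eq_zero_left hs
    rw [this, act_smul, hu, smul_comm]
  · have hQs : Q (x + u) = 0 := by
      rw [h.add, hxx, huu, hxu]
      ring
    obtain ⟨t, ht⟩ := H x hxx hx0
    obtain ⟨γ, hγ⟩ := H (x + u) hQs hs
    rw [act_add, ht, hu] at hγ
    have e : (t - γ) • x = (γ - α) • u := by
      funext i
      have := congrFun hγ i
      simp only [Pi.add_apply, Pi.smul_apply, smul_eq_mul] at this ⊢
      linear_combination this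
    by_cases htγ : t = γ
    · subst htγ
      rw [sub_self, zero_smul] at e
      have h1 := (smul_eq_zero.1 e.symm).resolve_right hu0
      rw [ht, sub_eq_zero.1 h1]
    · have hx : x = ((t - γ)⁻¹ * (γ - α)) • u := by
        rw [mul_smul, ← e, smul_smul, inv_mul_cancel₀ (sub_ne_zero.2 htγ), one_smul]
      rw [hx, act_smul, hu, smul_comm]

include h hnd ht₀ hm

/-- All singular vectors being eigenvectors forces a scalar. -/
lemma scalar_of_eigen {g : OG F Q} (H : ∀ v, Q v = 0 → v ≠ 0 → ∃ t : F, act g v = t • v) :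
    ∃ α : F, ∀ x, act g x = α • x := by
  have hON0 : IsHF Q B (Fin.elim0 : Fin 0 → (ι → F) × (ι → F)) := fun i => i.elim0
  have hm0 : 0 < m := by omega
  obtain ⟨u₀, v₀⟩ : ∃ p : (ι → F) × (ι → F), p = t₀ ⟨0, hm0⟩ := ⟨_, rfl⟩
  obtain ⟨huu, hvv, huv⟩ : Q (t₀ ⟨0, hm0⟩).1 = 0 ∧ Q (t₀ ⟨0, hm0⟩).2 = 0 ∧ B (t₀ ⟨0, hm0⟩).1 (t₀ ⟨0, hm0⟩).2 = 1 := by
    have := ht₀ ⟨0, hm0⟩ ⟨0, hm0⟩
    rw [if_pos rfl] at this
    exact ⟨this.2.2.1, this.2.2.2, this.1⟩
  obtain ⟨u, hu⟩ : ∃ u, u = (t₀ ⟨0, hm0⟩).1 := ⟨_, rfl⟩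
  obtain ⟨v, hv⟩ : ∃ v, v = (t₀ ⟨0, hm0⟩).2 := ⟨_, rfl⟩
  rw [← hu] at huu huv
  rw [← hv] at hvv huv
  have hvu : B v u = 1 := by rw [h.symm]; exact huv
  have hu0 : u ≠ 0 := by
    rintro rfl
    rw [h.zero_left] at huv
    exact zero_ne_one huv
  have hv0 : v ≠ 0 := by
    rintro rfl
    rw [h.zero_right] at huv
    exact zero_ne_one huv
  obtain ⟨α, hα⟩ := H u huu hu0
  have claimA : ∀ x, Q x = 0 → x ≠ 0 → act g x = α • x := by
    intro x hxx hx0
    by_cases hxu : B x u = 0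
    · exact eigen_perp h H huu hu0 hxx hx0 hxu hα
    · obtain ⟨x', hx'⟩ : ∃ x', x' = (B x u)⁻¹ • x := ⟨_, rfl⟩
      have hx'x' : Q x' = 0 := by rw [hx', h.smul, hxx, mul_zero]
      have hx'u : B x' u = 1 := by rw [hx', h.smul_left, inv_mul_cancel₀ hxu]
      have hux' : B u x' = 1 := by rw [h.symm]; exact hx'u
      have hF1 : IsHF Q B (Fin.cons (u, x') Fin.elim0 : Fin 1 → (ι → F) × (ι → F)) :=
        (isHF_cons_iff h (u, x') _).2 ⟨hON0, fun i => i.elim0, fun i => i.elim0, huu, hx'x', hux'⟩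
      obtain ⟨z, hz, hz0, hzz⟩ := hasSing h ht₀ (k := 1) (by omega) _ hF1
      rw [perpOf_cons] at hz
      obtain ⟨-, hzu, hzx'⟩ := hz
      simp only at hzu hzx'
      have hzx : B x z = 0 := by
        have h1 := herm_symm0 h hzx'
        rw [hx', h.smul_left] at h1
        exact (mul_eq_zero.1 h1).resolve_left (inv_ne_zero hxu)
      have hgz := eigen_perp h H huu hu0 hzz hz0 hzu hα
      exact eigen_perp h H hzz hz0 hxx hx0 hzx hgz
  have hgv := claimA v hvv hv0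
  refine ⟨α, fun x => ?_⟩
  obtain ⟨x₁, hx₁⟩ : ∃ x₁, x₁ = x - B x v • u - B x u • v := ⟨_, rfl⟩
  have hx₁u : B x₁ u = 0 := by
    rw [hx₁, h.sub_left, h.sub_left, h.smul_left, h.smul_left, Buu h huu, hvu]
    ring
  have hx₁v : B x₁ v = 0 := by
    rw [hx₁, h.sub_left, h.sub_left, h.smul_left, h.smul_left, Buu h hvv, huv]
    ring
  obtain ⟨y, hy⟩ : ∃ y, y = x₁ + u - Q x₁ • v := ⟨_, rfl⟩
  have hyy : Q y = 0 := by
    rw [hy, Q_sub h, h.add, h.smul, huu, hvv, hx₁u, h.add_left, h.smul_right, h.smul_right, hx₁v, huv]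
    ring
  have hy0 : y ≠ 0 := by
    intro h0
    have : B y v = 1 := by
      rw [hy, h.sub_left, h.add_left, h.smul_left, hx₁v, huv, Buu h hvv]
      ring
    rw [h0, h.zero_left] at this
    exact zero_ne_one this
  have hgy := claimA y hyy hy0
  have e1 : x = y - u + Q x₁ • v + B x v • u + B x u • v := by
    rw [hy, hx₁]
    abel
  rw [e1]
  simp only [act_add, act_sub, act_smul, hgy, hα, hgv, smul_add, smul_sub, smul_comm α]

end Eigen

/-- The orbit relation modulo scalars. -/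
def RelN {h : QF Q B} (N : Subgroup ↥(SS h)) (x y : ι → F) : Prop :=
  ∃ n ∈ N, ∃ l : F, l ≠ 0 ∧ act (n : OG F Q) x = l • y

section Rel
variable {h : QF Q B} {N : Subgroup ↥(SS h)}

lemma RelN.symm {x y : ι → F} (hr : RelN N x y) : RelN N y x := by
  obtain ⟨m, hm, l, hl, e⟩ := hr
  refine ⟨m⁻¹, N.inv_mem hm, l⁻¹, inv_ne_zero hl, ?_⟩
  have : y = l⁻¹ • act (m : OG F Q) x := by rw [e, smul_smul, inv_mul_cancel₀ hl, one_smul]
  rw [this, Subgroup.coe_inv, act_smul, act_inv_act]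

lemma RelN.trans {x y z : ι → F} (hr : RelN N x y) (hr' : RelN N y z) : RelN N x z := by
  obtain ⟨m, hm, l, hl, e⟩ := hr
  obtain ⟨m', hm', l', hl', e'⟩ := hr'
  refine ⟨m' * m, N.mul_mem hm' hm, l * l', mul_ne_zero hl hl', ?_⟩
  rw [Subgroup.coe_mul, act_mul, e, act_smul, e', smul_smul]

lemma RelN.conj [N.Normal] {x y : ι → F} (hr : RelN N x y) (t : ↥(SS h)) :
    RelN N (act (t : OG F Q) x) (act (t : OG F Q) y) := by
  obtain ⟨m, hm, l, hl, e⟩ := hr
  refine ⟨t * m * t⁻¹, Subgroup.Normal.conj_mem inferInstance m hm t, l, hl, ?_⟩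
  rw [Subgroup.coe_mul, Subgroup.coe_mul, act_mul, act_mul, Subgroup.coe_inv, act_inv_act, e, act_smul]

lemma RelN.scale {x y : ι → F} (hr : RelN N x y) {κ : F} (hκ : κ ≠ 0) : RelN N x (κ • y) := by
  obtain ⟨m, hm, l, hl, e⟩ := hr
  refine ⟨m, hm, l * κ⁻¹, mul_ne_zero hl (inv_ne_zero hκ), ?_⟩
  rw [e, smul_smul, mul_assoc, inv_mul_cancel₀ hκ, mul_one]

end Rel

section Main
variable (h : QF Q B) (hnd : ND B (⊤ : Submodule F (ι → F))) {m : ℕ}
  {t₀ : Fin m → (ι → F) × (ι → F)} (ht₀ : IsHF Q B t₀) (hm : 3 ≤ m)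
include h hnd ht₀ hm

lemma exists_not_mult {u u' : ι → F} (hne : ∀ t : F, u' ≠ t • u) (hu0 : u ≠ 0) :
    ∃ y, B y u = 0 ∧ B y u' ≠ 0 := by
  by_contra hall
  push Not at hall
  obtain ⟨y₁, -, hy₁⟩ := exists_perp_ne' h hnd (Submodule.mem_top (x := u)) hu0
  obtain ⟨κ, hκ⟩ : ∃ κ, κ = B y₁ u' / B y₁ u := ⟨_, rfl⟩
  have hall2 : ∀ y, B (u' - κ • u) y = 0 := by
    intro y
    have h1 := hall (y - (B y u / B y₁ u) • y₁) (by
      rw [h.sub_left, h.smul_left]
      field_simp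
      ring)
    rw [h.sub_left, h.smul_left] at h1
    rw [h.sub_left, h.smul_left, h.symm u' y, h.symm u y, hκ]
    rw [sub_eq_zero] at h1
    rw [h1]
    field_simp
    ring
  apply hne κ
  by_contra hne2
  obtain ⟨y, -, hy⟩ := hnd (u' - κ • u) trivial (sub_ne_zero.2 hne2)
  exact hy (hall2 y)

/-- Step: a non-perpendicular related pair. -/
lemma exists_nonperp_pair {N : Subgroup ↥(SS h)} [N.Normal] (hN : ¬ N ≤ Subgroup.center ↥(SS h)) :
    ∃ x y : ι → F, x ≠ 0 ∧ y ≠ 0 ∧ Q x = 0 ∧ Q y = 0 ∧ B y x ≠ 0 ∧ RelN N x y := by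
  have hON0 : IsHF Q B (Fin.elim0 : Fin 0 → (ι → F) × (ι → F)) := fun i => i.elim0
  obtain ⟨g, hgN, hg⟩ := SetLike.not_le_iff_exists.1 hN
  -- `g` moves a singular point
  obtain ⟨u, huu, hu0, hmov⟩ : ∃ u : ι → F, Q u = 0 ∧ u ≠ 0 ∧ ∀ t : F, act (g : OG F Q) u ≠ t • u := by
    by_contra hall
    push Not at hall
    obtain ⟨α, hα⟩ := scalar_of_eigen h hnd ht₀ hm (g := (g : OG F Q)) hall
    apply hg
    rw [Subgroup.mem_center_iff]
    intro s
    apply Subtype.ext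
    apply og_ext
    intro x
    simp only [Subgroup.coe_mul]
    rw [act_mul, act_mul, hα, hα, act_smul]
  obtain ⟨u', hu'⟩ : ∃ u', u' = act (g : OG F Q) u := ⟨_, rfl⟩
  rw [← hu'] at hmov
  have hR : RelN N u u' := ⟨g, hgN, 1, one_ne_zero, by rw [hu', one_smul]⟩
  have hu'u' : Q u' = 0 := by rw [hu', Q_act (Q := Q)]; exact huu
  have hu'0 : u' ≠ 0 := by
    intro h0
    apply hu0
    apply act_injective (g : OG F Q)
    rw [← hu', h0, act_zero]
  by_cases hp : B u' u = 0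
  · obtain ⟨y₀, hy₀u, hy₀u'⟩ := exists_not_mult h hnd ht₀ hm hmov hu0
    obtain ⟨μ, hμ⟩ := iso_adjust h hu'u' hy₀u'
    obtain ⟨z, hz⟩ : ∃ z, z = y₀ + μ • u' := ⟨_, rfl⟩
    rw [← hz] at hμ
    have hzu : B z u = 0 := by
      rw [hz, h.add_left, h.smul_left, hy₀u, hp]
      ring
    have hzu' : B z u' ≠ 0 := by
      rw [hz, h.add_left, h.smul_left, Buu h hu'u', mul_zero, add_zero]
      exact hy₀u'
    have hu'z : B u' z ≠ 0 := by rw [h.symm]; exact hzu'
    have hz0 : z ≠ 0 := by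
      rintro rfl
      exact hzu' (h.zero_left _)
    -- a partner of `u` orthogonal to `z`
    have hnm : ∀ t : F, u ≠ t • z := by
      intro t e
      have h1 : B u' u = t * B u' z := by
        rw [e, h.smul_right]
      rw [hp] at h1
      have ht : t = 0 := (mul_eq_zero.1 h1.symm).resolve_right hu'z
      rw [ht, zero_smul] at e
      exact hu0 e
    obtain ⟨y₁, hy₁z, hy₁u⟩ := exists_not_mult h hnd ht₀ hm hnm hz0
    obtain ⟨ν, hν⟩ := iso_adjust h huu hy₁u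
    obtain ⟨v, hv⟩ : ∃ v, v = (B y₁ u)⁻¹ • (y₁ + ν • u) := ⟨_, rfl⟩
    have hvv : Q v = 0 := by rw [hv, h.smul, hν, mul_zero]
    have hvu : B v u = 1 := by
      rw [hv, h.smul_left, h.add_left, h.smul_left, Buu h huu, mul_zero, add_zero, inv_mul_cancel₀ hy₁u]
    have huv : B u v = 1 := by rw [h.symm]; exact hvu
    have huz : B u z = 0 := herm_symm0 h hzu
    have hvz : B v z = 0 := by
      rw [hv, h.smul_left, h.add_left, h.smul_left, hy₁z, huz]
      ring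
    have hF1 : IsHF Q B (Fin.cons (u, v) Fin.elim0 : Fin 1 → (ι → F) × (ι → F)) :=
      (isHF_cons_iff h (u, v) _).2 ⟨hON0, fun i => i.elim0, fun i => i.elim0, huu, hvv, huv⟩
    have hzX : z ∈ perpOf h (Fin.cons (u, v) Fin.elim0 : Fin 1 → (ι → F) × (ι → F)) := by
      rw [perpOf_cons]
      exact ⟨fun i => i.elim0, hzu, herm_symm0 h hvz⟩
    obtain ⟨z₁, hz₁X, hz₁z₁, hz₁z⟩ := exists_partner h (ND_perpOf h hnd _ hF1) hzX hz0 hμ
    have hF2 : IsHF Q B (Fin.cons (z, z₁) (Fin.cons (u, v) Fin.elim0) : Fin 2 → (ι → F) × (ι → F)) :=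
      (isHF_cons_iff h (z, z₁) _).2 ⟨hF1, hzX, hz₁X, hμ, hz₁z₁, by rw [h.symm]; exact hz₁z⟩
    obtain ⟨b, hb, hQb⟩ := exists_univ h hnd ht₀ (k := 2) (by omega) _ hF2 1
    rw [perpOf_cons] at hb
    obtain ⟨hb1, hbz, -⟩ := hb
    rw [perpOf_cons] at hb1
    obtain ⟨-, hbu, -⟩ := hb1
    simp only at hbz hbu
    have AT : Adm Q B z b := ⟨hμ, hbz⟩
    obtain ⟨T, hT⟩ : ∃ T : ↥(SS h), T = ⟨E h AT, E_mem h AT⟩ := ⟨_, rfl⟩
    have hTc : (T : OG F Q) = E h AT := by rw [hT]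
    have hTu : act (T : OG F Q) u = u := by
      rw [hTc]
      exact act_E_fix h AT huz (herm_symm0 h hbu)
    have hR2 : RelN N u (act (T : OG F Q) u') := by
      have := hR.conj T
      rwa [hTu] at this
    refine ⟨u', act (T : OG F Q) u', hu'0, ?_, hu'u', ?_, ?_, hR.symm.trans hR2⟩
    · intro h0
      apply hu'0
      apply act_injective (T : OG F Q)
      rw [h0, act_zero]
    · rw [Q_act (Q := Q)]
      exact hu'u'
    · rw [hTc, act_E]
      unfold Efun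
      rw [h.sub_left, h.add_left, h.smul_left, h.smul_left, Buu h hu'u', hQb, h.symm b u', h.symm z u']
      have : 0 + B u' z * B u' b - (B u' b + 1 * B u' z) * B u' z = -(B u' z) ^ 2 := by ring
      rw [this]
      exact neg_ne_zero.2 (pow_ne_zero _ hu'z)
  · exact ⟨u, u', hu0, hu'0, huu, hu'u', hp, hR⟩

lemma rel_all {N : Subgroup ↥(SS h)} [N.Normal] (hN : ¬ N ≤ Subgroup.center ↥(SS h)) {x y : ι → F}
    (hx0 : x ≠ 0) (hy0 : y ≠ 0) (hxx : Q x = 0) (hyy : Q y = 0) : RelN N x y := by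
  have hON0 : IsHF Q B (Fin.elim0 : Fin 0 → (ι → F) × (ι → F)) := fun i => i.elim0
  have htop : ∀ x : ι → F, x ∈ perpOf h (Fin.elim0 : Fin 0 → (ι → F) × (ι → F)) := fun x i => i.elim0
  obtain ⟨x₀, y₀, hx₀0, hy₀0, hx₀x₀, hy₀y₀, hp, hR⟩ := exists_nonperp_pair h hnd ht₀ hm hN
  have step3 : ∀ x y : ι → F, x ≠ 0 → y ≠ 0 → Q x = 0 → Q y = 0 → B y x ≠ 0 → RelN N x y := by
    intro x y hx0 hy0 hxx hyy hyx
    obtain ⟨t, ht, ht'⟩ := trans_X h hnd ht₀ (k := 0) (by omega) hON0 (htop x₀) (htop x) hx₀x₀ hxx hx₀0 hx0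
    obtain ⟨y₁, hy₁⟩ : ∃ y₁, y₁ = act t y₀ := ⟨_, rfl⟩
    have hR1 : RelN N x y₁ := by
      have := hR.conj ⟨t, ht.1⟩
      simp only at this
      rwa [ht', ← hy₁] at this
    have hy₁x : B y₁ x = B y₀ x₀ := by
      rw [hy₁, ← ht', B_act h]
    have hy₁x0 : B y₁ x ≠ 0 := by rw [hy₁x]; exact hp
    have hy₁y₁ : Q y₁ = 0 := by rw [hy₁, Q_act (Q := Q)]; exact hy₀y₀
    obtain ⟨κ, hκ⟩ : ∃ κ, κ = B y x / B y₁ x := ⟨_, rfl⟩
    have hκ0 : κ ≠ 0 := by
      rw [hκ]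
      exact div_ne_zero hyx hy₁x0
    have hR2 := hR1.scale hκ0
    have h22 : Q (κ • y₁) = 0 := by rw [h.smul, hy₁y₁, mul_zero]
    have h2x : B (κ • y₁) x = B y x := by
      rw [h.smul_left, hκ]
      field_simp
    obtain ⟨a, hA, -, hE⟩ := exists_E_map h hxx h22 hyy (by rw [h2x]; exact hyx) h2x.symm
    have hfix : act (E h hA) x = x := act_E_fix h hA (Buu h hxx) (herm_symm0 h hA.au)
    have := hR2.conj ⟨E h hA, E_mem h hA⟩
    simp only at this
    rwa [hfix, act_E, hE] at this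
  by_cases hyx : B y x = 0
  · obtain ⟨z, -, hzz, hzx, hzy⟩ := exists_third h hnd (Submodule.mem_top (x := x)) (Submodule.mem_top (x := y)) hxx hx0 hy0 hyx
    have hz0 : z ≠ 0 := by
      rintro rfl
      exact hzx (h.zero_left x)
    have hyz : B y z ≠ 0 := by rw [h.symm]; exact hzy
    exact (step3 x z hx0 hz0 hxx hzz hzx).trans (step3 z y hz0 hy0 hzz hyy hyz)
  · exact step3 x y hx0 hy0 hxx hyy hyx

omit hnd ht₀ hm in
/-- The group of Siegel transformations with a given center, in `SS`. -/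
def Qsub (h : QF Q B) {u : ι → F} (huu : Q u = 0) : Subgroup ↥(SS h) where
  carrier := {g | ∃ a, ∃ hA : Adm Q B u a, (g : OG F Q) = E h hA}
  mul_mem' := by
    rintro g g' ⟨a, hA, e⟩ ⟨a', hA', e'⟩
    exact ⟨_, adm_add h hA hA', by rw [Subgroup.coe_mul, e, e', E_mul h]⟩
  one_mem' := ⟨0, adm_zero h huu, by rw [E_one h]; rfl⟩
  inv_mem' := by
    rintro g ⟨a, hA, e⟩
    exact ⟨_, adm_neg h hA, by rw [Subgroup.coe_inv, e, E_inv h]⟩

omit hnd ht₀ hm in
lemma quot_mem {N : Subgroup ↥(SS h)} [N.Normal] {u₀ a : ι → F} {μ : F} {n : ↥(SS h)} (hn : n ∈ N) (hμ : μ ≠ 0)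
    (huu : Q u₀ = 0) (hA : Adm Q B (μ • act (n : OG F Q) u₀) a) :
    QuotientGroup.mk' N (⟨E h hA, E_mem h hA⟩ : ↥(SS h)) ∈ (Qsub h huu).map (QuotientGroup.mk' N) := by
  have A1 := adm_scale h hμ hA
  have A2 : Adm Q B u₀ (act (n : OG F Q)⁻¹ (μ • a)) := by
    have := adm_conj h (n : OG F Q)⁻¹ A1
    rwa [act_inv_act] at this
  refine ⟨⟨E h A2, E_mem h A2⟩, ⟨_, A2, rfl⟩, ?_⟩
  have e1 : (⟨E h hA, E_mem h hA⟩ : ↥(SS h)) = n * ⟨E h A2, E_mem h A2⟩ * n⁻¹ := by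
    apply Subtype.ext
    simp only [Subgroup.coe_mul, Subgroup.coe_inv]
    rw [E_conj h (n : OG F Q) A2, E_scale h hμ hA]
    apply E_congr
    · rfl
    · rw [act_act_inv]
  rw [e1, map_mul, map_mul, map_inv]
  have hm1 : QuotientGroup.mk' N n = 1 := by
    simpa using (QuotientGroup.eq_one_iff n).2 hn
  rw [hm1]
  simp

lemma SS_perfect : commutator ↥(SS h) = ⊤ := by
  rw [eq_top_iff]
  rintro ⟨s, hs⟩ -
  have h1 := SS_le_comm h hnd ht₀ hm hs
  rw [← Subgroup.map_subtype_commutator] at h1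
  obtain ⟨c, hc, e⟩ := h1
  have : c = ⟨s, hs⟩ := Subtype.ext e
  rwa [← this]

theorem normal_eq_top {N : Subgroup ↥(SS h)} [N.Normal] (hN : ¬ N ≤ Subgroup.center ↥(SS h)) : N = ⊤ := by
  have hON0 : IsHF Q B (Fin.elim0 : Fin 0 → (ι → F) × (ι → F)) := fun i => i.elim0
  obtain ⟨u₀, -, hu₀0, hu₀⟩ := hasSing h ht₀ (k := 0) (by omega) _ hON0
  set π := QuotientGroup.mk' N with hπ
  have hsurj : Function.Surjective π := QuotientGroup.mk'_surjective N
  have hgen : ∀ x a (hA : Adm Q B x a), π ⟨E h hA, E_mem h hA⟩ ∈ (Qsub h hu₀).map π := by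
    intro x a hA
    by_cases hx0 : x = 0
    · subst hx0
      have e : (⟨E h hA, E_mem h hA⟩ : ↥(SS h)) = 1 := by
        apply Subtype.ext
        exact E_zero_left h hA
      rw [e, map_one]
      exact Subgroup.one_mem _
    · obtain ⟨n, hn, l, hl, e⟩ := rel_all h hnd ht₀ hm hN hu₀0 hx0 hu₀ hA.uu
      have hx : x = l⁻¹ • act (n : OG F Q) u₀ := by rw [e, smul_smul, inv_mul_cancel₀ hl, one_smul]
      subst hx
      exact quot_mem h hn (inv_ne_zero hl) hu₀ hA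
  have hQ : (Qsub h hu₀).map π = ⊤ := by
    rw [eq_top_iff]
    rintro y -
    obtain ⟨⟨g, hg⟩, rfl⟩ := hsurj y
    induction hg using Subgroup.closure_induction with
    | mem x hx =>
      obtain ⟨u, a, hA, rfl⟩ := hx
      exact hgen u a hA
    | one =>
      have : (⟨1, Subgroup.one_mem _⟩ : ↥(SS h)) = 1 := rfl
      rw [this, map_one]
      exact Subgroup.one_mem _
    | mul x y hx hy h1 h2 =>
      have : (⟨x * y, Subgroup.mul_mem _ hx hy⟩ : ↥(SS h)) = ⟨x, hx⟩ * ⟨y, hy⟩ := rfl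
      rw [this, map_mul]
      exact Subgroup.mul_mem _ h1 h2
    | inv x hx h1 =>
      have : (⟨x⁻¹, Subgroup.inv_mem _ hx⟩ : ↥(SS h)) = (⟨x, hx⟩ : ↥(SS h))⁻¹ := rfl
      rw [this, map_inv]
      exact Subgroup.inv_mem _ h1
  have hperf : ⁅(⊤ : Subgroup (↥(SS h) ⧸ N)), (⊤ : Subgroup (↥(SS h) ⧸ N))⁆ = (⊤ : Subgroup (↥(SS h) ⧸ N)) := by
    have h1 := SS_perfect h hnd ht₀ hm
    have h2 : (⊤ : Subgroup ↥(SS h)).map π = ⊤ := Subgroup.map_top_of_surjective π hsurj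
    have h3 := congrArg (Subgroup.map π) h1
    rw [commutator_def, Subgroup.map_commutator, h2] at h3
    exact h3
  have hQQ : ⁅Qsub h hu₀, Qsub h hu₀⁆ = ⊥ := by
    rw [eq_bot_iff, Subgroup.commutator_le]
    rintro g ⟨a, hA, e⟩ g' ⟨a', hA', e'⟩
    rw [Subgroup.mem_bot, commutatorElement_eq_one_iff_mul_comm]
    apply Subtype.ext
    rw [Subgroup.coe_mul, Subgroup.coe_mul, e, e']
    exact E_comm h hA hA'
  have hbot : (⊤ : Subgroup (↥(SS h) ⧸ N)) = ⊥ := by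
    rw [← hperf, ← hQ, ← Subgroup.map_commutator, hQQ, Subgroup.map_bot]
  rw [eq_top_iff]
  intro g _
  have : π g ∈ (⊤ : Subgroup (↥(SS h) ⧸ N)) := Subgroup.mem_top _
  rw [hbot, Subgroup.mem_bot] at this
  exact (QuotientGroup.eq_one_iff g).1 this

theorem SS_simple : IsSimpleGroup (↥(SS h) ⧸ Subgroup.center ↥(SS h)) := by
  have hON0 : IsHF Q B (Fin.elim0 : Fin 0 → (ι → F) × (ι → F)) := fun i => i.elim0
  haveI : Nontrivial (↥(SS h) ⧸ Subgroup.center ↥(SS h)) := by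
    by_contra hnt
    rw [not_nontrivial_iff_subsingleton] at hnt
    have hcen : ∀ g : ↥(SS h), g ∈ Subgroup.center ↥(SS h) := by
      intro g
      have : ((g : ↥(SS h)) : ↥(SS h) ⧸ Subgroup.center ↥(SS h)) = 1 := Subsingleton.elim _ _
      exact (QuotientGroup.eq_one_iff g).1 this
    have hcomm : commutator ↥(SS h) = ⊥ := by
      rw [eq_bot_iff, commutator_def, Subgroup.commutator_le]
      intro g _ g' _
      rw [Subgroup.mem_bot, commutatorElement_eq_one_iff_mul_comm]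
      exact Subgroup.mem_center_iff.1 (hcen g') g
    have htop := SS_perfect h hnd ht₀ hm
    rw [hcomm] at htop
    -- a nontrivial Siegel transformation
    obtain ⟨u, -, hu0, huu⟩ := hasSing h ht₀ (k := 0) (by omega) _ hON0
    obtain ⟨v, -, hvv, hvu⟩ := exists_partner h hnd (Submodule.mem_top (x := u)) hu0 huu
    have huv : B u v = 1 := by rw [h.symm]; exact hvu
    have hF1 : IsHF Q B (Fin.cons (u, v) Fin.elim0 : Fin 1 → (ι → F) × (ι → F)) :=
      (isHF_cons_iff h (u, v) _).2 ⟨hON0, fun i => i.elim0, fun i => i.elim0, huu, hvv, huv⟩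
    obtain ⟨w, hw, hw0, hww⟩ := hasSing h ht₀ (k := 1) (by omega) _ hF1
    rw [perpOf_cons] at hw
    obtain ⟨-, hwu, hwv⟩ := hw
    simp only at hwu hwv
    have A : Adm Q B u w := ⟨huu, hwu⟩
    have h1 : (⟨E h A, E_mem h A⟩ : ↥(SS h)) = 1 := by
      have : (⟨E h A, E_mem h A⟩ : ↥(SS h)) ∈ (⊥ : Subgroup ↥(SS h)) := by
        rw [htop]
        exact Subgroup.mem_top _
      exact Subgroup.mem_bot.1 this
    have h2 : E h A = 1 := congrArg Subtype.val h1
    have h3 := act_E h A v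
    rw [h2, act_one] at h3
    unfold Efun at h3
    rw [hvu, one_smul, herm_symm0 h hwv, hww] at h3
    have h4 : w = 0 := by
      funext i
      have := congrFun h3 i
      simp only [Pi.add_apply, Pi.sub_apply, Pi.smul_apply, smul_eq_mul, zero_add, mul_one, zero_mul] at this
      simp only [Pi.zero_apply]
      linear_combination -this
    exact hw0 h4
  refine ⟨fun H hH => ?_⟩
  set π := QuotientGroup.mk' (Subgroup.center ↥(SS h)) with hπ
  have hsurj : Function.Surjective π := QuotientGroup.mk'_surjective _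
  haveI hN : (H.comap π).Normal := Subgroup.Normal.comap hH π
  by_cases hle : H.comap π ≤ Subgroup.center ↥(SS h)
  · left
    rw [eq_bot_iff]
    intro y hy
    obtain ⟨g, rfl⟩ := hsurj y
    have : g ∈ Subgroup.center ↥(SS h) := hle hy
    rw [Subgroup.mem_bot]
    exact (QuotientGroup.eq_one_iff g).2 this
  · right
    have htop := normal_eq_top h hnd ht₀ hm hle
    rw [eq_top_iff]
    intro y _
    obtain ⟨g, rfl⟩ := hsurj y
    have : g ∈ H.comap π := by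
      rw [htop]
      exact Subgroup.mem_top _
    exact this

end Main

/-- The main theorem. -/
theorem omega_eq_SS (h : QF Q B) (hnd : ND B (⊤ : Submodule F (ι → F))) {m' : ℕ}
    {t₀ : Fin (m' + 1 + 1) → (ι → F) × (ι → F)} (ht₀ : IsHF Q B t₀) (hm : 1 ≤ m')
    (hanis : ∀ w ∈ perpOf h t₀, Q w = 0 → w = 0) :
    commutator (OG F Q) = SS h := by
  apply le_antisymm (comm_le_SS h hnd ht₀ hanis)
  refine (SS_le_comm h hnd ht₀ (by omega)).trans ?_
  rw [commutator_def]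
  exact Subgroup.commutator_mono le_top le_top

theorem pomega_simple (h : QF Q B) (hnd : ND B (⊤ : Submodule F (ι → F))) {m' : ℕ}
    {t₀ : Fin (m' + 1 + 1) → (ι → F) × (ι → F)} (ht₀ : IsHF Q B t₀) (hm : 1 ≤ m')
    (hanis : ∀ w ∈ perpOf h t₀, Q w = 0 → w = 0) :
    IsSimpleGroup (Cfsg.POmega F Q) := by
  have e := omega_eq_SS h hnd ht₀ hm hanis
  have key : ∀ H : Subgroup (OG F Q), H = SS h → IsSimpleGroup (↥H ⧸ Subgroup.center ↥H) := by
    rintro H rfl
    exact SS_simple h hnd ht₀ (by omega)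
  exact key _ e

end Cfsg.Agent.Lead.Omega
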