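import Cfsg.Agent.Lib.Lead.OrthoBase
import Cfsg.Prelude.Def_Classical
/-! Hyperbolic frames and the isometry group. -/
set_option autoImplicit false
set_option linter.unusedSimpArgs false
set_option linter.style.haveILetI false
set_option linter.unusedSectionVars false
set_option linter.unusedVariables false
namespace Cfsg.Agent.Lead.Ortho
open Matrix

variable {F : Type*} [Field F] [Fintype F] {V : Type*} [AddCommGroup V] [Module F V]
variable {Q : V → F} {B : V → V → F}

/-- Tuples of mutually orthogonal hyperbolic pairs. -/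
def IsHF (Q : V → F) (B : V → V → F) {k : ℕ} (t : Fin k → V × V) : Prop :=
  ∀ i j, B (t i).1 (t j).2 = (if i = j then 1 else 0) ∧
    (i ≠ j → B (t i).1 (t j).1 = 0 ∧ B (t i).2 (t j).2 = 0) ∧ Q (t i).1 = 0 ∧ Q (t i).2 = 0

/-- The orthogonal complement of a tuple of pairs. -/
def perpOf (h : QF Q B) {k : ℕ} (t : Fin k → V × V) : Submodule F V where
  carrier := {x | ∀ i, B x (t i).1 = 0 ∧ B x (t i).2 = 0}
  add_mem' := fun ha hb i => ⟨by rw [h.add_left, (ha i).1, (hb i).1, add_zero],
    by rw [h.add_left, (ha i).2, (hb i).2, add_zero]⟩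
  zero_mem' := fun i => ⟨h.zero_left _, h.zero_left _⟩
  smul_mem' := fun c x hx i => ⟨by rw [h.smul_left, (hx i).1, mul_zero],
    by rw [h.smul_left, (hx i).2, mul_zero]⟩

lemma perpOf_cons (h : QF Q B) {k : ℕ} (p : V × V) (t : Fin k → V × V) :
    perpOf h (Fin.cons p t : Fin (k + 1) → V × V) = perp2 h (perpOf h t) p.1 p.2 := by
  ext x
  constructor
  · intro hx
    exact ⟨fun i => hx i.succ, (hx 0).1, (hx 0).2⟩
  · rintro ⟨h1, h2, h3⟩ i
    refine Fin.cases ⟨h2, h3⟩ (fun j => h1 j) i

lemma isHF_cons_iff (h : QF Q B) {k : ℕ} (p : V × V) (t : Fin k → V × V) :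
    IsHF Q B (Fin.cons p t : Fin (k + 1) → V × V) ↔
      IsHF Q B t ∧ p.1 ∈ perpOf h t ∧ p.2 ∈ perpOf h t ∧ Q p.1 = 0 ∧ Q p.2 = 0 ∧ B p.1 p.2 = 1 := by
  constructor
  · intro ht
    refine ⟨fun i j => ?_, fun i => ⟨?_, ?_⟩, fun i => ⟨?_, ?_⟩, ?_, ?_, ?_⟩
    · have := ht i.succ j.succ
      simp only [Fin.cons_succ, Fin.succ_inj, ne_eq] at this
      exact this
    · have := ((ht 0 i.succ).2.1 (Fin.succ_ne_zero i).symm).1
      simpa using this
    · have := (ht 0 i.succ).1
      simpa [(Fin.succ_ne_zero i).symm] using this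
    · have := (ht i.succ 0).1
      simp only [Fin.cons_succ, Fin.cons_zero, Fin.succ_ne_zero, if_false] at this
      rw [h.symm]
      exact this
    · have := ((ht 0 i.succ).2.1 (Fin.succ_ne_zero i).symm).2
      simpa using this
    · simpa using (ht 0 0).2.2.1
    · simpa using (ht 0 0).2.2.2
    · simpa using (ht 0 0).1
  · rintro ⟨h1, h2, h3, h4, h5, h6⟩ i j
    refine Fin.cases ?_ (fun i => ?_) i <;> refine Fin.cases ?_ (fun j => ?_) j
    · refine ⟨by simpa using h6, fun hne => absurd rfl hne, by simpa using h4, by simpa using h5⟩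
    · refine ⟨?_, fun _ => ⟨?_, ?_⟩, by simpa using h4, by simpa using h5⟩
      · simp only [Fin.cons_zero, Fin.cons_succ, (Fin.succ_ne_zero j).symm, if_false]
        exact (h2 j).2
      · simp only [Fin.cons_zero, Fin.cons_succ]
        exact (h2 j).1
      · simp only [Fin.cons_zero, Fin.cons_succ]
        exact (h3 j).2
    · refine ⟨?_, fun _ => ⟨?_, ?_⟩, ?_, ?_⟩
      · simp only [Fin.cons_zero, Fin.cons_succ, Fin.succ_ne_zero, if_false]
        rw [h.symm]
        exact (h3 i).1
      · simp only [Fin.cons_zero, Fin.cons_succ]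
        rw [h.symm]
        exact (h2 i).1
      · simp only [Fin.cons_zero, Fin.cons_succ]
        rw [h.symm]
        exact (h3 i).2
      · simpa using (h1 i i).2.2.1
      · simpa using (h1 i i).2.2.2
    · have := h1 i j
      simpa [Fin.succ_inj] using this

/-- The value of the quadratic form on a combination of a frame and a vector orthogonal to it. -/
lemma Q_comb (h : QF Q B) {k : ℕ} (t : Fin k → V × V) (ht : IsHF Q B t) (a b : Fin k → F) (w : V)
    (hw : w ∈ perpOf h t) :
    Q (∑ i, (a i • (t i).1 + b i • (t i).2) + w) = ∑ i, a i * b i + Q w := by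
  induction k with
  | zero => simp
  | succ k ih =>
    rw [← Fin.cons_self_tail t] at ht hw
    obtain ⟨h1, h2, h3, h4, h5, h6⟩ := (isHF_cons_iff h _ _).1 ht
    rw [perpOf_cons] at hw
    rw [Fin.sum_univ_succ, Fin.sum_univ_succ, add_assoc]
    have hw1 : w ∈ perpOf h (Fin.tail t) := hw.1
    have hw2 : ∑ i : Fin k, (a i.succ • (t i.succ).1 + b i.succ • (t i.succ).2) + w ∈
        perp2 h ⊤ (t 0).1 (t 0).2 := by
      refine ⟨trivial, ?_, ?_⟩
      · rw [h.add_left, h.sum_left, hw.2.1, add_zero]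
        refine Finset.sum_eq_zero (fun i _ => ?_)
        have e1 : B (t i.succ).1 (t 0).1 = 0 := by rw [h.symm]; exact (h2 i).1
        have e2 : B (t i.succ).2 (t 0).1 = 0 := by rw [h.symm]; exact (h2 i).2
        rw [h.add_left, h.smul_left, h.smul_left, e1, e2]
        ring
      · rw [h.add_left, h.sum_left, hw.2.2, add_zero]
        refine Finset.sum_eq_zero (fun i _ => ?_)
        have e3 : B (t i.succ).1 (t 0).2 = 0 := by rw [h.symm]; exact (h3 i).1
        have e4 : B (t i.succ).2 (t 0).2 = 0 := by rw [h.symm]; exact (h3 i).2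
        rw [h.add_left, h.smul_left, h.smul_left, e3, e4]
        ring
    have e1 := h.Q_pair h4 h5 h6 hw2.2.1 hw2.2.2 (a 0) (b 0)
    have e2 := ih (Fin.tail t) h1 (fun i => a i.succ) (fun i => b i.succ) hw1
    rw [e1]
    have e3 : ∑ i : Fin k, (a i.succ • (t i.succ).1 + b i.succ • (t i.succ).2) =
        ∑ i : Fin k, (a i.succ • (Fin.tail t i).1 + b i.succ • (Fin.tail t i).2) := rfl
    rw [e3, e2]
    ring

/-- Frames of length `k`. -/
def FR (Q : V → F) (B : V → V → F) (k : ℕ) : Type _ := {t : Fin k → V × V // IsHF Q B t}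

instance [Finite V] (k : ℕ) : Finite (FR Q B k) := by unfold FR; infer_instance

/-- Splitting off the first pair. -/
def frSuccEquiv (h : QF Q B) (k : ℕ) :
    FR Q B (k + 1) ≃ Σ t : FR Q B k, HPset Q B (perpOf h t.1) where
  toFun p :=
    have hp : IsHF Q B (Fin.cons (p.1 0) (Fin.tail p.1) : Fin (k + 1) → V × V) := by
      rw [Fin.cons_self_tail]
      exact p.2
    have hq := (isHF_cons_iff h _ _).1 hp
    ⟨⟨Fin.tail p.1, hq.1⟩, ⟨p.1 0, hq.2.1, hq.2.2.1, hq.2.2.2.1, hq.2.2.2.2.1, hq.2.2.2.2.2⟩⟩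
  invFun t := ⟨Fin.cons t.2.1 t.1.1, (isHF_cons_iff h _ _).2
    ⟨t.1.2, t.2.2.1, t.2.2.2.1, t.2.2.2.2.1, t.2.2.2.2.2.1, t.2.2.2.2.2.2⟩⟩
  left_inv p := by
    apply Subtype.ext
    simp only [Fin.cons_self_tail]
  right_inv t := by
    rcases t with ⟨⟨u, hu⟩, ⟨a, ha⟩⟩
    rfl

instance [Finite V] (S : Submodule F V) : Finite (HPset Q B S) := by
  unfold HPset
  infer_instance

section Data
variable [Finite V] (h : QF Q B) {m d : ℕ} {z : ℕ → ℕ}
include h

/-- The invariants of the complement of a frame. -/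
lemma perp_data (c : F) (hV : Nat.card V = Fintype.card F ^ (2 * m + d)) (hz : cntS Q ⊤ c = z m)
    (hrec : ∀ n, z (n + 1) = Fintype.card F * z n + (Fintype.card F - 1) * Fintype.card F ^ (2 * n + d))
    (hnd : ND B (⊤ : Submodule F V)) {k : ℕ} (t : Fin k → V × V) (ht : IsHF Q B t) (hk : k ≤ m) :
    Nat.card (perpOf h t) = Fintype.card F ^ (2 * (m - k) + d) ∧
      cntS Q (perpOf h t) c = z (m - k) ∧ ND B (perpOf h t) := by
  induction k with
  | zero =>
    have htop : perpOf h t = ⊤ := by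
      ext x
      simp only [Submodule.mem_top, iff_true]
      exact fun i => i.elim0
    rw [htop]
    refine ⟨?_, hz, hnd⟩
    rw [Nat.card_congr (Equiv.subtypeUnivEquiv (fun x => Submodule.mem_top)), hV]
    rfl
  | succ k ih =>
    have hq0 : 0 < Fintype.card F := Fintype.card_pos
    rw [← Fin.cons_self_tail t] at ht ⊢
    obtain ⟨h1, h2, h3, h4, h5, h6⟩ := (isHF_cons_iff h _ _).1 ht
    obtain ⟨i1, i2, i3⟩ := ih (Fin.tail t) h1 (by omega)
    rw [perpOf_cons]
    clear ih
    obtain ⟨n, hn⟩ : ∃ n, m - k = n + 1 := ⟨m - k - 1, by omega⟩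
    have hn' : m - (k + 1) = n := by omega
    rw [hn'] 
    rw [hn] at i1 i2
    have c1 := card_pair h h2 h3 h4 h5 h6
    have c2 := cnt_rec h h2 h3 h4 h5 h6 c
    have c3 : Nat.card (perp2 h (perpOf h (Fin.tail t)) (t 0).1 (t 0).2) =
        Fintype.card F ^ (2 * n + d) := by
      rw [i1] at c1
      have e1 : Fintype.card F ^ (2 * (n + 1) + d) = Fintype.card F ^ 2 * Fintype.card F ^ (2 * n + d) := by
        rw [← pow_add]; congr 1; ring
      rw [e1] at c1
      exact (Nat.eq_of_mul_eq_mul_left (by positivity) c1).symm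
    refine ⟨c3, ?_, ND_perp2 h i3 h2 h3 h4 h5 h6⟩
    rw [i2, hrec n, c3] at c2
    have : Fintype.card F * z n = Fintype.card F * cntS Q (perp2 h (perpOf h (Fin.tail t)) (t 0).1 (t 0).2) c := by
      omega
    exact (Nat.eq_of_mul_eq_mul_left hq0 this).symm

/-- The number of frames. -/
theorem card_FR (hV : Nat.card V = Fintype.card F ^ (2 * m + d)) (hz : cntS Q ⊤ 0 = z m)
    (hrec : ∀ n, z (n + 1) = Fintype.card F * z n + (Fintype.card F - 1) * Fintype.card F ^ (2 * n + d))
    (hnd : ND B (⊤ : Submodule F V)) (k : ℕ) (hk : k ≤ m) :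
    Nat.card (FR Q B k) = ∏ j ∈ Finset.range k, ((z (m - j) - 1) * Fintype.card F ^ (2 * (m - j - 1) + d)) := by
  classical
  induction k with
  | zero =>
    have : Unique (FR Q B 0) :=
      { default := ⟨fun i => i.elim0, fun i => i.elim0⟩
        uniq := fun t => by
          apply Subtype.ext
          funext i
          exact i.elim0 }
    simp [Nat.card_unique]
  | succ k ih =>
    have hq0 : 0 < Fintype.card F := Fintype.card_pos
    haveI : Fintype (FR Q B k) := Fintype.ofFinite _
    rw [Nat.card_congr (frSuccEquiv h k), Nat.card_sigma, Finset.prod_range_succ, ← ih (by omega)]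
    have key : ∀ t : FR Q B k, Nat.card (HPset Q B (perpOf h t.1)) =
        (z (m - k) - 1) * Fintype.card F ^ (2 * (m - k - 1) + d) := by
      intro t
      obtain ⟨i1, i2, i3⟩ := perp_data h 0 hV hz hrec hnd t.1 t.2 (by omega)
      have c := card_HP (Q := Q) h i3
      rw [i1, i2] at c
      obtain ⟨n, hn⟩ : ∃ n, m - k = n + 1 := ⟨m - k - 1, by omega⟩
      have hn' : m - k - 1 = n := by omega
      rw [hn'] 
      rw [hn] at c ⊢
      have e1 : Fintype.card F ^ (2 * (n + 1) + d) = Fintype.card F ^ 2 * Fintype.card F ^ (2 * n + d) := by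
        rw [← pow_add]; congr 1; ring
      rw [e1] at c
      have : Fintype.card F ^ 2 * Nat.card (HPset Q B (perpOf h t.1)) =
          Fintype.card F ^ 2 * ((z (n + 1) - 1) * Fintype.card F ^ (2 * n + d)) := by
        rw [c]; ring
      exact Nat.eq_of_mul_eq_mul_left (by positivity) this
    rw [Finset.sum_congr rfl (fun t _ => key t), Finset.sum_const, smul_eq_mul, Finset.card_univ,
      ← Nat.card_eq_fintype_card]

end Data

section Iso
variable {m : ℕ} {ι ρ : Type} [Fintype ι] [DecidableEq ι] [Fintype ρ] [DecidableEq ρ]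
variable {Q₀ : (ι → F) → F} {B₀ : (ι → F) → (ι → F) → F} {R : (ρ → F) → F}

/-- Columns of an isometry. -/
def Good (Q₀ : (ι → F) → F) (col : ι → (ι → F)) : Prop :=
  ∀ v : ι → F, Q₀ (∑ k, v k • col k) = Q₀ v

lemma mulVec_eq_sum_col' (A : Matrix ι ι F) (v : ι → F) :
    A *ᵥ v = ∑ i, v i • (fun c => A c i) := by
  ext c
  simp [Matrix.mulVec, dotProduct, Finset.sum_apply, mul_comm]

/-- The isometry group is the type of good column tuples. -/
noncomputable def isoEquiv (h : QF Q₀ B₀) (hnd : ND B₀ (⊤ : Submodule F (ι → F))) :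
    Cfsg.isometryGroup F Q₀ ≃ {col : ι → (ι → F) // Good Q₀ col} where
  toFun g := ⟨fun k c => ((g : GL ι F) : Matrix ι ι F) c k, by
    intro v
    have := g.2 v v
    simp only [Units.coeHom_apply] at this
    rw [mulVec_eq_sum_col'] at this
    exact this⟩
  invFun col :=
    let A : Matrix ι ι F := Matrix.of fun c k => col.1 k c
    have hcol : ∀ i, (fun c => A c i) = col.1 i := fun i => rfl
    have hpres : ∀ v : ι → F, Q₀ (A *ᵥ v) = Q₀ v := by
      intro v
      rw [mulVec_eq_sum_col']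
      simp only [hcol]
      exact col.2 v
    have hdet : A.det ≠ 0 := by
      intro h0
      obtain ⟨v, hv, hAv⟩ := Matrix.exists_mulVec_eq_zero_iff.2 h0
      obtain ⟨w, -, hw⟩ := hnd v trivial hv
      apply hw
      have h1 : Q₀ v = 0 := by
        rw [← hpres v, hAv, h.Q_zero]
      have h2 : Q₀ (v + w) = Q₀ w := by
        rw [← hpres (v + w), Matrix.mulVec_add, hAv, zero_add, hpres]
      rw [h.add, h1, zero_add] at h2
      linear_combination h2
    ⟨Matrix.GeneralLinearGroup.mkOfDetNeZero A hdet, fun u _ => hpres u⟩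
  left_inv g := by
    apply Subtype.ext
    apply Units.ext
    rfl
  right_inv col := by
    apply Subtype.ext
    rfl

variable (e : (Fin m ⊕ Fin m) ⊕ ρ ≃ ι)

/-- The sum over `ι` in coordinates. -/
lemma sum_coords (v : ι → F) (col : ι → (ι → F)) :
    ∑ k, v k • col k =
      ∑ i, (v (e (.inl (.inl i))) • col (e (.inl (.inl i))) +
        v (e (.inl (.inr i))) • col (e (.inl (.inr i)))) +
      ∑ j, v (e (.inr j)) • col (e (.inr j)) := by
  rw [← Equiv.sum_comp e, Fintype.sum_sum_type, Fintype.sum_sum_type, Finset.sum_add_distrib]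

/-- A vector from coordinates. -/
def vecOf (a b : Fin m → F) (c : ρ → F) : ι → F :=
  (Sum.elim (Sum.elim a b) c) ∘ e.symm

@[simp] lemma vecOf_x (a b : Fin m → F) (c : ρ → F) (i : Fin m) :
    vecOf e a b c (e (.inl (.inl i))) = a i := by
  simp [vecOf]

@[simp] lemma vecOf_y (a b : Fin m → F) (c : ρ → F) (i : Fin m) :
    vecOf e a b c (e (.inl (.inr i))) = b i := by
  simp [vecOf]

@[simp] lemma vecOf_r (a b : Fin m → F) (c : ρ → F) (j : ρ) :
    vecOf e a b c (e (.inr j)) = c j := by
  simp [vecOf]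

/-- The residual part of a frame. -/
abbrev Resid (h : QF Q₀ B₀) (R : (ρ → F) → F) (t : Fin m → (ι → F) × (ι → F)) : Type _ :=
  {w : ρ → (ι → F) // (∀ j, w j ∈ perpOf h t) ∧ ∀ c : ρ → F, Q₀ (∑ j, c j • w j) = R c}

variable (hform : ∀ v : ι → F, Q₀ v = ∑ i, v (e (.inl (.inl i))) * v (e (.inl (.inr i))) +
  R (fun j => v (e (.inr j))))

include hform in
/-- The goodness condition in coordinates. -/
lemma good_coords {col : ι → (ι → F)} (hc : Good Q₀ col) (a b : Fin m → F) (c : ρ → F) :
    Q₀ (∑ i, (a i • col (e (.inl (.inl i))) + b i • col (e (.inl (.inr i)))) +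
      ∑ j, c j • col (e (.inr j))) = ∑ i, a i * b i + R c := by
  have h1 := hc (vecOf e a b c)
  rw [sum_coords e] at h1
  simp only [vecOf_x, vecOf_y, vecOf_r] at h1
  rw [h1, hform]
  simp only [vecOf_x, vecOf_y, vecOf_r]

include hform in
/-- Good columns give a frame with a residual part. -/
lemma good_frame (h : QF Q₀ B₀) {col : ι → (ι → F)} (hc : Good Q₀ col) :
    IsHF Q₀ B₀ (fun i : Fin m => (col (e (.inl (.inl i))), col (e (.inl (.inr i))))) ∧
      (∀ j, col (e (.inr j)) ∈ perpOf h (fun i : Fin m => (col (e (.inl (.inl i))), col (e (.inl (.inr i)))))) ∧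
      ∀ c : ρ → F, Q₀ (∑ j, c j • col (e (.inr j))) = R c := by
  classical
  have G := good_coords e hform hc
  have hR0 : R 0 = 0 := by
    have := hform 0
    rw [h.Q_zero] at this
    simp only [Pi.zero_apply, mul_zero, Finset.sum_const_zero, zero_add] at this
    exact this.symm
  have Gx : ∀ i, Q₀ (col (e (.inl (.inl i)))) = 0 := by
    intro i
    have := G (Pi.single i 1) 0 0
    simpa [Pi.single_apply, hR0] using this
  have Gy : ∀ i, Q₀ (col (e (.inl (.inr i)))) = 0 := by
    intro i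
    have := G 0 (Pi.single i 1) 0
    simpa [Pi.single_apply, hR0] using this
  have Gxy : ∀ i j, B₀ (col (e (.inl (.inl i)))) (col (e (.inl (.inr j)))) = if i = j then 1 else 0 := by
    intro i j
    have := G (Pi.single i 1) (Pi.single j 1) 0
    rw [h.polar, Gx, Gy]
    simpa [Pi.single_apply, hR0, add_smul, ite_smul, Finset.sum_add_distrib, eq_comm] using this
  have Gxx : ∀ i j, i ≠ j → B₀ (col (e (.inl (.inl i)))) (col (e (.inl (.inl j)))) = 0 := by
    intro i j hij
    have := G (Pi.single i 1 + Pi.single j 1) 0 0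
    rw [h.polar, Gx, Gx]
    simpa [Pi.single_apply, hR0, add_smul, ite_smul, Finset.sum_add_distrib] using this
  have Gyy : ∀ i j, i ≠ j → B₀ (col (e (.inl (.inr i)))) (col (e (.inl (.inr j)))) = 0 := by
    intro i j hij
    have := G 0 (Pi.single i 1 + Pi.single j 1) 0
    rw [h.polar, Gy, Gy]
    simpa [Pi.single_apply, hR0, add_smul, ite_smul, Finset.sum_add_distrib] using this
  have Gr : ∀ c, Q₀ (∑ j, c j • col (e (.inr j))) = R c := by
    intro c
    have := G 0 0 c
    simpa using this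
  refine ⟨fun i j => ⟨Gxy i j, fun hij => ⟨Gxx i j hij, Gyy i j hij⟩, Gx i, Gy i⟩, fun j i => ⟨?_, ?_⟩, Gr⟩
  · have h1 : Q₀ (col (e (.inl (.inl i))) + col (e (.inr j))) = R (Pi.single j 1) := by
      have := G (Pi.single i 1) 0 (Pi.single j 1)
      simpa [Pi.single_apply] using this
    have h2 : Q₀ (col (e (.inr j))) = R (Pi.single j 1) := by
      have := G 0 0 (Pi.single j 1)
      simpa [Pi.single_apply] using this
    simp only
    rw [h.symm, h.polar, h1, h2, Gx]
    ring
  · have h1 : Q₀ (col (e (.inl (.inr i))) + col (e (.inr j))) = R (Pi.single j 1) := by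
      have := G 0 (Pi.single i 1) (Pi.single j 1)
      simpa [Pi.single_apply] using this
    have h2 : Q₀ (col (e (.inr j))) = R (Pi.single j 1) := by
      have := G 0 0 (Pi.single j 1)
      simpa [Pi.single_apply] using this
    simp only
    rw [h.symm, h.polar, h1, h2, Gy]
    ring

include hform in
/-- The converse of `good_frame`. -/
lemma frame_good (h : QF Q₀ B₀) (t : Fin m → (ι → F) × (ι → F)) (ht : IsHF Q₀ B₀ t)
    (w : ρ → (ι → F)) (hw : ∀ j, w j ∈ perpOf h t) (hr : ∀ c : ρ → F, Q₀ (∑ j, c j • w j) = R c) :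
    Good Q₀ ((Sum.elim (Sum.elim (fun i => (t i).1) (fun i => (t i).2)) w) ∘ e.symm) := by
  intro v
  rw [sum_coords e]
  simp only [Function.comp_apply, Equiv.symm_apply_apply, Sum.elim_inl, Sum.elim_inr]
  have hz : ∑ j, v (e (.inr j)) • w j ∈ perpOf h t :=
    Submodule.sum_mem _ (fun j _ => Submodule.smul_mem _ _ (hw j))
  rw [Q_comb h t ht _ _ _ hz, hr, hform]

include hform in
/-- Good column tuples are frames with residual parts. -/
noncomputable def goodEquiv (h : QF Q₀ B₀) :
    {col : ι → (ι → F) // Good Q₀ col} ≃ Σ t : FR Q₀ B₀ m, Resid h R t.1 where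
  toFun col := ⟨⟨fun i => (col.1 (e (.inl (.inl i))), col.1 (e (.inl (.inr i)))),
      (good_frame e hform h col.2).1⟩,
    ⟨fun j => col.1 (e (.inr j)), (good_frame e hform h col.2).2.1, (good_frame e hform h col.2).2.2⟩⟩
  invFun p := ⟨(Sum.elim (Sum.elim (fun i => (p.1.1 i).1) (fun i => (p.1.1 i).2)) p.2.1) ∘ e.symm,
    frame_good e hform h p.1.1 p.1.2 p.2.1 p.2.2.1 p.2.2.2⟩
  left_inv col := by
    apply Subtype.ext
    funext k
    obtain ⟨x, rfl⟩ := e.surjective k
    rcases x with (i | i) | j <;> simp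
  right_inv p := by
    obtain ⟨⟨t, ht⟩, ⟨w, hw⟩⟩ := p
    have e1 : (fun i : Fin m => (((Sum.elim (Sum.elim (fun i => (t i).1) (fun i => (t i).2)) w) ∘ e.symm)
        (e (.inl (.inl i))), ((Sum.elim (Sum.elim (fun i => (t i).1) (fun i => (t i).2)) w) ∘ e.symm)
        (e (.inl (.inr i))))) = t := by
      funext i
      simp
    refine Sigma.ext (Subtype.ext e1) ?_
    refine (Subtype.heq_iff_coe_eq ?_).2 ?_
    · intro x
      simp only [e1]
    · funext j
      simp

include hform in
/-- The order of the isometry group, as a sum over frames. -/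
theorem card_iso (h : QF Q₀ B₀) (hnd : ND B₀ (⊤ : Submodule F (ι → F))) :
    Nat.card (Cfsg.isometryGroup F Q₀) =
      ∑ᶠ t : FR Q₀ B₀ m, Nat.card (Resid h R t.1) := by
  classical
  haveI : Fintype (FR Q₀ B₀ m) := Fintype.ofFinite _
  haveI : ∀ t : FR Q₀ B₀ m, Finite (Resid h R t.1) := fun t => by
    unfold Resid
    infer_instance
  rw [Nat.card_congr (isoEquiv h hnd), Nat.card_congr (goodEquiv e hform h), Nat.card_sigma,
    finsum_eq_sum_of_fintype]

include hform in
/-- The order of the isometry group when the residual count is constant. -/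
theorem card_iso_const (h : QF Q₀ B₀) (hnd : ND B₀ (⊤ : Submodule F (ι → F))) (r : ℕ)
    (hr : ∀ t : FR Q₀ B₀ m, Nat.card (Resid h R t.1) = r) :
    Nat.card (Cfsg.isometryGroup F Q₀) = Nat.card (FR Q₀ B₀ m) * r := by
  classical
  haveI : Fintype (FR Q₀ B₀ m) := Fintype.ofFinite _
  rw [card_iso e hform h hnd, finsum_eq_sum_of_fintype, Finset.sum_congr rfl (fun t _ => hr t),
    Finset.sum_const, smul_eq_mul, Finset.card_univ, Nat.card_eq_fintype_card]

end Iso

end Cfsg.Agent.Lead.Ortho
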