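import Cfsg.Agent.Lib.Lead.SUCenter
import Cfsg.Agent.Lib.H12.UTrans
/-! Eichler transformations of the unitary group. -/
set_option autoImplicit false
set_option linter.unusedSimpArgs false
set_option linter.style.haveILetI false
set_option linter.unusedSectionVars false
set_option linter.unusedVariables false
namespace Cfsg.Agent.Lead.PSU
open Matrix
open scoped MatrixGroups commutatorElement

variable {F : Type*} [Field F] [Fintype F] {q n : ℕ}

local notation "herm" => Cfsg.hermForm n F q

/-! ### The action -/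

/-- The action of `SU` on vectors. -/
def act (g : Cfsg.SU n F q) (x : Fin n → F) : Fin n → F :=
  ((g : SpecialLinearGroup (Fin n) F) : Matrix (Fin n) (Fin n) F) *ᵥ x

lemma act_mul (g h : Cfsg.SU n F q) (x : Fin n → F) : act (g * h) x = act g (act h x) := by
  unfold act
  rw [Matrix.mulVec_mulVec]
  rfl

lemma act_one (x : Fin n → F) : act (1 : Cfsg.SU n F q) x = x := by
  unfold act
  exact Matrix.one_mulVec x

lemma act_inv_act (g : Cfsg.SU n F q) (x : Fin n → F) : act g⁻¹ (act g x) = x := by
  rw [← act_mul, inv_mul_cancel, act_one]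

lemma act_act_inv (g : Cfsg.SU n F q) (x : Fin n → F) : act g (act g⁻¹ x) = x := by
  rw [← act_mul, mul_inv_cancel, act_one]

lemma act_add (g : Cfsg.SU n F q) (x y : Fin n → F) : act g (x + y) = act g x + act g y := by
  unfold act
  rw [Matrix.mulVec_add]

lemma act_sub (g : Cfsg.SU n F q) (x y : Fin n → F) : act g (x - y) = act g x - act g y := by
  unfold act
  rw [Matrix.mulVec_sub]

lemma act_smul (g : Cfsg.SU n F q) (c : F) (x : Fin n → F) : act g (c • x) = c • act g x := by
  unfold act
  rw [Matrix.mulVec_smul]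

lemma act_neg (g : Cfsg.SU n F q) (x : Fin n → F) : act g (-x) = - act g x := by
  unfold act
  rw [Matrix.mulVec_neg]

lemma act_zero (g : Cfsg.SU n F q) : act g (0 : Fin n → F) = 0 := by
  unfold act
  rw [Matrix.mulVec_zero]

lemma herm_act (g : Cfsg.SU n F q) (x y : Fin n → F) : herm (act g x) (act g y) = herm x y :=
  g.2 x y

lemma act_injective (g : Cfsg.SU n F q) : Function.Injective (act g : (Fin n → F) → (Fin n → F)) := by
  intro x y h
  have := congrArg (act g⁻¹) h
  rwa [act_inv_act, act_inv_act] at this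

lemma su_ext {g h : Cfsg.SU n F q} (H : ∀ x : Fin n → F, act g x = act h x) : g = h := by
  apply Subtype.ext
  apply Subtype.ext
  exact Matrix.mulVec_injective (funext H)

/-! ### Form identities -/

section Form

variable (hF : Fintype.card F = q ^ 2)
include hF

lemma herm_zero_right (x : Fin n → F) : herm x 0 = 0 := by
  have hq := two_le_q hF
  simp only [Cfsg.hermForm, Pi.zero_apply]
  rw [zero_pow (by omega)]
  simp

lemma herm_zero_left (x : Fin n → F) : herm 0 x = 0 := by
  simp [Cfsg.hermForm]

lemma herm_neg_left (x y : Fin n → F) : herm (-x) y = - herm x y := by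
  have := herm_smul_left (n := n) (q := q) (-1 : F) x y
  simpa using this

lemma herm_neg_right (x y : Fin n → F) : herm x (-y) = - herm x y := by
  have := herm_smul_right (n := n) hF (-1 : F) x y
  rw [Cfsg.Agent.H12.UTrans.neg_one_pow_q hF] at this
  simpa using this

lemma herm_sub_left (x y z : Fin n → F) : herm (x - y) z = herm x z - herm y z := by
  rw [sub_eq_add_neg, herm_add_left, herm_neg_left hF]
  ring

lemma herm_sub_right (x y z : Fin n → F) : herm x (y - z) = herm x y - herm x z := by
  rw [sub_eq_add_neg, herm_add_right hF, herm_neg_right hF]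
  ring

lemma herm_self_fixed (x : Fin n → F) : (herm x x) ^ q = herm x x :=
  (herm_conj hF x x).symm

lemma pow_add_q (a b : F) : (a + b) ^ q = a ^ q + b ^ q := by
  obtain ⟨φ, hφ⟩ := exists_frob hF
  rw [← hφ, ← hφ, ← hφ, map_add]

lemma pow_sub_q (a b : F) : (a - b) ^ q = a ^ q - b ^ q := by
  obtain ⟨φ, hφ⟩ := exists_frob hF
  rw [← hφ, ← hφ, ← hφ, map_sub]

lemma pow_neg_q (a : F) : (-a) ^ q = - a ^ q := by
  obtain ⟨φ, hφ⟩ := exists_frob hF
  rw [← hφ, ← hφ, map_neg]

lemma pow_inv_q (a : F) : (a⁻¹) ^ q = (a ^ q)⁻¹ := inv_pow a q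

lemma herm_eq_zero_symm {x y : Fin n → F} (h : herm x y = 0) : herm y x = 0 := by
  have hq := two_le_q hF
  rw [herm_conj hF x y, h, zero_pow (by omega)]

/-- Non-degeneracy of the form on the whole space. -/
lemma herm_nondeg {x : Fin n → F} (hx : x ≠ 0) : ∃ y, herm x y ≠ 0 := by
  obtain ⟨y, hy⟩ := Cfsg.Agent.H12.UTrans.exists_herm_one hF hx
  exact ⟨y, by rw [hy]; exact one_ne_zero⟩

end Form

/-! ### The Eichler map -/

/-- Admissible data for an Eichler transformation. -/
structure Adm (q' : ℕ) (u a : Fin n → F) (b : F) : Prop where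
  uu : Cfsg.hermForm n F q' u u = 0
  au : Cfsg.hermForm n F q' a u = 0
  tr : b + b ^ q' + Cfsg.hermForm n F q' a a = 0

/-- The Eichler map. -/
def Efun (q' : ℕ) (u a : Fin n → F) (b : F) (x : Fin n → F) : Fin n → F :=
  x + Cfsg.hermForm n F q' x u • a + (b * Cfsg.hermForm n F q' x u - Cfsg.hermForm n F q' x a) • u

lemma Efun_add (u a : Fin n → F) (b : F) (x y : Fin n → F) :
    Efun q u a b (x + y) = Efun q u a b x + Efun q u a b y := by
  unfold Efun
  rw [herm_add_left, herm_add_left]
  simp only [add_smul, mul_add, sub_eq_add_neg, neg_add, smul_add]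
  abel

lemma Efun_smul (u a : Fin n → F) (b c : F) (x : Fin n → F) :
    Efun q u a b (c • x) = c • Efun q u a b x := by
  unfold Efun
  rw [herm_smul_left, herm_smul_left]
  simp only [smul_add, smul_smul]
  congr 2
  ring

/-- The Eichler map as a linear map. -/
def Elin (q' : ℕ) (u a : Fin n → F) (b : F) : (Fin n → F) →ₗ[F] (Fin n → F) where
  toFun := Efun q' u a b
  map_add' x y := by
    unfold Efun
    rw [show Cfsg.hermForm n F q' (x + y) u = Cfsg.hermForm n F q' x u + Cfsg.hermForm n F q' y u from herm_add_left _ _ _,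
      show Cfsg.hermForm n F q' (x + y) a = Cfsg.hermForm n F q' x a + Cfsg.hermForm n F q' y a from herm_add_left _ _ _]
    simp only [add_smul, mul_add, sub_eq_add_neg, neg_add, smul_add]
    abel
  map_smul' c x := by
    unfold Efun
    rw [show Cfsg.hermForm n F q' (c • x) u = c * Cfsg.hermForm n F q' x u from herm_smul_left _ _ _,
      show Cfsg.hermForm n F q' (c • x) a = c * Cfsg.hermForm n F q' x a from herm_smul_left _ _ _]
    simp only [RingHom.id_apply, smul_add, smul_smul]
    congr 2
    ring

/-- The matrix of the Eichler map. -/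
noncomputable def Emat (q' : ℕ) (u a : Fin n → F) (b : F) : Matrix (Fin n) (Fin n) F :=
  LinearMap.toMatrix' (Elin q' u a b)

lemma Emat_mulVec (u a : Fin n → F) (b : F) (x : Fin n → F) :
    Emat q u a b *ᵥ x = Efun q u a b x := by
  unfold Emat
  rw [LinearMap.toMatrix'_mulVec]
  rfl

section Eich

variable (hF : Fintype.card F = q ^ 2)
include hF

lemma herm_Efun_u {u a : Fin n → F} {b : F} (h : Adm q u a b) (x : Fin n → F) :
    herm (Efun q u a b x) u = herm x u := by
  unfold Efun
  rw [herm_add_left, herm_add_left, herm_smul_left, herm_smul_left, h.au, h.uu]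
  ring

lemma herm_Efun_a {u a : Fin n → F} {b : F} (h : Adm q u a b) (x : Fin n → F) :
    herm (Efun q u a b x) a = herm x a + herm x u * herm a a := by
  have hua := herm_eq_zero_symm hF h.au
  unfold Efun
  rw [herm_add_left, herm_add_left, herm_smul_left, herm_smul_left, hua]
  ring

lemma Efun_preserves {u a : Fin n → F} {b : F} (h : Adm q u a b) (x y : Fin n → F) :
    herm (Efun q u a b x) (Efun q u a b y) = herm x y := by
  have hua := herm_eq_zero_symm hF h.au
  have hu := h.uu
  have haa := herm_self_fixed (n := n) hF a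
  have e1 : herm a y = (herm y a) ^ q := herm_conj hF y a
  have e2 : herm u y = (herm y u) ^ q := herm_conj hF y u
  unfold Efun
  simp only [herm_add_left, herm_smul_left, herm_add_right hF, herm_smul_right hF, pow_add_q hF,
    pow_sub_q hF, mul_pow, h.au, hua, hu, e1, e2]
  have ht := h.tr
  linear_combination (herm x u * (herm y u) ^ q) * ht

lemma Emat_cube {u a : Fin n → F} {b : F} (h : Adm q u a b) :
    (Emat q u a b - 1) * (Emat q u a b - 1) * (Emat q u a b - 1) = 0 := by
  apply Matrix.mulVec_injective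
  funext x
  have hua := herm_eq_zero_symm hF h.au
  have hN : ∀ y : Fin n → F, (Emat q u a b - 1) *ᵥ y =
      herm y u • a + (b * herm y u - herm y a) • u := by
    intro y
    rw [Matrix.sub_mulVec, Matrix.one_mulVec, Emat_mulVec]
    unfold Efun
    abel
  have hNu : ∀ y : Fin n → F, herm (herm y u • a + (b * herm y u - herm y a) • u) u = 0 := by
    intro y
    rw [herm_add_left, herm_smul_left, herm_smul_left, h.au, h.uu]
    ring
  have hNa : ∀ y : Fin n → F, herm (herm y u • a + (b * herm y u - herm y a) • u) a = herm y u * herm a a := by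
    intro y
    rw [herm_add_left, herm_smul_left, herm_smul_left, hua]
    ring
  rw [← Matrix.mulVec_mulVec, ← Matrix.mulVec_mulVec, hN x, hN, hN, hNu, hNa]
  rw [herm_add_left, herm_smul_left, herm_smul_left, h.au, h.uu]
  simp

lemma Emat_det {u a : Fin n → F} {b : F} (h : Adm q u a b) (hn : 0 < n) : (Emat q u a b).det = 1 := by
  classical
  obtain ⟨p, hp⟩ := CharP.exists F
  haveI := hp
  have hpp : p.Prime := CharP.char_is_prime F p
  haveI : Fact p.Prime := ⟨hpp⟩
  haveI : Nonempty (Fin n) := ⟨⟨0, hn⟩⟩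
  have hcube := Emat_cube hF h
  set N := Emat q u a b - 1 with hN
  have hE : Emat q u a b = N + 1 := by rw [hN]; abel
  have h1 : N ^ p ^ 2 = 0 := by
    have h4 : 3 ≤ p ^ 2 := by
      have := hpp.two_le
      nlinarith
    obtain ⟨k, hk⟩ : ∃ k, p ^ 2 = k + 3 := ⟨p ^ 2 - 3, by omega⟩
    rw [hk, pow_add, pow_three, ← mul_assoc N, hcube, mul_zero]
  have h2 : (Emat q u a b) ^ p ^ 2 = 1 := by
    rw [hE, add_pow_char_pow_of_commute p 2 (Commute.one_right _), h1, one_pow, zero_add]
  have h3 : ((Emat q u a b).det) ^ p ^ 2 = 1 := by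
    rw [← Matrix.det_pow, h2, Matrix.det_one]
  have h5 : ((Emat q u a b).det - 1) ^ p ^ 2 = 0 := by
    rw [sub_pow_char_pow, h3, one_pow, sub_self]
  exact sub_eq_zero.1 (pow_eq_zero_iff (pow_ne_zero _ hpp.ne_zero) |>.1 h5)

end Eich

/-- The Eichler transformation as an element of `SU`. -/
noncomputable def E (hF : Fintype.card F = q ^ 2) (hn : 0 < n) (u a : Fin n → F) (b : F) (h : Adm q u a b) :
    Cfsg.SU n F q :=
  ⟨⟨Emat q u a b, Emat_det hF h hn⟩, fun x y => by
    change herm (Emat q u a b *ᵥ x) (Emat q u a b *ᵥ y) = herm x y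
    rw [Emat_mulVec, Emat_mulVec]
    exact Efun_preserves hF h x y⟩

section EGroup

variable (hF : Fintype.card F = q ^ 2) (hn : 0 < n)

lemma act_E {u a : Fin n → F} {b : F} (h : Adm q u a b) (x : Fin n → F) :
    act (E hF hn u a b h) x = Efun q u a b x :=
  Emat_mulVec u a b x

include hF

lemma Adm.mul {u a a' : Fin n → F} {b b' : F} (h : Adm q u a b) (h' : Adm q u a' b') :
    Adm q u (a + a') (b + b' - herm a' a) where
  uu := h.uu
  au := by rw [herm_add_left, h.au, h'.au, add_zero]
  tr := by
    have t1 := h.tr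
    have t2 := h'.tr
    have e1 : herm a a' = (herm a' a) ^ q := herm_conj hF a' a
    rw [pow_sub_q hF, pow_add_q hF, herm_add_left, herm_add_right hF, herm_add_right hF, e1]
    linear_combination t1 + t2

lemma Adm.inv {u a : Fin n → F} {b : F} (h : Adm q u a b) : Adm q u (-a) (b ^ q) where
  uu := h.uu
  au := by rw [herm_neg_left hF, h.au, neg_zero]
  tr := by
    have t1 := h.tr
    rw [pow_q_sq hF, herm_neg_left hF, herm_neg_right hF]
    linear_combination t1

lemma Adm.zero (u : Fin n → F) (hu : herm u u = 0) : Adm q u 0 0 where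
  uu := hu
  au := herm_zero_left hF u
  tr := by
    have hq := two_le_q hF
    rw [herm_zero_left hF, zero_pow (by omega)]
    ring

lemma E_congr {u a a' : Fin n → F} {b b' : F} (h : Adm q u a b) (h' : Adm q u a' b') (e1 : a = a') (e2 : b = b') :
    E hF hn u a b h = E hF hn u a' b' h' := by
  subst e1 e2
  rfl

lemma E_mul {u a a' : Fin n → F} {b b' : F} (h : Adm q u a b) (h' : Adm q u a' b') :
    E hF hn u a b h * E hF hn u a' b' h' = E hF hn u (a + a') (b + b' - herm a' a) (Adm.mul hF h h') := by
  apply su_ext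
  intro x
  rw [act_mul, act_E, act_E, act_E]
  have hua := herm_eq_zero_symm hF h.au
  have e1 := herm_Efun_u hF h' x
  have e2 : herm (Efun q u a' b' x) a = herm x a + herm x u * herm a' a := by
    unfold Efun
    rw [herm_add_left, herm_add_left, herm_smul_left, herm_smul_left, hua]
    ring
  have key : Efun q u a b (Efun q u a' b' x) = Efun q u a' b' x + herm x u • a +
      (b * herm x u - (herm x a + herm x u * herm a' a)) • u := by
    conv_lhs => rw [Efun, e1, e2]
  rw [key]
  unfold Efun
  rw [herm_add_right hF]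
  funext i
  simp only [Pi.add_apply, Pi.smul_apply, smul_eq_mul]
  ring

lemma E_one {u : Fin n → F} (h : Adm q u 0 0) : E hF hn u 0 0 h = 1 := by
  apply su_ext
  intro x
  rw [act_E, act_one]
  unfold Efun
  rw [herm_zero_right hF]
  simp

lemma E_zero_b_one (hu : herm (0 : Fin n → F) 0 = 0) {a : Fin n → F} {b : F} (h : Adm q (0 : Fin n → F) a b) :
    E hF hn 0 a b h = 1 := by
  apply su_ext
  intro x
  rw [act_E, act_one]
  unfold Efun
  rw [herm_zero_right hF]
  simp

lemma E_inv {u a : Fin n → F} {b : F} (h : Adm q u a b) :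
    (E hF hn u a b h)⁻¹ = E hF hn u (-a) (b ^ q) (Adm.inv hF h) := by
  apply inv_eq_of_mul_eq_one_right
  rw [E_mul hF hn h (Adm.inv hF h)]
  have h0 : Adm q u 0 0 := Adm.zero hF u h.uu
  rw [E_congr hF hn _ h0 (add_neg_cancel a) (by
    have t := h.tr
    rw [herm_neg_left hF]
    linear_combination t)]
  exact E_one hF hn h0

/-- Conjugation transports admissible data. -/
lemma Adm.conj (g : Cfsg.SU n F q) {u a : Fin n → F} {b : F} (h : Adm q u a b) :
    Adm q (act g u) (act g a) b where
  uu := by rw [herm_act]; exact h.uu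
  au := by rw [herm_act]; exact h.au
  tr := by rw [herm_act]; exact h.tr

lemma E_conj (g : Cfsg.SU n F q) {u a : Fin n → F} {b : F} (h : Adm q u a b) :
    g * E hF hn u a b h * g⁻¹ = E hF hn (act g u) (act g a) b (Adm.conj hF g h) := by
  apply su_ext
  intro x
  rw [act_mul, act_mul, act_E, act_E]
  have e : ∀ w : Fin n → F, herm (act g⁻¹ x) w = herm x (act g w) := by
    intro w
    have := herm_act g (act g⁻¹ x) w
    rw [act_act_inv] at this
    exact this.symm
  unfold Efun
  rw [e, e, act_add, act_add, act_smul, act_smul, act_act_inv]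

lemma Adm.scale {μ : F} (hμ : μ ≠ 0) {x a : Fin n → F} {b : F} (h : Adm q (μ • x) a b) :
    Adm q x (μ ^ q • a) (μ ^ (q + 1) * b) where
  uu := by
    have := h.uu
    rw [herm_smul_left, herm_smul_right hF] at this
    exact (mul_eq_zero.1 this).resolve_left hμ |> fun t => (mul_eq_zero.1 t).resolve_left (pow_ne_zero _ hμ)
  au := by
    have := h.au
    rw [herm_smul_right hF] at this
    rw [herm_smul_left]
    exact this
  tr := by
    have t := h.tr
    have h1 : (μ ^ (q + 1)) ^ q = μ ^ (q + 1) := norm_fixed hF μ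
    rw [mul_pow, h1, herm_smul_left, herm_smul_right hF, pow_q_sq hF]
    have : μ ^ (q + 1) = μ ^ q * μ := by rw [pow_succ]
    rw [this] at *
    linear_combination (μ ^ q * μ) * t

lemma E_scale {μ : F} (hμ : μ ≠ 0) {x a : Fin n → F} {b : F} (h : Adm q (μ • x) a b) :
    E hF hn (μ • x) a b h = E hF hn x (μ ^ q • a) (μ ^ (q + 1) * b) (Adm.scale hF hμ h) := by
  apply su_ext
  intro y
  rw [act_E, act_E]
  unfold Efun
  rw [herm_smul_right hF, herm_smul_right hF, pow_q_sq hF]
  funext i
  simp only [Pi.add_apply, Pi.smul_apply, smul_eq_mul]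
  ring

lemma Efun_fix {u a : Fin n → F} {b : F} {x : Fin n → F} (h1 : herm x u = 0) (h2 : herm x a = 0) :
    Efun q u a b x = x := by
  unfold Efun
  rw [h1, h2]
  simp

lemma act_E_fix {u a : Fin n → F} {b : F} (h : Adm q u a b) {x : Fin n → F} (h1 : herm x u = 0)
    (h2 : herm x a = 0) : act (E hF hn u a b h) x = x := by
  rw [act_E, Efun_fix hF h1 h2]

/-- The commutation relation in the stabilizer of an isotropic vector. -/
lemma E_comm_rel {u a a' : Fin n → F} {b b' : F} (h : Adm q u a b) (h' : Adm q u a' b')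
    (hk : Adm q u 0 (herm a a' - herm a' a)) :
    E hF hn u a b h * E hF hn u a' b' h' =
      E hF hn u 0 (herm a a' - herm a' a) hk * (E hF hn u a' b' h' * E hF hn u a b h) := by
  rw [E_mul hF hn h h', E_mul hF hn h' h, E_mul hF hn hk (Adm.mul hF h' h)]
  apply E_congr
  · abel
  · rw [herm_zero_right hF]
    ring

lemma adm_comm {u a a' : Fin n → F} {b b' : F} (h : Adm q u a b) (h' : Adm q u a' b') :
    Adm q u 0 (herm a a' - herm a' a) where
  uu := h.uu
  au := herm_zero_left hF u
  tr := by
    have hq := two_le_q hF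
    have e1 : herm a a' = (herm a' a) ^ q := herm_conj hF a' a
    rw [herm_zero_left hF, pow_sub_q hF, e1, pow_q_sq hF]
    ring

lemma E_commutator {u a a' : Fin n → F} {b b' : F} (h : Adm q u a b) (h' : Adm q u a' b') :
    ⁅E hF hn u a b h, E hF hn u a' b' h'⁆ = E hF hn u 0 (herm a a' - herm a' a) (adm_comm hF h h') := by
  rw [commutatorElement_def, E_comm_rel hF hn h h' (adm_comm hF h h')]
  group

end EGroup

end Cfsg.Agent.Lead.PSU
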