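import Cfsg.Agent.Lib.Lead.SpOrder
/-! `Sp_4(2) ≅ S_6` through the even-weight module of `S_6` modulo the all-ones vector. -/
set_option autoImplicit false
set_option linter.style.haveILetI false
namespace Cfsg.Agent.Lead
open Matrix

abbrev I4 := Fin 2 ⊕ Fin 2
abbrev V6 := Fin 6 → ZMod 2

/-- Vectors `e₁, e₂, f₁, f₂` of the even-weight module. -/
def sV : I4 → V6
  | .inl 0 => ![1, 1, 0, 0, 0, 0]
  | .inl 1 => ![0, 0, 0, 1, 1, 0]
  | .inr 0 => ![0, 1, 1, 0, 0, 0]
  | .inr 1 => ![0, 0, 0, 0, 1, 1]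

/-- The dual functionals. -/
def rV : I4 → V6
  | .inl 0 => sV (.inr 0)
  | .inl 1 => sV (.inr 1)
  | .inr 0 => sV (.inl 0)
  | .inr 1 => sV (.inl 1)

def matS : Matrix (Fin 6) I4 (ZMod 2) := Matrix.of fun i b => sV b i
def matR : Matrix I4 (Fin 6) (ZMod 2) := Matrix.of fun a i => rV a i

/-- The even-weight condition. -/
def evenV (x : V6) : Prop := ∑ i, x i = 0

instance : DecidablePred evenV := fun x => inferInstanceAs (Decidable (∑ i, x i = 0))

set_option maxRecDepth 100000 in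
lemma matR_matS : matR * matS = 1 := by decide +kernel

set_option maxRecDepth 100000 in
lemma matS_even : ∀ y : I4 → ZMod 2, evenV (matS *ᵥ y) := by decide +kernel

set_option maxRecDepth 100000 in
lemma matS_matR_even : ∀ x : V6, evenV x →
    matS *ᵥ (matR *ᵥ x) = x ∨ matS *ᵥ (matR *ᵥ x) = x + fun _ => 1 := by decide +kernel

set_option maxRecDepth 100000 in
lemma matR_one : matR *ᵥ (fun _ => 1 : V6) = 0 := by decide +kernel

set_option maxRecDepth 100000 in
lemma form_even : ∀ x y : V6, evenV x → evenV y →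
    (matR *ᵥ x) ⬝ᵥ (J (Fin 2) (ZMod 2) *ᵥ (matR *ᵥ y)) = x ⬝ᵥ y := by decide +kernel

/-- Permuting coordinates. -/
def actV (σ : Equiv.Perm (Fin 6)) (x : V6) : V6 := fun i => x (σ⁻¹ i)

lemma actV_add (σ : Equiv.Perm (Fin 6)) (x y : V6) : actV σ (x + y) = actV σ x + actV σ y := rfl

lemma actV_one (σ : Equiv.Perm (Fin 6)) : actV σ (fun _ => 1) = fun _ => 1 := rfl

lemma actV_mul (σ τ : Equiv.Perm (Fin 6)) (x : V6) : actV (σ * τ) x = actV σ (actV τ x) := by
  funext i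
  simp [actV]

lemma actV_even (σ : Equiv.Perm (Fin 6)) {x : V6} (h : evenV x) : evenV (actV σ x) := by
  have : ∑ i, actV σ x i = ∑ i, x i := Equiv.sum_comp σ⁻¹ x
  exact this.trans h

lemma actV_dot (σ : Equiv.Perm (Fin 6)) (x y : V6) : actV σ x ⬝ᵥ actV σ y = x ⬝ᵥ y :=
  Equiv.sum_comp σ⁻¹ (fun i => x i * y i)

/-- The permutation matrix of `σ⁻¹`. -/
def matP (σ : Equiv.Perm (Fin 6)) : Matrix (Fin 6) (Fin 6) (ZMod 2) :=
  PEquiv.toMatrix (σ⁻¹ : Equiv.Perm (Fin 6)).toPEquiv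

/-- The matrix of a permutation. -/
def matA (σ : Equiv.Perm (Fin 6)) : Matrix I4 I4 (ZMod 2) :=
  matR * matP σ * matS

lemma matA_mulVec (σ : Equiv.Perm (Fin 6)) (y : I4 → ZMod 2) :
    matA σ *ᵥ y = matR *ᵥ (actV σ (matS *ᵥ y)) := by
  rw [matA, ← Matrix.mulVec_mulVec, ← Matrix.mulVec_mulVec, matP, PEquiv.toMatrix_toPEquiv_mulVec]
  rfl

lemma mat_ext_I4 {A B : Matrix I4 I4 (ZMod 2)} (h : ∀ y, A *ᵥ y = B *ᵥ y) : A = B :=
  Matrix.ext_of_mulVec_single (fun i => h _)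

lemma matA_mul (σ τ : Equiv.Perm (Fin 6)) : matA (σ * τ) = matA σ * matA τ := by
  apply mat_ext_I4
  intro y
  rw [← Matrix.mulVec_mulVec, matA_mulVec, matA_mulVec, matA_mulVec τ, actV_mul]
  have h := actV_even τ (matS_even y)
  rcases matS_matR_even _ h with h1 | h1
  · rw [h1]
  · rw [h1, actV_add, actV_one, Matrix.mulVec_add, matR_one, add_zero]

lemma matR_matS_mulVec (y : I4 → ZMod 2) : matR *ᵥ (matS *ᵥ y) = y := by
  rw [Matrix.mulVec_mulVec, matR_matS, Matrix.one_mulVec]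

lemma matA_one : matA 1 = 1 := by
  apply mat_ext_I4
  intro y
  rw [matA_mulVec]
  have : actV 1 (matS *ᵥ y) = matS *ᵥ y := rfl
  rw [this, matR_matS_mulVec, Matrix.one_mulVec]

lemma matA_form (σ : Equiv.Perm (Fin 6)) (u v : I4 → ZMod 2) :
    (matA σ *ᵥ u) ⬝ᵥ (J (Fin 2) (ZMod 2) *ᵥ (matA σ *ᵥ v)) = u ⬝ᵥ (J (Fin 2) (ZMod 2) *ᵥ v) := by
  rw [matA_mulVec, matA_mulVec, form_even _ _ (actV_even σ (matS_even u)) (actV_even σ (matS_even v)),
    actV_dot]
  have h := form_even _ _ (matS_even u) (matS_even v)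
  rw [← h, matR_matS_mulVec, matR_matS_mulVec]

lemma mat_ext_form {M N : Matrix I4 I4 (ZMod 2)}
    (h : ∀ u v, u ⬝ᵥ (M *ᵥ v) = u ⬝ᵥ (N *ᵥ v)) : M = N := by
  apply mat_ext_I4
  intro v
  funext a
  have := h (Pi.single a 1) v
  simpa using this

lemma matA_mem (σ : Equiv.Perm (Fin 6)) : matA σ ∈ symplecticGroup (Fin 2) (ZMod 2) := by
  rw [SymplecticGroup.mem_iff']
  apply mat_ext_form
  intro u v
  rw [← matA_form σ u v, ← Matrix.mulVec_mulVec, ← Matrix.mulVec_mulVec,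
    Matrix.dotProduct_mulVec u, Matrix.vecMul_transpose]

/-- The homomorphism `S_6 → Sp_4(2)`. -/
def sp42Hom : Equiv.Perm (Fin 6) →* symplecticGroup (Fin 2) (ZMod 2) where
  toFun σ := ⟨matA σ, matA_mem σ⟩
  map_one' := Subtype.ext matA_one
  map_mul' σ τ := Subtype.ext (matA_mul σ τ)

set_option maxRecDepth 100000 in
lemma matA_inj_aux : ∀ σ : Equiv.Perm (Fin 6), matA σ = 1 → σ = 1 := by
  decide +kernel

lemma sp42Hom_inj : Function.Injective sp42Hom := by
  rw [injective_iff_map_eq_one]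
  intro σ h
  exact matA_inj_aux σ (congrArg Subtype.val h)

lemma sp42Hom_bij : Function.Bijective sp42Hom := by
  refine (Nat.bijective_iff_injective_and_card _).2 ⟨sp42Hom_inj, ?_⟩
  rw [card_Sp (q := 2) (by simp [ZMod.card]) 2]
  simp [Nat.card_eq_fintype_card, Fintype.card_perm, Finset.prod_range_succ]
  decide

/-- A ring isomorphism induces an isomorphism of symplectic groups. -/
def spCongr {l : Type*} [Fintype l] [DecidableEq l] {F F' : Type*} [CommRing F] [CommRing F']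
    (e : F ≃+* F') : symplecticGroup l F ≃* symplecticGroup l F' where
  toFun g := ⟨g.1.map e, SymplecticGroup.map_mem g.2 e⟩
  invFun g := ⟨g.1.map e.symm, SymplecticGroup.map_mem g.2 e.symm⟩
  left_inv g := by
    apply Subtype.ext
    ext i j
    exact e.symm_apply_apply _
  right_inv g := by
    apply Subtype.ext
    ext i j
    exact e.apply_symm_apply _
  map_mul' g h := by
    apply Subtype.ext
    change (g.1 * h.1).map e = g.1.map e * h.1.map e
    ext i j
    simp [Matrix.mul_apply]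

theorem sp42_equiv_perm {F : Type*} [Field F] [Fintype F] (hF : Fintype.card F = 2) :
    Nonempty (symplecticGroup (Fin 2) F ≃* Equiv.Perm (Fin 6)) := by
  have : Fact (Nat.Prime 2) := ⟨by norm_num⟩
  have e : F ≃+* ZMod 2 := FiniteField.ringEquivOfCardEq (by rw [hF, ZMod.card])
  exact ⟨(spCongr e).trans (MulEquiv.ofBijective sp42Hom sp42Hom_bij).symm⟩

end Cfsg.Agent.Lead
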